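import Mathlib

set_option autoImplicit false

namespace Cfsg.Agent.Helper73

open MulAction

/-- Counting lemma: a `q`-group acting by automorphisms on a group of order `p ^ d`, where `q` divides
none of `p ^ i - 1` for `1 ≤ i ≤ d`, acts trivially. -/
theorem smul_eq_of_isPGroup_of_card {A V : Type*} [Group A] [Group V] [Finite V] [MulAction A V]
    (hmul : ∀ (a : A) (v w : V), a • (v * w) = a • v * a • w)
    {p q d : ℕ} [hp : Fact p.Prime] [hq' : Fact q.Prime] (hA : IsPGroup q A)
    (hV : Nat.card V = p ^ d)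
    (hq : ∀ i, 1 ≤ i → i ≤ d → ¬ q ∣ p ^ i - 1) (hpq : p ≠ q) (a : A) (v : V) : a • v = v := by
  have hone : ∀ a : A, a • (1 : V) = 1 := by
    intro a
    have h := hmul a 1 1
    rw [mul_one] at h
    have h2 : a • (1 : V) * a • (1 : V) = a • (1 : V) * 1 := by rw [← h, mul_one]
    exact mul_left_cancel h2
  let F : Subgroup V :=
    { carrier := fixedPoints A V
      one_mem' := fun a => hone a
      mul_mem' := fun {v w} hv hw a => by rw [hmul, hv a, hw a]
      inv_mem' := fun {v} hv a => by
        have h1 : a • v⁻¹ * a • v = 1 := by rw [← hmul, inv_mul_cancel, hone]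
        rw [hv a] at h1
        exact eq_inv_of_mul_eq_one_left h1 }
  have hF : Nat.card F = Nat.card (fixedPoints A V) := rfl
  have hmod := hA.card_modEq_card_fixedPoints V
  have hdvd : Nat.card F ∣ p ^ d := hV ▸ F.card_subgroup_dvd_card
  obtain ⟨c, hc, hFc⟩ := (Nat.dvd_prime_pow hp.out).1 hdvd
  rw [hV, ← hF, hFc] at hmod
  by_cases hcd : c = d
  · have hFtop : F = ⊤ := (Subgroup.card_eq_iff_eq_top F).1 (by rw [hFc, hcd, hV])
    have hv : v ∈ F := hFtop ▸ Subgroup.mem_top v
    exact hv a
  · exfalso
    have hlt : c < d := lt_of_le_of_ne hc hcd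
    have hle : p ^ c ≤ p ^ d := Nat.pow_le_pow_right hp.out.pos hc
    have h1 : q ∣ p ^ d - p ^ c := (Nat.modEq_iff_dvd' hle).1 hmod.symm
    have h2 : p ^ d - p ^ c = p ^ c * (p ^ (d - c) - 1) := by
      rw [Nat.mul_sub, mul_one, ← pow_add]; congr 2; omega
    rw [h2] at h1
    have hcop : Nat.Coprime q (p ^ c) :=
      Nat.Coprime.pow_right c ((Nat.coprime_primes hq'.out hp.out).2 hpq.symm)
    exact hq (d - c) (by omega) (by omega) (hcop.dvd_of_dvd_mul_left h1)

/-- A `q`-group acting by automorphisms on a finite `p`-group `Q` with `|Q : Φ(Q)| = p ^ d`, where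
`q` divides none of `p ^ i - 1` for `1 ≤ i ≤ d`, acts trivially. -/
theorem coprime_action_trivial {A Q : Type*} [Group A] [Group Q] [Finite Q]
    [MulDistribMulAction A Q]
    {p q d : ℕ} [hp : Fact p.Prime] [hq' : Fact q.Prime] (hA : IsPGroup q A) (hQ : IsPGroup p Q)
    (hidx : (frattini Q).index = p ^ d) (hq : ∀ i, 1 ≤ i → i ≤ d → ¬ q ∣ p ^ i - 1) (hpq : p ≠ q)
    (a : A) (x : Q) : a • x = x := by
  classical
  set Φ := frattini Q with hΦ
  have hchar : ∀ (b : A) (y : Q), y ∈ Φ → b • y ∈ Φ := by
    intro b y hy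
    have h := (Subgroup.characteristic_iff_map_le.1 (frattini_characteristic (G := Q)))
      (MulDistribMulAction.toMulAut A Q b)
    exact h ⟨y, hy, rfl⟩
  haveI : MulAction.QuotientAction A Φ := ⟨fun b {y y'} h => by
    have : (b • y)⁻¹ * b • y' = b • (y⁻¹ * y') := by rw [smul_mul', smul_inv']
    rw [this]; exact hchar b _ h⟩
  -- Step 1: trivial action on the Frattini quotient
  have hstep1 : ∀ (b : A) (v : Q ⧸ Φ), b • v = v := by
    intro b v
    apply smul_eq_of_isPGroup_of_card (p := p) (q := q) (d := d) _ hA _ hq hpq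
    · intro b v w
      induction v using QuotientGroup.induction_on with | _ y => ?_
      induction w using QuotientGroup.induction_on with | _ z => ?_
      rw [← QuotientGroup.mk_mul, MulAction.Quotient.smul_mk, smul_mul']
      rfl
    · rw [← hidx]; rfl
  have hmem : ∀ (b : A) (y : Q), y⁻¹ * b • y ∈ Φ := by
    intro b y
    have := hstep1 b (y : Q ⧸ Φ)
    rw [MulAction.Quotient.smul_mk] at this
    exact QuotientGroup.eq.1 this.symm
  -- Step 2: fixed points in each coset
  have hfix : ∀ y : Q, ∃ n ∈ Φ, ∀ b : A, b • (y * n) = y * n := by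
    intro y
    let X : SubMulAction A Q :=
      { carrier := {w | y⁻¹ * w ∈ Φ}
        smul_mem' := fun b w hw => by
          show y⁻¹ * b • w ∈ Φ
          have : y⁻¹ * b • w = (y⁻¹ * b • y) * b • (y⁻¹ * w) := by
            rw [smul_mul', smul_inv']; group
          rw [this]; exact Φ.mul_mem (hmem b y) (hchar b _ hw) }
    have hXcard : Nat.card X = Nat.card Φ := by
      apply Nat.card_congr
      exact
        { toFun := fun w => ⟨y⁻¹ * w.1, w.2⟩
          invFun := fun n => ⟨y * n.1, by
            show y⁻¹ * (y * n.1) ∈ Φ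
            rw [inv_mul_cancel_left]; exact n.2⟩
          left_inv := fun w => by
            apply Subtype.ext
            show y * (y⁻¹ * w.1) = w.1
            rw [mul_inv_cancel_left]
          right_inv := fun n => by
            apply Subtype.ext
            show y⁻¹ * (y * n.1) = n.1
            rw [inv_mul_cancel_left] }
    obtain ⟨m, hm⟩ := IsPGroup.iff_card.1 (hQ.to_subgroup Φ)
    have hnd : ¬ q ∣ Nat.card X := by
      rw [hXcard, hm]
      intro h
      exact hpq.symm ((Nat.prime_dvd_prime_iff_eq hq'.out hp.out).1 (hq'.out.dvd_of_dvd_pow h))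
    obtain ⟨w, hw⟩ := hA.nonempty_fixed_point_of_prime_not_dvd_card X hnd
    refine ⟨y⁻¹ * w.1, w.2, fun b => ?_⟩
    rw [mul_inv_cancel_left]
    have := hw b
    exact congrArg Subtype.val this
  -- Step 3: the fixed points together with the Frattini subgroup generate
  let F : Subgroup Q :=
    { carrier := {w | ∀ b : A, b • w = w}
      one_mem' := fun b => smul_one b
      mul_mem' := fun {v w} hv hw b => by rw [smul_mul', hv b, hw b]
      inv_mem' := fun {v} hv b => by rw [smul_inv', hv b] }
  have hsup : F ⊔ Φ = ⊤ := by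
    rw [eq_top_iff]
    intro y _
    obtain ⟨n, hn, hb⟩ := hfix y
    have : y = (y * n) * n⁻¹ := by group
    rw [this]
    exact Subgroup.mul_mem_sup hb (Φ.inv_mem hn)
  have hF : F = ⊤ := frattini_nongenerating hsup
  have : x ∈ F := hF ▸ Subgroup.mem_top x
  exact this a

end Cfsg.Agent.Helper73
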