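import Mathlib

set_option autoImplicit false

namespace Cfsg.Agent.Helper73

section
variable {X : Type*} [Group X]

/-- `y^n x = x y^n d^n` where `d = y⁻¹x⁻¹yx` is central -/
theorem pow_mul_comm_class_two (x y : X) (hd : ∀ z : X, Commute (y⁻¹ * x⁻¹ * y * x) z) (n : ℕ) :
    y ^ n * x = x * y ^ n * (y⁻¹ * x⁻¹ * y * x) ^ n := by
  set d := y⁻¹ * x⁻¹ * y * x with hddef
  have hyx : y * x = x * y * d := by rw [hddef]; group
  induction n with
  | zero => simp
  | succ n ih =>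
    have hdn : Commute (d ^ n) y := (hd y).pow_left n
    have hd1 : Commute d (y ^ n) := hd (y ^ n)
    calc y ^ (n + 1) * x = y * (y ^ n * x) := by rw [pow_succ']; group
      _ = y * (x * y ^ n * d ^ n) := by rw [ih]
      _ = (y * x) * y ^ n * d ^ n := by group
      _ = x * y * d * y ^ n * d ^ n := by rw [hyx]
      _ = x * y * (d * y ^ n) * d ^ n := by group
      _ = x * y * (y ^ n * d) * d ^ n := by rw [hd1.eq]
      _ = x * (y * y ^ n) * (d * d ^ n) := by group
      _ = x * y ^ (n + 1) * d ^ (n + 1) := by rw [← pow_succ', ← pow_succ']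

/-- `(xy)^n = x^n y^n d^(0+1+…+(n-1))` -/
theorem mul_pow_class_two (x y : X) (hd : ∀ z : X, Commute (y⁻¹ * x⁻¹ * y * x) z) (n : ℕ) :
    (x * y) ^ n = x ^ n * y ^ n * (y⁻¹ * x⁻¹ * y * x) ^ (∑ i ∈ Finset.range n, i) := by
  set d := y⁻¹ * x⁻¹ * y * x with hddef
  induction n with
  | zero => simp
  | succ n ih =>
    have h1 := pow_mul_comm_class_two x y hd n
    rw [← hddef] at h1
    have hdy : Commute (d ^ (∑ i ∈ Finset.range n, i)) (x * y) := (hd (x * y)).pow_left _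
    have hdy' : Commute (d ^ n) y := (hd y).pow_left _
    calc (x * y) ^ (n + 1) = (x * y) ^ n * (x * y) := pow_succ _ _
      _ = x ^ n * y ^ n * d ^ (∑ i ∈ Finset.range n, i) * (x * y) := by rw [ih]
      _ = x ^ n * y ^ n * ((x * y) * d ^ (∑ i ∈ Finset.range n, i)) := by
          rw [mul_assoc, hdy.eq]
      _ = x ^ n * (y ^ n * x) * y * d ^ (∑ i ∈ Finset.range n, i) := by group
      _ = x ^ n * (x * y ^ n * d ^ n) * y * d ^ (∑ i ∈ Finset.range n, i) := by rw [h1]
      _ = x ^ n * x * y ^ n * (d ^ n * y) * d ^ (∑ i ∈ Finset.range n, i) := by group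
      _ = x ^ n * x * y ^ n * (y * d ^ n) * d ^ (∑ i ∈ Finset.range n, i) := by rw [hdy'.eq]
      _ = (x ^ n * x) * (y ^ n * y) * (d ^ n * d ^ (∑ i ∈ Finset.range n, i)) := by group
      _ = x ^ (n + 1) * y ^ (n + 1) * d ^ (∑ i ∈ Finset.range (n + 1), i) := by
          rw [← pow_succ, ← pow_succ, ← pow_add, Finset.sum_range_succ,
            add_comm n (∑ i ∈ Finset.range n, i)]

/-- the `2^s`-power map is multiplicative when the relevant commutator has order dividing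
`2^(s-1)` -/
theorem mul_pow_two_pow_class_two (x y : X) (hd : ∀ z : X, Commute (y⁻¹ * x⁻¹ * y * x) z)
    (s : ℕ) (hs : 1 ≤ s) (hds : (y⁻¹ * x⁻¹ * y * x) ^ (2 ^ (s - 1)) = 1) :
    (x * y) ^ (2 ^ s) = x ^ (2 ^ s) * y ^ (2 ^ s) := by
  rw [mul_pow_class_two x y hd]
  have h1 : (∑ i ∈ Finset.range (2 ^ s), i) = 2 ^ (s - 1) * (2 ^ s - 1) := by
    have h2 := Finset.sum_range_id_mul_two (2 ^ s)
    have h3 : 2 ^ s = 2 ^ (s - 1) * 2 := by
      rw [← pow_succ]; congr 1; omega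
    have h4 : (∑ i ∈ Finset.range (2 ^ s), i) * 2 = (2 ^ (s - 1) * (2 ^ s - 1)) * 2 := by
      rw [h2]
      nth_rewrite 1 [h3]
      ring
    exact Nat.eq_of_mul_eq_mul_right (by norm_num) h4
  rw [h1, pow_mul, hds, one_pow, mul_one]

end

end Cfsg.Agent.Helper73
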