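import Mathlib
import Cfsg.Prelude.Def_OddOrderLocal
import Cfsg.Agent.S0014
import Cfsg.Agent.Lib.Helper73.CoprimeFrattini

set_option autoImplicit false

namespace Cfsg.Agent.Helper73

/-- A group embedding in a metacyclic group is generated by two elements. -/
theorem exists_two_gen_of_injective {Q R : Type*} [Group Q] [Group R] (f : Q →* R)
    (hf : Function.Injective f) (hR : Cfsg.IsMetacyclic R) :
    ∃ x y : Q, Subgroup.closure ({x, y} : Set Q) = ⊤ := by
  obtain ⟨N, hN, hNc, hRNc⟩ := hR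
  set M := N.comap f with hM
  have hMn : M.Normal := hN.comap f
  have hMc : IsCyclic M := by
    let φ : M →* N := f.subgroupComap N
    apply isCyclic_of_injective φ
    intro a b h
    apply Subtype.ext
    apply hf
    exact congrArg Subtype.val h
  have hQMc : IsCyclic (Q ⧸ M) := by
    let ψ : Q ⧸ M →* R ⧸ N := QuotientGroup.map M N f le_rfl
    apply isCyclic_of_injective ψ
    rw [injective_iff_map_eq_one]
    intro a ha
    induction a using QuotientGroup.induction_on with | _ x => ?_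
    have ha' : ((f x : R) : R ⧸ N) = 1 := ha
    rw [QuotientGroup.eq_one_iff] at ha'
    exact (QuotientGroup.eq_one_iff x).2 ha'
  obtain ⟨x, hx⟩ := hMc.exists_generator
  obtain ⟨ybar, hy⟩ := hQMc.exists_generator
  obtain ⟨y, rfl⟩ := QuotientGroup.mk_surjective ybar
  refine ⟨x.1, y, ?_⟩
  rw [eq_top_iff]
  intro g _
  obtain ⟨i, hi⟩ := Subgroup.mem_zpowers_iff.1 (hy (g : Q ⧸ M))
  have h1 : (y ^ i)⁻¹ * g ∈ M := by
    rw [← QuotientGroup.eq, QuotientGroup.mk_zpow]; exact hi
  obtain ⟨j, hj⟩ := Subgroup.mem_zpowers_iff.1 (hx ⟨_, h1⟩)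
  have h2 : g = y ^ i * (x.1) ^ j := by
    have h3 : (x.1) ^ j = (y ^ i)⁻¹ * g := by
      have := congrArg Subtype.val hj
      simpa using this
    rw [h3]; group
  rw [h2]
  exact Subgroup.mul_mem _ (Subgroup.zpow_mem _ (Subgroup.subset_closure (by simp)) i)
    (Subgroup.zpow_mem _ (Subgroup.subset_closure (by simp)) j)

/-- The Frattini quotient of a two-generated `p`-group has order at most `p ^ 2`. -/
theorem frattini_index_le_two {Q : Type*} [Group Q] [Finite Q] {p : ℕ} [Fact p.Prime]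
    (hQ : IsPGroup p Q) (x y : Q) (hxy : Subgroup.closure ({x, y} : Set Q) = ⊤) :
    ∃ d ≤ 2, (frattini Q).index = p ^ d := by
  classical
  obtain ⟨d, hd⟩ := hQ.index (frattini Q)
  refine ⟨d, ?_, hd⟩
  have := (Cfsg.Agent.S0014.result p d hQ hd).2 ({x, y} : Finset Q)
    (by rw [Finset.coe_pair]; exact hxy)
  exact this.trans Finset.card_le_two

/-- A `q`-element normalizing a two-generated `p`-subgroup centralizes it, if `q ∤ p ^ 2 - 1`. -/
theorem mem_centralizer_of_not_dvd {G : Type*} [Group G] [Finite G] {p q : ℕ} [hp : Fact p.Prime]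
    [hq' : Fact q.Prime] (hpq : p ≠ q) (hq : ¬ q ∣ p ^ 2 - 1) (Q : Subgroup G) (hQ : IsPGroup p Q)
    (x y : Q) (hxy : Subgroup.closure ({x, y} : Set Q) = ⊤)
    (h : G) (hh : h ∈ Subgroup.normalizer (Q : Set G)) (k : ℕ) (hk : h ^ (q ^ k) = 1) :
    h ∈ Subgroup.centralizer (Q : Set G) := by
  obtain ⟨d, hd2, hd⟩ := frattini_index_le_two hQ x y hxy
  set h' : Subgroup.normalizer (Q : Set G) := ⟨h, hh⟩ with hh'
  set A := Subgroup.zpowers h' with hA0
  have hA : IsPGroup q A := by
    have h1 : h' ^ (q ^ k) = 1 := Subtype.ext (by simpa using hk)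
    have hdvd := orderOf_dvd_of_pow_eq_one h1
    obtain ⟨m, -, hm⟩ := (Nat.dvd_prime_pow hq'.out).1 hdvd
    exact IsPGroup.of_card (n := m) (by rw [Nat.card_zpowers, hm])
  have hqi : ∀ i, 1 ≤ i → i ≤ d → ¬ q ∣ p ^ i - 1 := by
    intro i hi1 hid
    have : i = 1 ∨ i = 2 := by omega
    rcases this with rfl | rfl
    · intro hdiv; apply hq
      have h1 : p ^ 2 - 1 = (p ^ 1 - 1) * (p + 1) := by
        have hp1 : 1 ≤ p := hp.out.pos
        obtain ⟨r, rfl⟩ : ∃ r, p = r + 1 := ⟨p - 1, by omega⟩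
        simp only [pow_one, Nat.add_sub_cancel]
        have : (r + 1) ^ 2 = r * (r + 1 + 1) + 1 := by ring
        rw [this, Nat.add_sub_cancel]
      rw [h1]; exact Dvd.dvd.mul_right hdiv _
    · exact hq
  rw [Subgroup.mem_centralizer_iff]
  intro z hz
  have h2 := coprime_action_trivial hA hQ hd hqi hpq (⟨h', Subgroup.mem_zpowers h'⟩ : A)
    (⟨z, hz⟩ : Q)
  have h3 : h * z * h⁻¹ = z := congrArg Subtype.val h2
  calc z * h = (h * z * h⁻¹) * h := by rw [h3]
    _ = h * z := by group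

end Cfsg.Agent.Helper73
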