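import Mathlib
import Cfsg.Agent.Lib.Helper5.SL23

set_option autoImplicit false

namespace Cfsg.Agent.Helper73

open Cfsg.Agent.Helper5

/-- the map of `Q₈` determined by the images `u`, `v` of the two standard generators -/
def wmap (u v : QuaternionGroup 2) : QuaternionGroup 2 → QuaternionGroup 2
  | .a i => u ^ i.val
  | .xa i => v * u ^ i.val

set_option maxRecDepth 1000000 in
set_option maxHeartbeats 4000000 in
/-- every automorphism of `Q₈` of order dividing `3` is induced by conjugation with an element of
order dividing `3` of `SL₂(3)` -/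
lemma conj_realize : ∀ u v : QuaternionGroup 2,
    (∀ x y, wmap u v (x * y) = wmap u v x * wmap u v y) →
    (∀ x, wmap u v (wmap u v (wmap u v x)) = x) →
    ∃ t : SL23, t ^ 3 = 1 ∧ ∀ x, qf (wmap u v x) = t * qf x * t⁻¹ := by
  decide

lemma wmap_eq (α : QuaternionGroup 2 →* QuaternionGroup 2) (x : QuaternionGroup 2) :
    wmap (α (QuaternionGroup.a 1)) (α (QuaternionGroup.xa 0)) x = α x := by
  cases x with
  | a i =>
    show α (QuaternionGroup.a 1) ^ i.val = α (QuaternionGroup.a i)
    rw [← map_pow, QuaternionGroup.a_one_pow, ZMod.natCast_zmod_val]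
  | xa i =>
    show α (QuaternionGroup.xa 0) * α (QuaternionGroup.a 1) ^ i.val = α (QuaternionGroup.xa i)
    rw [← map_pow, ← map_mul, QuaternionGroup.a_one_pow, ZMod.natCast_zmod_val,
      QuaternionGroup.xa_mul_a, zero_add]

/-- Recognition of `SL₂(3)`: a group of order `24` with a normal quaternion subgroup of order `8`
and an element of order `3` not centralizing it. -/
theorem sl23_recog {X : Type*} [Group X] [Finite X] (hX : Nat.card X = 24) (N : Subgroup X)
    [hN : N.Normal] (e : N ≃* QuaternionGroup 2) (c : X) (hc3 : c ^ 3 = 1)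
    (hcN : c ∉ Subgroup.centralizer (N : Set X)) : Nonempty (X ≃* SL23) := by
  classical
  have hf3 : Fact (Nat.Prime 3) := ⟨Nat.prime_three⟩
  have hc1 : c ≠ 1 := by
    rintro rfl
    exact hcN (Subgroup.one_mem _)
  have hoc : orderOf c = 3 := orderOf_eq_prime hc3 hc1
  set C := Subgroup.zpowers c with hC
  have hCcard : Nat.card C = 3 := by rw [hC, Nat.card_zpowers, hoc]
  have hNcard : Nat.card N = 8 := by
    rw [Nat.card_congr e.toEquiv, Nat.card_eq_fintype_card, QuaternionGroup.card]
  have hcompl : N.IsComplement' C := by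
    apply Subgroup.isComplement'_of_coprime
    · rw [hNcard, hCcard, hX]
    · rw [hNcard, hCcard]; norm_num
  -- the automorphism of `Q₈` induced by `c`
  let α : QuaternionGroup 2 ≃* QuaternionGroup 2 :=
    e.symm.trans ((MulAut.conjNormal c : MulAut N).trans e)
  have hα : ∀ x, α x = e (MulAut.conjNormal c (e.symm x)) := fun x => rfl
  have hα3 : ∀ x, α (α (α x)) = x := by
    intro x
    simp only [hα, MulEquiv.symm_apply_apply]
    have h1 : ∀ n : N, MulAut.conjNormal c (MulAut.conjNormal c (MulAut.conjNormal c n)) = n := by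
      intro n
      have : (MulAut.conjNormal c : MulAut N) ^ 3 = 1 := by rw [← map_pow, hc3, map_one]
      have h2 := congrArg (fun β : MulAut N => β n) this
      simpa [pow_succ] using h2
    rw [h1, MulEquiv.apply_symm_apply]
  have hw : ∀ x, wmap (α (QuaternionGroup.a 1)) (α (QuaternionGroup.xa 0)) x = α x :=
    fun x => wmap_eq α.toMonoidHom x
  obtain ⟨t, ht3, ht⟩ := conj_realize (α (QuaternionGroup.a 1)) (α (QuaternionGroup.xa 0))
    (by intro x y; rw [hw, hw, hw]; exact map_mul α x y)
    (by intro x; rw [hw, hw, hw]; exact hα3 x)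
  let f : N →* SL23 := qHom.comp e.toMonoidHom
  have hfinj : Function.Injective f := qHom_injective.comp e.injective
  have hf : ∀ n : N, f (MulAut.conjNormal c n) = t * f n * t⁻¹ := by
    intro n
    have h1 := ht (e n)
    rw [hw] at h1
    have h2 : α (e n) = e (MulAut.conjNormal c n) := by
      rw [hα, MulEquiv.symm_apply_apply]
    rw [h2] at h1
    exact h1
  have ht1 : t ≠ 1 := by
    rintro rfl
    apply hcN
    rw [Subgroup.mem_centralizer_iff]
    intro n hn
    have h1 := hf ⟨n, hn⟩
    rw [one_mul, inv_one, mul_one] at h1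
    have h2 := hfinj h1
    have h3 := congrArg Subtype.val h2
    rw [MulAut.conjNormal_apply] at h3
    simp only at h3
    calc n * c = (c * n * c⁻¹) * c := by rw [h3]
      _ = c * n := by group
  have hot : orderOf t = 3 := orderOf_eq_prime ht3 ht1
  set c0 : C := ⟨c, Subgroup.mem_zpowers c⟩ with hc0
  have hoc0 : orderOf c0 = 3 := by rw [← hoc]; exact Subgroup.orderOf_mk c _
  have hc0gen : ∀ x : C, x ∈ Subgroup.zpowers c0 := by
    intro x
    obtain ⟨j, hj⟩ := Subgroup.mem_zpowers_iff.1 x.2
    exact Subgroup.mem_zpowers_iff.2 ⟨j, Subtype.ext (by simpa using hj)⟩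
  let g : C →* SL23 := monoidHomOfForallMemZpowers hc0gen (g' := t) (by rw [hot, hoc0])
  have hg0 : g c0 = t := monoidHomOfForallMemZpowers_apply_gen hc0gen _
  have hpow : ∀ x : C, ∃ j : ℕ, c0 ^ j = x := by
    intro x
    have := (mem_powers_iff_mem_zpowers (x := c0) (y := x)).2 (hc0gen x)
    exact (Submonoid.mem_powers_iff _ _).1 this
  set φ : C →* MulAut N := (N.normalizerMonoidHom).comp
    (Subgroup.inclusion (N.normalizer_eq_top ▸ le_top)) with hφ
  have hφc0 : ∀ n : N, φ c0 n = MulAut.conjNormal c n := by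
    intro n
    apply Subtype.ext
    rw [MulAut.conjNormal_apply]
    rfl
  have hlift : ∀ k : C, f.comp (φ k).toMonoidHom = (MulAut.conj (g k)).toMonoidHom.comp f := by
    intro k
    obtain ⟨j, rfl⟩ := hpow k
    induction j with
    | zero =>
      ext n
      simp
    | succ j ih =>
      apply MonoidHom.ext
      intro n
      have ih' : ∀ n : N, f (φ (c0 ^ j) n) = g (c0 ^ j) * f n * (g (c0 ^ j))⁻¹ := by
        intro n
        have := DFunLike.congr_fun ih n
        exact this
      show f (φ (c0 ^ (j + 1)) n) = g (c0 ^ (j + 1)) * f n * (g (c0 ^ (j + 1)))⁻¹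
      rw [pow_succ, map_mul, map_mul, MulAut.mul_apply, ih', hφc0, hf, hg0]
      group
  let L : N ⋊[φ] C →* SL23 := SemidirectProduct.lift f g hlift
  have hLinj : Function.Injective L := by
    rw [injective_iff_map_eq_one]
    intro y hy
    have hy' : f y.left * g y.right = 1 := hy
    have h8 : (f y.left) ^ 8 = 1 := by
      have : y.left ^ 8 = 1 := by rw [← hNcard]; exact pow_card_eq_one'
      rw [← map_pow, this, map_one]
    have h3 : (g y.right) ^ 3 = 1 := by
      have : y.right ^ 3 = 1 := by rw [← hCcard]; exact pow_card_eq_one'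
      rw [← map_pow, this, map_one]
    have hgf : g y.right = (f y.left)⁻¹ := eq_inv_of_mul_eq_one_right hy'
    have h8' : (g y.right) ^ 8 = 1 := by rw [hgf, inv_pow, h8, inv_one]
    have hg1 : g y.right = 1 := by
      have : (g y.right) ^ 9 = 1 := by
        have : (g y.right) ^ 9 = ((g y.right) ^ 3) ^ 3 := by rw [← pow_mul]
        rw [this, h3, one_pow]
      have h9 : (g y.right) ^ 9 = (g y.right) ^ 8 * g y.right := pow_succ _ 8
      rw [this, h8', one_mul] at h9
      exact h9.symm
    have hf1 : f y.left = 1 := by rw [hg1, mul_one] at hy'; exact hy'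
    have hn1 : y.left = 1 := hfinj (by rw [hf1, map_one])
    have hk1 : y.right = 1 := by
      obtain ⟨j, hj⟩ := hpow y.right
      rw [← hj, map_pow, hg0] at hg1
      have h3j : 3 ∣ j := by rw [← hot]; exact orderOf_dvd_of_pow_eq_one hg1
      obtain ⟨j', rfl⟩ := h3j
      rw [← hj, pow_mul, ← hoc0, pow_orderOf_eq_one, one_pow]
    exact SemidirectProduct.ext hn1 hk1
  have hLbij : Function.Bijective L := by
    apply hLinj.bijective_of_nat_card_le
    rw [SemidirectProduct.card, hNcard, hCcard, card_SL23]
  exact ⟨(SemidirectProduct.mulEquivSubgroup hcompl).symm.trans (MulEquiv.ofBijective L hLbij)⟩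

/-- A surjection onto `SL₂(3)`: a finite group generated by a normal quaternion subgroup of order `8`
and a `3`-element not centralizing it, whose cube centralizes it. -/
theorem sl23_surj {X : Type*} [Group X] [Finite X] (N : Subgroup X)
    [hN : N.Normal] (e : N ≃* QuaternionGroup 2) (c : X) (k : ℕ) (hck : c ^ (3 ^ k) = 1)
    (hc3 : c ^ 3 ∈ Subgroup.centralizer (N : Set X))
    (hcN : c ∉ Subgroup.centralizer (N : Set X)) (hsup : N ⊔ Subgroup.zpowers c = ⊤) :
    ∃ F : X →* SL23, Function.Surjective F := by
  classical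
  have hf3 : Fact (Nat.Prime 3) := ⟨Nat.prime_three⟩
  have hc1 : c ≠ 1 := by
    rintro rfl
    exact hcN (Subgroup.one_mem _)
  obtain ⟨j, hjk, hoc⟩ := (Nat.dvd_prime_pow Nat.prime_three).1 (orderOf_dvd_of_pow_eq_one hck)
  have hj0 : j ≠ 0 := by
    rintro rfl
    rw [pow_zero, orderOf_eq_one_iff] at hoc
    exact hc1 hoc
  set C := Subgroup.zpowers c with hC
  have hCcard : Nat.card C = 3 ^ j := by rw [hC, Nat.card_zpowers, hoc]
  have hNcard : Nat.card N = 8 := by
    rw [Nat.card_congr e.toEquiv, Nat.card_eq_fintype_card, QuaternionGroup.card]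
  have hdisj : Disjoint N C := by
    apply Subgroup.disjoint_of_coprime_natCard
    rw [hNcard, hCcard]
    apply Nat.Coprime.pow_right
    norm_num
  have hcompl : N.IsComplement' C := by
    apply Subgroup.isComplement'_of_disjoint_and_mul_eq_univ hdisj
    rw [← Subgroup.normal_mul, hsup, Subgroup.coe_top]
  -- the automorphism of `Q₈` induced by `c`
  let α : QuaternionGroup 2 ≃* QuaternionGroup 2 :=
    e.symm.trans ((MulAut.conjNormal c : MulAut N).trans e)
  have hα : ∀ x, α x = e (MulAut.conjNormal c (e.symm x)) := fun x => rfl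
  have hα3 : ∀ x, α (α (α x)) = x := by
    intro x
    simp only [hα, MulEquiv.symm_apply_apply]
    have h1 : ∀ n : N, MulAut.conjNormal c (MulAut.conjNormal c (MulAut.conjNormal c n)) = n := by
      intro n
      have h0 : (MulAut.conjNormal (c ^ 3) : MulAut N) n = n := by
        apply Subtype.ext
        rw [MulAut.conjNormal_apply]
        have := (Subgroup.mem_centralizer_iff.1 hc3) n n.2
        rw [← this]; group
      rw [map_pow] at h0
      simpa [pow_succ] using h0
    rw [h1, MulEquiv.apply_symm_apply]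
  have hw : ∀ x, wmap (α (QuaternionGroup.a 1)) (α (QuaternionGroup.xa 0)) x = α x :=
    fun x => wmap_eq α.toMonoidHom x
  obtain ⟨t, ht3, ht⟩ := conj_realize (α (QuaternionGroup.a 1)) (α (QuaternionGroup.xa 0))
    (by intro x y; rw [hw, hw, hw]; exact map_mul α x y)
    (by intro x; rw [hw, hw, hw]; exact hα3 x)
  let f : N →* SL23 := qHom.comp e.toMonoidHom
  have hfinj : Function.Injective f := qHom_injective.comp e.injective
  have hf : ∀ n : N, f (MulAut.conjNormal c n) = t * f n * t⁻¹ := by
    intro n
    have h1 := ht (e n)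
    rw [hw] at h1
    have h2 : α (e n) = e (MulAut.conjNormal c n) := by
      rw [hα, MulEquiv.symm_apply_apply]
    rw [h2] at h1
    exact h1
  have ht1 : t ≠ 1 := by
    rintro rfl
    apply hcN
    rw [Subgroup.mem_centralizer_iff]
    intro n hn
    have h1 := hf ⟨n, hn⟩
    rw [one_mul, inv_one, mul_one] at h1
    have h2 := hfinj h1
    have h3 := congrArg Subtype.val h2
    rw [MulAut.conjNormal_apply] at h3
    simp only at h3
    calc n * c = (c * n * c⁻¹) * c := by rw [h3]
      _ = c * n := by group
  have hot : orderOf t = 3 := orderOf_eq_prime ht3 ht1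
  set c0 : C := ⟨c, Subgroup.mem_zpowers c⟩ with hc0
  have hoc0 : orderOf c0 = 3 ^ j := by rw [← hoc]; exact Subgroup.orderOf_mk c _
  have hc0gen : ∀ x : C, x ∈ Subgroup.zpowers c0 := by
    intro x
    obtain ⟨i, hi⟩ := Subgroup.mem_zpowers_iff.1 x.2
    exact Subgroup.mem_zpowers_iff.2 ⟨i, Subtype.ext (by simpa using hi)⟩
  let g : C →* SL23 := monoidHomOfForallMemZpowers hc0gen (g' := t)
    (by rw [hot, hoc0]; exact dvd_pow_self 3 hj0)
  have hg0 : g c0 = t := monoidHomOfForallMemZpowers_apply_gen hc0gen _
  have hpow : ∀ x : C, ∃ i : ℕ, c0 ^ i = x := by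
    intro x
    have := (mem_powers_iff_mem_zpowers (x := c0) (y := x)).2 (hc0gen x)
    exact (Submonoid.mem_powers_iff _ _).1 this
  set φ : C →* MulAut N := (N.normalizerMonoidHom).comp
    (Subgroup.inclusion (N.normalizer_eq_top ▸ le_top)) with hφ
  have hφc0 : ∀ n : N, φ c0 n = MulAut.conjNormal c n := by
    intro n
    apply Subtype.ext
    rw [MulAut.conjNormal_apply]
    rfl
  have hlift : ∀ k : C, f.comp (φ k).toMonoidHom = (MulAut.conj (g k)).toMonoidHom.comp f := by
    intro k
    obtain ⟨i, rfl⟩ := hpow k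
    induction i with
    | zero =>
      ext n
      simp
    | succ i ih =>
      apply MonoidHom.ext
      intro n
      have ih' : ∀ n : N, f (φ (c0 ^ i) n) = g (c0 ^ i) * f n * (g (c0 ^ i))⁻¹ := by
        intro n
        have := DFunLike.congr_fun ih n
        exact this
      show f (φ (c0 ^ (i + 1)) n) = g (c0 ^ (i + 1)) * f n * (g (c0 ^ (i + 1)))⁻¹
      rw [pow_succ, map_mul, map_mul, MulAut.mul_apply, ih', hφc0, hf, hg0]
      group
  let L : N ⋊[φ] C →* SL23 := SemidirectProduct.lift f g hlift
  let F : X →* SL23 := L.comp (SemidirectProduct.mulEquivSubgroup hcompl).symm.toMonoidHom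
  have hFN : ∀ n : N, F (n : X) = f n := by
    intro n
    have h1 : (SemidirectProduct.mulEquivSubgroup hcompl).symm (n : X) =
        SemidirectProduct.inl n := by
      rw [MulEquiv.symm_apply_eq]
      simp
    show L ((SemidirectProduct.mulEquivSubgroup hcompl).symm (n : X)) = f n
    rw [h1]
    exact SemidirectProduct.lift_inl f g hlift n
  have hFc : F c = t := by
    have h1 : (SemidirectProduct.mulEquivSubgroup hcompl).symm c =
        SemidirectProduct.inr c0 := by
      rw [MulEquiv.symm_apply_eq]
      simp [hc0]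
    show L ((SemidirectProduct.mulEquivSubgroup hcompl).symm c) = t
    rw [h1]
    exact (SemidirectProduct.lift_inr f g hlift c0).trans hg0
  refine ⟨F, ?_⟩
  rw [← MonoidHom.range_eq_top]
  have h8 : 8 ∣ Nat.card F.range := by
    rw [← qHom_range_card]
    apply Subgroup.card_dvd_of_le
    rintro _ ⟨x, rfl⟩
    exact ⟨((e.symm x : N) : X), by rw [hFN]; show qHom (e (e.symm x)) = _; rw [MulEquiv.apply_symm_apply]⟩
  have h3 : 3 ∣ Nat.card F.range := by
    have := Subgroup.orderOf_dvd_natCard F.range (x := t) ⟨c, hFc⟩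
    rwa [hot] at this
  have h24 : 24 ∣ Nat.card F.range := by
    have : Nat.Coprime 8 3 := by norm_num
    exact this.mul_dvd_of_dvd_of_dvd h8 h3
  apply Subgroup.eq_top_of_card_eq
  rw [card_SL23]
  have hle : Nat.card F.range ≤ 24 := by
    rw [← card_SL23]; exact Subgroup.card_le_card_group _
  have hpos : 0 < Nat.card F.range := Nat.card_pos
  obtain ⟨m, hm⟩ := h24
  have : m = 1 := by
    rcases m with _ | _ | m
    · omega
    · rfl
    · omega
  omega

end Cfsg.Agent.Helper73
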