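import Mathlib

set_option autoImplicit false

namespace Cfsg.Agent.Helper73

open scoped Pointwise

variable {G : Type*} [Group G]

/-- A `p`-subgroup of a finite group can be conjugated into a given Sylow `p`-subgroup. -/
theorem exists_conj_mem_sylow [Finite G] {p : ℕ} [Fact p.Prime] (P : Sylow p G)
    (W : Subgroup G) (hW : IsPGroup p W) : ∃ g : G, ∀ w ∈ W, g * w * g⁻¹ ∈ (P : Subgroup G) := by
  obtain ⟨Q, hQ⟩ := hW.exists_le_sylow
  obtain ⟨g, hg⟩ := MulAction.exists_smul_eq G Q P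
  refine ⟨g, fun w hw => ?_⟩
  have h1 : w ∈ (Q : Subgroup G) := hQ hw
  have h2 : MulAut.conj g • w ∈ MulAut.conj g • (Q : Subgroup G) :=
    Subgroup.smul_mem_pointwise_smul _ _ _ h1
  have h3 : (MulAut.conj g • (Q : Subgroup G)) = ((g • Q : Sylow p G) : Subgroup G) := rfl
  rw [h3, hg] at h2
  simpa [MulAut.smul_def] using h2

/-- An injective hom from a `p`-subgroup into a given Sylow `p`-subgroup. -/
theorem exists_injective_hom_sylow [Finite G] {p : ℕ} [Fact p.Prime] (P : Sylow p G)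
    (W : Subgroup G) (hW : IsPGroup p W) :
    ∃ ψ : ↥W →* ↥(P : Subgroup G), Function.Injective ψ := by
  obtain ⟨g, hg⟩ := exists_conj_mem_sylow P W hW
  refine ⟨((MulAut.conj g).toMonoidHom.comp W.subtype).codRestrict (P : Subgroup G)
    (fun w => by simpa using hg w w.2), ?_⟩
  intro a b hab
  have := congrArg Subtype.val hab
  simp only [MonoidHom.codRestrict_apply, MonoidHom.coe_comp, Function.comp_apply] at this
  have h2 : (a : G) = b := by simpa using this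
  exact Subtype.ext h2

/-- `zpowers x ⊔ zpowers y` is a `p`-group if `x`, `y` have `p`-power order and `y` normalizes
`⟨x⟩`. -/
theorem isPGroup_zpowers_sup_zpowers {p : ℕ} [Fact p.Prime] (x y : G) (a b k : ℕ)
    (hx : orderOf x = p ^ a) (hy : orderOf y = p ^ b) (hxy : y * x * y⁻¹ = x ^ k) :
    IsPGroup p ↥(Subgroup.zpowers x ⊔ Subgroup.zpowers y) := by
  have h1 : IsPGroup p ↥(Subgroup.zpowers x) := IsPGroup.of_card (n := a) (by rw [Nat.card_zpowers, hx])
  have h2 : IsPGroup p ↥(Subgroup.zpowers y) := IsPGroup.of_card (n := b) (by rw [Nat.card_zpowers, hy])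
  apply IsPGroup.to_sup_of_normal_left' h1 h2
  rw [Subgroup.zpowers_le]
  have hfin : Finite ↥(Subgroup.zpowers x) := by
    apply Nat.finite_of_card_ne_zero
    rw [Nat.card_zpowers, hx]
    exact pow_ne_zero _ (Fact.out : p.Prime).ne_zero
  have : Finite ((Subgroup.zpowers x : Subgroup G) : Set G) := hfin
  apply Subgroup.mem_normalizer_fintype
  intro n hn
  rw [SetLike.mem_coe] at hn ⊢
  obtain ⟨j, rfl⟩ := Subgroup.mem_zpowers_iff.1 hn
  have : y * x ^ j * y⁻¹ = (y * x * y⁻¹) ^ j := by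
    rw [conj_zpow]
  rw [this, hxy]
  exact Subgroup.zpow_mem _ (Subgroup.pow_mem _ (Subgroup.mem_zpowers x) k) j

/-- Transport of quasi-dihedral-type generators into a Sylow `2`-subgroup. -/
theorem exists_qd_in_sylow [Finite G] (P : Sylow 2 G) (x y : G) (n k : ℕ)
    (hx : orderOf x = 2 ^ n) (hy : orderOf y = 2) (hxy : y * x * y⁻¹ = x ^ k) :
    ∃ x' y' : ↥(P : Subgroup G), orderOf x' = 2 ^ n ∧ orderOf y' = 2 ∧ y' * x' * y'⁻¹ = x' ^ k := by
  have : Fact (Nat.Prime 2) := ⟨Nat.prime_two⟩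
  have hW := isPGroup_zpowers_sup_zpowers (p := 2) x y n 1 k hx (by simpa using hy) hxy
  obtain ⟨ψ, hψ⟩ := exists_injective_hom_sylow P _ hW
  have hxW : x ∈ Subgroup.zpowers x ⊔ Subgroup.zpowers y :=
    (le_sup_left : Subgroup.zpowers x ≤ _) (Subgroup.mem_zpowers x)
  have hyW : y ∈ Subgroup.zpowers x ⊔ Subgroup.zpowers y :=
    (le_sup_right : Subgroup.zpowers y ≤ _) (Subgroup.mem_zpowers y)
  refine ⟨ψ ⟨x, hxW⟩, ψ ⟨y, hyW⟩, ?_, ?_, ?_⟩
  · rw [orderOf_injective ψ hψ, ← hx]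
    exact Subgroup.orderOf_mk x hxW
  · rw [orderOf_injective ψ hψ, ← hy]
    exact Subgroup.orderOf_mk y hyW
  · rw [← map_inv, ← map_mul, ← map_mul, ← map_pow]
    congr 1
    exact Subtype.ext hxy

/-- Transport of wreathed-type generators into a Sylow `2`-subgroup. -/
theorem exists_wr_in_sylow [Finite G] (P : Sylow 2 G) (x y z : G) (n : ℕ)
    (hx : orderOf x = 2 ^ n) (hxy : x * y = y * x)
    (hdisj : Subgroup.zpowers x ⊓ Subgroup.zpowers y = ⊥) (hz : orderOf z = 2)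
    (hzx : z * x * z⁻¹ = y) :
    ∃ x' y' z' : ↥(P : Subgroup G), orderOf x' = 2 ^ n ∧ x' * y' = y' * x' ∧
      Subgroup.zpowers x' ⊓ Subgroup.zpowers y' = ⊥ ∧ orderOf z' = 2 ∧ z' * x' * z'⁻¹ = y' := by
  have : Fact (Nat.Prime 2) := ⟨Nat.prime_two⟩
  have hy : orderOf y = 2 ^ n := by
    rw [← hx]
    have hs : SemiconjBy z x y := by
      unfold SemiconjBy
      rw [← hzx]; group
    exact (SemiconjBy.orderOf_eq z hs).symm
  have hz2 : z ^ 2 = 1 := by rw [← hz]; exact pow_orderOf_eq_one z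
  have hzinv : z⁻¹ = z := by
    rw [inv_eq_iff_mul_eq_one, ← pow_two, hz2]
  have hzy : z * y * z⁻¹ = x := by
    rw [← hzx, hzinv]
    have : z * (z * x * z) * z = (z * z) * x * (z * z) := by group
    rw [this, ← pow_two, hz2, one_mul, mul_one]
  have hA := isPGroup_zpowers_sup_zpowers (p := 2) x y n n 1 hx hy
    (by rw [pow_one, ← hxy, mul_assoc, mul_inv_cancel, mul_one])
  have hZ : IsPGroup 2 ↥(Subgroup.zpowers z) :=
    IsPGroup.of_card (n := 1) (by rw [Nat.card_zpowers, hz, pow_one])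
  have hnorm : Subgroup.zpowers z ≤ Subgroup.normalizer
      ((Subgroup.zpowers x ⊔ Subgroup.zpowers y : Subgroup G) : Set G) := by
    rw [Subgroup.zpowers_le, Subgroup.mem_normalizer_iff_map_conj_eq, Subgroup.map_sup,
      MonoidHom.map_zpowers, MonoidHom.map_zpowers]
    simp only [MonoidHom.coe_coe, MulAut.conj_apply, hzx, hzy]
    exact sup_comm _ _
  have hW := IsPGroup.to_sup_of_normal_left' hA hZ hnorm
  obtain ⟨ψ, hψ⟩ := exists_injective_hom_sylow P _ hW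
  have hxW : x ∈ Subgroup.zpowers x ⊔ Subgroup.zpowers y ⊔ Subgroup.zpowers z :=
    (le_sup_left : Subgroup.zpowers x ⊔ Subgroup.zpowers y ≤ _)
      ((le_sup_left : Subgroup.zpowers x ≤ _) (Subgroup.mem_zpowers x))
  have hyW : y ∈ Subgroup.zpowers x ⊔ Subgroup.zpowers y ⊔ Subgroup.zpowers z :=
    (le_sup_left : Subgroup.zpowers x ⊔ Subgroup.zpowers y ≤ _)
      ((le_sup_right : Subgroup.zpowers y ≤ _) (Subgroup.mem_zpowers y))
  have hzW : z ∈ Subgroup.zpowers x ⊔ Subgroup.zpowers y ⊔ Subgroup.zpowers z :=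
    (le_sup_right : Subgroup.zpowers z ≤ _) (Subgroup.mem_zpowers z)
  refine ⟨ψ ⟨x, hxW⟩, ψ ⟨y, hyW⟩, ψ ⟨z, hzW⟩, ?_, ?_, ?_, ?_, ?_⟩
  · rw [orderOf_injective ψ hψ, ← hx]
    exact Subgroup.orderOf_mk x hxW
  · rw [← map_mul, ← map_mul]
    congr 1
    exact Subtype.ext hxy
  · rw [eq_bot_iff]
    intro w hw
    obtain ⟨hw1, hw2⟩ := hw
    obtain ⟨i, hi⟩ := Subgroup.mem_zpowers_iff.1 hw1
    obtain ⟨j, hj⟩ := Subgroup.mem_zpowers_iff.1 hw2
    rw [← map_zpow] at hi hj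
    have h1 : (⟨x, hxW⟩ : ↥(Subgroup.zpowers x ⊔ Subgroup.zpowers y ⊔ Subgroup.zpowers z)) ^ i
        = ⟨y, hyW⟩ ^ j := hψ (hi.trans hj.symm)
    have h2 : x ^ i = y ^ j := by
      have := congrArg Subtype.val h1
      simpa using this
    have h3 : x ^ i ∈ Subgroup.zpowers x ⊓ Subgroup.zpowers y :=
      ⟨Subgroup.zpow_mem _ (Subgroup.mem_zpowers x) i,
        h2 ▸ Subgroup.zpow_mem _ (Subgroup.mem_zpowers y) j⟩
    rw [hdisj, Subgroup.mem_bot] at h3
    rw [Subgroup.mem_bot, ← hi]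
    have : (⟨x, hxW⟩ : ↥(Subgroup.zpowers x ⊔ Subgroup.zpowers y ⊔ Subgroup.zpowers z)) ^ i = 1 :=
      Subtype.ext (by simpa using h3)
    rw [this, map_one]
  · rw [orderOf_injective ψ hψ, ← hz]
    exact Subgroup.orderOf_mk z hzW
  · rw [← map_inv, ← map_mul, ← map_mul]
    congr 1
    exact Subtype.ext hzx

end Cfsg.Agent.Helper73
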