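import Mathlib
import Cfsg.Agent.Lib.Helper73.SylowTransfer

set_option autoImplicit false

namespace Cfsg.Agent.Helper73

variable {G : Type*} [Group G]

/-- A minimal subgroup (w.r.t. inclusion) satisfying a predicate, below a given one. -/
theorem exists_minimal_subgroup [Finite G] (Q : Subgroup G → Prop) :
    ∀ (n : ℕ) (R : Subgroup G), Nat.card R = n → Q R →
      ∃ N : Subgroup G, Q N ∧ N ≤ R ∧ ∀ M : Subgroup G, Q M → M ≤ N → M = N := by
  intro n
  induction n using Nat.strong_induction_on with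
  | _ n ih =>
    intro R hn hR
    by_cases hmin : ∀ M : Subgroup G, Q M → M ≤ R → M = R
    · exact ⟨R, hR, le_rfl, hmin⟩
    · push Not at hmin
      obtain ⟨M, hM, hMR, hne⟩ := hmin
      have hlt : Nat.card M < n := by
        rw [← hn]
        refine lt_of_le_of_ne (Subgroup.card_le_of_le hMR) ?_
        intro h
        exact hne (Subgroup.eq_of_le_of_card_ge hMR h.ge)
      obtain ⟨N, hN, hNM, hNmin⟩ := ih _ hlt M rfl hM
      exact ⟨N, hN, hNM.trans hMR, hNmin⟩

/-- conjugation by `g ^ j` -/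
lemma conj_pow_eq (g x : G) (k : ℕ) (h : g * x * g⁻¹ = x ^ k) (j : ℕ) :
    g ^ j * x * (g ^ j)⁻¹ = x ^ (k ^ j) := by
  induction j with
  | zero => simp
  | succ j ih =>
    have : g ^ (j + 1) * x * (g ^ (j + 1))⁻¹ = g * (g ^ j * x * (g ^ j)⁻¹) * g⁻¹ := by
      rw [pow_succ']; group
    rw [this, ih]
    have h2 : g * x ^ k ^ j * g⁻¹ = (g * x * g⁻¹) ^ (k ^ j) := by rw [conj_pow]
    rw [h2, h, ← pow_mul, pow_succ, mul_comm]

/-- Key lemma: an element normalizing a cyclic Sylow `p`-subgroup `⟨x⟩` and acting on it by a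
power map `x ↦ x ^ k` with `k ≡ 1 mod p` centralizes it. -/
theorem conj_eq_self_of_modEq_one [Finite G] {p : ℕ} [hp : Fact p.Prime] (P : Sylow p G)
    (x g : G) (hx : Subgroup.zpowers x = (P : Subgroup G))
    (hg : g ∈ Subgroup.normalizer ((P : Subgroup G) : Set G)) (k : ℕ)
    (hk : g * x * g⁻¹ = x ^ k) (hk1 : k ≡ 1 [MOD p]) : g * x * g⁻¹ = x := by
  have hxP : x ∈ (P : Subgroup G) := hx ▸ Subgroup.mem_zpowers x
  obtain ⟨n, hn⟩ := IsPGroup.iff_card.1 P.isPGroup'
  have hox : orderOf x = p ^ n := by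
    rw [← Nat.card_zpowers, hx]; exact hn
  -- index of P in its normalizer
  set m := (P : Subgroup G).relIndex (Subgroup.normalizer ((P : Subgroup G) : Set G)) with hm
  have hmcop : Nat.Coprime m p := by
    rw [Nat.coprime_comm, Nat.Prime.coprime_iff_not_dvd hp.out]
    intro hdvd
    exact P.not_dvd_index (hdvd.trans (Subgroup.relIndex_dvd_index_of_le Subgroup.le_normalizer))
  have hgm : g ^ m ∈ (P : Subgroup G) := by
    have h := Subgroup.pow_index_mem ((P : Subgroup G).subgroupOf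
      (Subgroup.normalizer ((P : Subgroup G) : Set G))) ⟨g, hg⟩
    rw [Subgroup.mem_subgroupOf] at h
    rw [hm, Subgroup.relIndex]
    simpa using h
  -- g^m commutes with x
  have hcomm : g ^ m * x * (g ^ m)⁻¹ = x := by
    have h1 : g ^ m ∈ Subgroup.zpowers x := hx ▸ hgm
    obtain ⟨i, hi⟩ := Subgroup.mem_zpowers_iff.1 h1
    rw [← hi]
    group
  have h1 : x ^ (k ^ m) = x ^ 1 := by
    rw [← conj_pow_eq g x k hk m, hcomm, pow_one]
  have h1' : k ^ m ≡ 1 [MOD p ^ n] := by
    rw [← hox]; exact pow_eq_pow_iff_modEq.1 h1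
  rw [hk]
  nth_rewrite 2 [← pow_one x]
  rw [pow_eq_pow_iff_modEq, hox]
  rcases Nat.eq_zero_or_pos n with hn0 | hn0
  · subst hn0
    simp [Nat.modEq_one]
  obtain ⟨n', rfl⟩ : ∃ n', n = n' + 1 := ⟨n - 1, by omega⟩
  -- k^(p^n') ≡ 1 mod p^(n'+1)
  have h2 : k ^ (p ^ n') ≡ 1 [MOD p ^ (n' + 1)] := by
    have hdvd : ((p : ℤ)) ∣ (k : ℤ) - 1 := by
      have := (Nat.modEq_iff_dvd.1 hk1.symm)
      simpa using this
    have := dvd_sub_pow_of_dvd_sub hdvd n'
    rw [one_pow] at this
    apply Nat.ModEq.symm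
    rw [Nat.modEq_iff_dvd]
    push_cast
    exact this
  -- now in ZMod
  have hu1 : ((k : ZMod (p ^ (n' + 1)))) ^ m = 1 := by
    have := (ZMod.natCast_eq_natCast_iff _ _ _).2 h1'
    simpa using this
  have hu2 : ((k : ZMod (p ^ (n' + 1)))) ^ (p ^ n') = 1 := by
    have := (ZMod.natCast_eq_natCast_iff _ _ _).2 h2
    simpa using this
  have hgcd : Nat.gcd m (p ^ n') = 1 := Nat.Coprime.pow_right _ hmcop
  have hu : ((k : ZMod (p ^ (n' + 1)))) ^ (Nat.gcd m (p ^ n')) = 1 := pow_gcd_eq_one.2 ⟨hu1, hu2⟩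
  rw [hgcd, pow_one] at hu
  have : ((k : ZMod (p ^ (n' + 1)))) = ((1 : ℕ) : ZMod (p ^ (n' + 1))) := by simpa using hu
  exact (ZMod.natCast_eq_natCast_iff _ _ _).1 this

/-- In a finite cyclic group, an element `b` with `b ^ p = 1` lies in `⟨a⟩` when `a` has order `p`. -/
theorem mem_zpowers_of_cyclic {W : Type*} [Group W] [Finite W] [IsCyclic W] {p : ℕ}
    (hp : 0 < p) (a b : W) (ha : orderOf a = p) (hb : b ^ p = 1) : b ∈ Subgroup.zpowers a := by
  classical
  have := Fintype.ofFinite W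
  let A : Finset W := (Finset.range p).image (fun i => a ^ i)
  have hA : A.card = p := by
    rw [Finset.card_image_of_injOn, Finset.card_range]
    intro i hi j hj hij
    simp only [Finset.coe_range, Set.mem_Iio] at hi hj
    exact pow_injOn_Iio_orderOf (by simpa [ha] using hi) (by simpa [ha] using hj) hij
  have hsub : A ⊆ Finset.univ.filter (fun y : W => y ^ p = 1) := by
    intro y hy
    obtain ⟨i, _, rfl⟩ := Finset.mem_image.1 hy
    simp only [Finset.mem_filter, Finset.mem_univ, true_and]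
    rw [← pow_mul, mul_comm, pow_mul, ← ha, pow_orderOf_eq_one, one_pow]
  have hle := IsCyclic.card_pow_eq_one_le (α := W) hp
  have heq : A = Finset.univ.filter (fun y : W => y ^ p = 1) :=
    Finset.eq_of_subset_of_card_le hsub (by rw [hA]; exact hle)
  have hbA : b ∈ A := by
    rw [heq]; simp [hb]
  obtain ⟨i, _, rfl⟩ := Finset.mem_image.1 hbA
  exact Subgroup.pow_mem _ (Subgroup.mem_zpowers a) i

/-- In a finite group with a cyclic Sylow `p`-subgroup, two commuting elements of order `p`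
generate the same subgroup; in particular the second lies in the cyclic group of the first. -/
theorem mem_zpowers_of_commute_of_cyclic_sylow [Finite G] {p : ℕ} [hp : Fact p.Prime]
    (P : Sylow p G) (hP : IsCyclic ↥(P : Subgroup G)) (a b : G) (ha : orderOf a = p)
    (hb : orderOf b = p) (hab : a * b = b * a) : b ∈ Subgroup.zpowers a := by
  have hW := isPGroup_zpowers_sup_zpowers (p := p) a b 1 1 1 (by simpa using ha) (by simpa using hb)
    (by rw [pow_one, ← hab, mul_assoc, mul_inv_cancel, mul_one])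
  obtain ⟨ψ, hψ⟩ := exists_injective_hom_sylow P _ hW
  have hcyc : IsCyclic ↥(Subgroup.zpowers a ⊔ Subgroup.zpowers b) := isCyclic_of_injective ψ hψ
  have haW : a ∈ Subgroup.zpowers a ⊔ Subgroup.zpowers b :=
    (le_sup_left : Subgroup.zpowers a ≤ _) (Subgroup.mem_zpowers a)
  have hbW : b ∈ Subgroup.zpowers a ⊔ Subgroup.zpowers b :=
    (le_sup_right : Subgroup.zpowers b ≤ _) (Subgroup.mem_zpowers b)
  have h := mem_zpowers_of_cyclic (W := ↥(Subgroup.zpowers a ⊔ Subgroup.zpowers b))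
    hp.out.pos ⟨a, haW⟩ ⟨b, hbW⟩ (by rw [← ha]; exact Subgroup.orderOf_mk a haW)
    (by
      apply Subtype.ext
      simp only [Subgroup.coe_pow, Subgroup.coe_one]
      rw [← hb, pow_orderOf_eq_one])
  obtain ⟨i, hi⟩ := Subgroup.mem_zpowers_iff.1 h
  have := congrArg Subtype.val hi
  simp only [Subgroup.coe_zpow] at this
  rw [← this]
  exact Subgroup.zpow_mem _ (Subgroup.mem_zpowers a) i

end Cfsg.Agent.Helper73
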