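import Mathlib
import Cfsg.Prelude.Def_Local
import Cfsg.Agent.Lib.Helper34.PPrimeCore
import Cfsg.Agent.Lib.Helper73.CyclicSylow

set_option autoImplicit false

namespace Cfsg.Agent.Helper73

variable {G : Type*} [Group G]

lemma map_conj_mul (K : Subgroup G) (a b : G) :
    K.map (MulAut.conj (a * b)).toMonoidHom
      = (K.map (MulAut.conj b).toMonoidHom).map (MulAut.conj a).toMonoidHom := by
  rw [Subgroup.map_map]
  congr 1
  ext x
  simp [mul_assoc]

lemma map_conj_one (K : Subgroup G) :
    K.map (MulAut.conj (1 : G)).toMonoidHom = K := by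
  ext x
  simp

lemma mem_normalizer_iff_map (K : Subgroup G) (g : G) :
    g ∈ Subgroup.normalizer (K : Set G) ↔ K.map (MulAut.conj g).toMonoidHom = K :=
  Subgroup.mem_normalizer_iff_map_conj_eq

lemma card_map_conj [Finite G] (K : Subgroup G) (g : G) :
    Nat.card ↥(K.map (MulAut.conj g).toMonoidHom) = Nat.card ↥K :=
  Subgroup.card_map_of_injective (MulAut.conj g).injective

/-- element of order `p` in a subgroup of order divisible by `p` -/
lemma exists_mem_orderOf_eq [Finite G] (p : ℕ) [Fact p.Prime] (T : Subgroup G)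
    (h : p ∣ Nat.card ↥T) : ∃ a ∈ T, orderOf a = p := by
  obtain ⟨x, hx⟩ := exists_prime_orderOf_dvd_card' p h
  exact ⟨x, x.2, by rw [← hx]; exact (Subgroup.orderOf_coe x)⟩

/-- A minimal normal subgroup of a finite group with a cyclic Sylow `p`-subgroup and trivial
`O_{p'}` is a simple group. -/
theorem minimal_normal_isSimple [Finite G] {p : ℕ} [hp : Fact p.Prime]
    (hO : Cfsg.pPrimeCore p G = ⊥) (P : Sylow p G) (hP : IsCyclic ↥(P : Subgroup G))
    (N : Subgroup G) [hNn : N.Normal] (hN0 : N ≠ ⊥)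
    (hNmin : ∀ M : Subgroup G, M.Normal → M ≠ ⊥ → M ≤ N → M = N) : IsSimpleGroup ↥N := by
  let Q : Subgroup G → Prop := fun T =>
    T ≤ N ∧ N ≤ Subgroup.normalizer (T : Set G) ∧ T ≠ ⊥
  obtain ⟨T, ⟨hTN, hTnorm, hT0⟩, -, hTmin⟩ :=
    exists_minimal_subgroup Q (Nat.card N) N rfl ⟨le_rfl, Subgroup.le_normalizer, hN0⟩
  have hTeq : T = N := by
    by_contra hne
    have hTsub : T.IsSubnormal :=
      Subgroup.IsSubnormal.step T N hTN (Subgroup.Normal.isSubnormal hNn)
        (Subgroup.normal_subgroupOf_of_le_normalizer hTnorm)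
    have hpT : p ∣ Nat.card ↥T := by
      by_contra hnd
      have hc : (Nat.card ↥T).Coprime p :=
        (Nat.coprime_comm.1 ((Nat.Prime.coprime_iff_not_dvd hp.out).2 hnd))
      have := Cfsg.Agent.Helper34.IsSubnormal.le_pPrimeCore hTsub hc
      rw [hO] at this
      exact hT0 (le_bot_iff.1 this)
    obtain ⟨g, hg⟩ : ∃ g : G, T.map (MulAut.conj g).toMonoidHom ≠ T := by
      by_contra hall
      push Not at hall
      have hTnormal : T.Normal := by
        rw [← Subgroup.normalizer_eq_top_iff, eq_top_iff]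
        intro g _
        exact (mem_normalizer_iff_map T g).2 (hall g)
      exact hne (hNmin T hTnormal hT0 hTN)
    set T' := T.map (MulAut.conj g).toMonoidHom with hT'
    have hT'N : T' ≤ N := by
      rintro y ⟨t, ht, rfl⟩
      exact hNn.conj_mem t (hTN ht) g
    have hT'norm : N ≤ Subgroup.normalizer (T' : Set G) := by
      intro n hn
      rw [mem_normalizer_iff_map, hT', ← map_conj_mul]
      have h1 : n * g = g * (g⁻¹ * n * g) := by group
      have h2 : g⁻¹ * n * g ∈ N := by
        have := hNn.conj_mem n hn g⁻¹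
        simpa using this
      rw [h1, map_conj_mul, (mem_normalizer_iff_map T _).1 (hTnorm h2)]
    have hcard : Nat.card ↥T' = Nat.card ↥T := card_map_conj T g
    have hinf : T ⊓ T' = ⊥ := by
      by_contra hne0
      have hQ : Q (T ⊓ T') := by
        refine ⟨inf_le_left.trans hTN, ?_, hne0⟩
        intro n hn
        rw [mem_normalizer_iff_map, Subgroup.map_inf _ _ _ (MulAut.conj n).injective,
          (mem_normalizer_iff_map T n).1 (hTnorm hn), (mem_normalizer_iff_map T' n).1 (hT'norm hn)]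
      have h1 := hTmin _ hQ inf_le_left
      have h2 : T ≤ T' := by rw [← h1]; exact inf_le_right
      exact hg (Subgroup.eq_of_le_of_card_ge h2 hcard.le).symm
    obtain ⟨a, haT, ha⟩ := exists_mem_orderOf_eq p T hpT
    obtain ⟨b, hbT', hb⟩ := exists_mem_orderOf_eq p T' (hcard ▸ hpT)
    have hab : a * b = b * a := by
      have hc1 : a * b * a⁻¹ * b⁻¹ ∈ T' := by
        apply T'.mul_mem _ (T'.inv_mem hbT')
        exact (Subgroup.mem_normalizer_iff.1 (hT'norm (hTN haT)) b).1 hbT'
      have hc2 : a * b * a⁻¹ * b⁻¹ ∈ T := by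
        have : a * b * a⁻¹ * b⁻¹ = a * (b * a⁻¹ * b⁻¹) := by group
        rw [this]
        apply T.mul_mem haT
        exact (Subgroup.mem_normalizer_iff.1 (hTnorm (hT'N hbT')) a⁻¹).1 (T.inv_mem haT)
      have hc : a * b * a⁻¹ * b⁻¹ ∈ T ⊓ T' := ⟨hc2, hc1⟩
      rw [hinf, Subgroup.mem_bot] at hc
      have : a * b = (a * b * a⁻¹ * b⁻¹) * (b * a) := by group
      rw [this, hc, one_mul]
    have hbz := mem_zpowers_of_commute_of_cyclic_sylow P hP a b ha hb hab
    have hbT : b ∈ T := (Subgroup.zpowers_le.2 haT) hbz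
    have hb1 : b ∈ T ⊓ T' := ⟨hbT, hbT'⟩
    rw [hinf, Subgroup.mem_bot] at hb1
    rw [hb1, orderOf_one] at hb
    exact hp.out.one_lt.ne hb
  subst hTeq
  have hnt : Nontrivial ↥T := (Subgroup.nontrivial_iff_ne_bot T).2 hT0
  refine { toNontrivial := hnt, eq_bot_or_eq_top_of_normal := ?_ }
  intro H hH
  by_cases hH0 : H = ⊥
  · exact Or.inl hH0
  right
  have hQ : Q (H.map T.subtype) := by
    refine ⟨Subgroup.map_subtype_le H, ?_, ?_⟩
    · intro n hn
      have : Finite ((H.map T.subtype : Subgroup G) : Set G) :=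
        Finite.of_injective (fun y : ((H.map T.subtype : Subgroup G) : Set G) => (y : G))
          Subtype.val_injective
      apply Subgroup.mem_normalizer_fintype
      rintro y ⟨h, hh, rfl⟩
      refine ⟨⟨n, hn⟩ * h * ⟨n, hn⟩⁻¹, hH.conj_mem h hh ⟨n, hn⟩, ?_⟩
      simp
    · intro h0
      apply hH0
      rwa [Subgroup.map_eq_bot_iff_of_injective _ T.subtype_injective] at h0
  have h1 := hTmin _ hQ (Subgroup.map_subtype_le H)
  rw [eq_top_iff]
  intro y _
  have hy : (y : G) ∈ H.map T.subtype := by rw [h1]; exact y.2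
  obtain ⟨h, hh, hhy⟩ := hy
  have : h = y := Subtype.ext hhy
  rwa [← this]

end Cfsg.Agent.Helper73
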