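import Mathlib
import Cfsg.Agent.Lib.Helper76.AbelianNormal
import Cfsg.Agent.Lib.Helper10.Nilp
import Cfsg.Agent.Lib.Helper73.CyclicSylowSimple

set_option autoImplicit false

universe u

namespace Cfsg.Agent.Helper73

open scoped commutatorElement

lemma comm_of_sq_eq_one {H : Type*} [Group H] (h : ∀ x : H, x ^ 2 = 1) (a b : H) : a * b = b * a := by
  have ha := h a
  have hb := h b
  have hab := h (a * b)
  rw [pow_two] at ha hb hab
  have hai : a⁻¹ = a := inv_eq_of_mul_eq_one_left ha
  have hbi : b⁻¹ = b := inv_eq_of_mul_eq_one_left hb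
  have : (a * b)⁻¹ = a * b := inv_eq_of_mul_eq_one_left hab
  rw [mul_inv_rev, hai, hbi] at this
  exact this.symm

lemma commutator_eq_bot_of_comm {H : Type*} [Group H] (h : ∀ a b : H, a * b = b * a) :
    commutator H = ⊥ := by
  rw [commutator_def, Subgroup.commutator_eq_bot_iff_le_centralizer]
  intro x _
  rw [Subgroup.mem_centralizer_iff]
  intro y _
  exact h y x

/-- card of the commutator subgroup from its index -/
lemma card_commutator_of_index {S : Type*} [Group S] [Finite S] (n : ℕ) (hn : 2 ≤ n)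
    (hcard : Nat.card S = 2 ^ n) (hidx : (commutator S).index = 4) :
    Nat.card ↥(commutator S) = 2 ^ (n - 2) := by
  have h := (commutator S).card_mul_index
  rw [hidx, hcard] at h
  obtain ⟨m, rfl⟩ : ∃ m, n = m + 2 := ⟨n - 2, by omega⟩
  rw [Nat.add_sub_cancel]
  have : (2 : ℕ) ^ (m + 2) = 2 ^ m * 4 := by ring
  rw [this] at h
  exact Nat.eq_of_mul_eq_mul_right (by norm_num) h

/-- base case: a group of order `8` whose commutator subgroup has index `4` has an element of
order `4` -/
lemma exists_orderOf_four {S : Type*} [Group S] [Finite S] (hcard : Nat.card S = 2 ^ 3)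
    (hidx : (commutator S).index = 4) : ∃ a : S, orderOf a = 2 ^ 2 := by
  have hc := card_commutator_of_index 3 (by norm_num) hcard hidx
  have hnc : ¬ ∀ a b : S, a * b = b * a := by
    intro h
    rw [commutator_eq_bot_of_comm h, Subgroup.card_bot] at hc
    norm_num at hc
  by_contra hno
  push Not at hno
  apply hnc
  apply comm_of_sq_eq_one
  intro x
  have hx : orderOf x ∣ 2 ^ 3 := hcard ▸ orderOf_dvd_natCard x
  obtain ⟨m, hm, hxm⟩ := (Nat.dvd_prime_pow Nat.prime_two).1 hx
  interval_cases m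
  · rw [pow_zero, orderOf_eq_one_iff] at hxm
    rw [hxm, one_pow]
  · rw [pow_one] at hxm
    rw [← hxm, pow_orderOf_eq_one]
  · exact absurd hxm (hno x)
  · exfalso
    have hcyc : IsCyclic S := isCyclic_of_orderOf_eq_card x (by rw [hxm, hcard])
    apply hnc
    intro a b
    obtain ⟨g, hg⟩ := hcyc.exists_generator
    obtain ⟨i, rfl⟩ := Subgroup.mem_zpowers_iff.1 (hg a)
    obtain ⟨j, rfl⟩ := Subgroup.mem_zpowers_iff.1 (hg b)
    rw [← zpow_add, ← zpow_add, add_comm]

/-- an index-2 subgroup together with an outside element generates everything -/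
lemma sup_zpowers_eq_top_of_index_two {S : Type*} [Group S] (M : Subgroup S) (hM : M.index = 2)
    (t : S) (ht : t ∉ M) : M ⊔ Subgroup.zpowers t = ⊤ := by
  rw [eq_top_iff]
  intro x _
  by_cases hx : x ∈ M
  · exact (le_sup_left : M ≤ _) hx
  · have h := (Subgroup.mul_mem_iff_of_index_two hM (a := t⁻¹) (b := x)).2
      (by
        constructor
        · intro h1; exact absurd (by simpa using M.inv_mem h1) ht
        · intro h1; exact absurd h1 hx)
    have : x = t * (t⁻¹ * x) := by group
    rw [this]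
    exact Subgroup.mul_mem _ ((le_sup_right : Subgroup.zpowers t ≤ _) (Subgroup.mem_zpowers t))
      ((le_sup_left : M ≤ _) h)

lemma step {S : Type u} [Group S] [Finite S] (n : ℕ) (hn : 3 ≤ n)
    (hcard : Nat.card S = 2 ^ (n + 1)) (hidx : (commutator S).index = 4)
    (IH : ∀ (Q : Type u) [Group Q] [Finite Q], Nat.card Q = 2 ^ n → (commutator Q).index = 4 →
      ∃ a : Q, orderOf a = 2 ^ (n - 1)) :
    ∃ a : S, orderOf a = 2 ^ n := by
  have h2 : Fact (Nat.Prime 2) := ⟨Nat.prime_two⟩
  have hp : IsPGroup 2 S := IsPGroup.of_card hcard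
  have hnil : Group.IsNilpotent S := hp.isNilpotent
  have hc := card_commutator_of_index (n + 1) (by omega) hcard hidx
  have hc' : Nat.card ↥(commutator S) = 2 ^ (n - 1) := by
    rw [hc]; congr 1
  have hS'0 : commutator S ≠ ⊥ := by
    intro h
    rw [h, Subgroup.card_bot] at hc'
    have : 2 ≤ 2 ^ (n - 1) := by
      calc 2 = 2 ^ 1 := by norm_num
        _ ≤ 2 ^ (n - 1) := Nat.pow_le_pow_right (by norm_num) (by omega)
    omega
  have hK0 := Cfsg.Agent.Helper10.normal_inf_center_ne_bot (commutator S) hS'0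
  -- an element of order 2 in S' ∩ Z(S)
  have hKp : IsPGroup 2 ↥(commutator S ⊓ Subgroup.center S) := hp.to_subgroup _
  obtain ⟨k, hk⟩ := IsPGroup.iff_card.1 hKp
  have hk0 : k ≠ 0 := by
    rintro rfl
    rw [pow_zero, Subgroup.card_eq_one] at hk
    exact hK0 hk
  obtain ⟨z, hzK, hz⟩ := exists_mem_orderOf_eq 2 (commutator S ⊓ Subgroup.center S)
    (by rw [hk]; exact dvd_pow_self 2 hk0)
  have hzS' : z ∈ commutator S := hzK.1
  have hzc : z ∈ Subgroup.center S := hzK.2
  have hzcomm : ∀ g : S, g * z = z * g := fun g => Subgroup.mem_center_iff.1 hzc g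
  have hz2 : z ^ 2 = 1 := by rw [← hz]; exact pow_orderOf_eq_one z
  have hz1 : z ≠ 1 := by
    intro h; rw [h, orderOf_one] at hz; omega
  set Z := Subgroup.zpowers z with hZ
  have hZc : ∀ y ∈ Z, ∀ g : S, g * y = y * g := by
    intro y hy g
    obtain ⟨i, rfl⟩ := Subgroup.mem_zpowers_iff.1 hy
    exact ((Commute.zpow_right (show Commute g z from hzcomm g) i).eq)
  have hZmem : ∀ y ∈ Z, y = 1 ∨ y = z := by
    intro y hy
    obtain ⟨i, rfl⟩ := Subgroup.mem_zpowers_iff.1 hy
    rcases Int.even_or_odd i with ⟨j, rfl⟩ | ⟨j, rfl⟩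
    · left
      rw [← two_mul, zpow_mul, zpow_ofNat, hz2, one_zpow]
    · right
      rw [zpow_add, zpow_mul, zpow_ofNat, hz2, one_zpow, one_mul, zpow_one]
  have hZn : Z.Normal := by
    constructor
    intro y hy g
    rw [hZc y hy g, mul_assoc, mul_inv_cancel, mul_one]
    exact hy
  have hZcard : Nat.card ↥Z = 2 := by rw [hZ, Nat.card_zpowers, hz]
  have hZS' : Z ≤ commutator S := Subgroup.zpowers_le.2 hzS'
  -- the quotient
  have hQcard : Nat.card (S ⧸ Z) = 2 ^ n := by
    have := Subgroup.card_eq_card_quotient_mul_card_subgroup Z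
    rw [hcard, hZcard, pow_succ] at this
    exact (Nat.eq_of_mul_eq_mul_right (by norm_num) this).symm
  have hQidx : (commutator (S ⧸ Z)).index = 4 := by
    have h1 : commutator (S ⧸ Z) = (commutator S).map (QuotientGroup.mk' Z) := by
      rw [map_commutator_eq, MonoidHom.range_eq_top.2 (QuotientGroup.mk'_surjective Z),
        commutator_def]
    rw [h1, Subgroup.index_map, QuotientGroup.ker_mk', sup_eq_left.2 hZS',
      MonoidHom.range_eq_top.2 (QuotientGroup.mk'_surjective Z), Subgroup.index_top, mul_one, hidx]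
  obtain ⟨abar, habar⟩ := IH (S ⧸ Z) hQcard hQidx
  obtain ⟨a, rfl⟩ := QuotientGroup.mk'_surjective Z abar
  have hdvd1 : 2 ^ (n - 1) ∣ orderOf a := by
    rw [← habar]; exact orderOf_map_dvd (QuotientGroup.mk' Z) a
  have haZ : a ^ (2 ^ (n - 1)) ∈ Z := by
    rw [← QuotientGroup.eq_one_iff, QuotientGroup.mk_pow]
    have := pow_orderOf_eq_one ((QuotientGroup.mk' Z) a)
    rw [habar] at this
    exact this
  have hpow : a ^ (2 ^ n) = 1 := by
    have : 2 ^ n = 2 ^ (n - 1) * 2 := by
      rw [← pow_succ]; congr 1; omega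
    rw [this, pow_mul]
    rcases hZmem _ haZ with h | h
    · rw [h, one_pow]
    · rw [h, hz2]
  have hdvd2 : orderOf a ∣ 2 ^ n := orderOf_dvd_of_pow_eq_one hpow
  obtain ⟨m, hm, hom⟩ := (Nat.dvd_prime_pow Nat.prime_two).1 hdvd2
  have hm1 : n - 1 ≤ m := by
    rw [hom] at hdvd1
    exact (Nat.pow_dvd_pow_iff_le_right (by norm_num)).1 hdvd1
  rcases (show m = n ∨ m = n - 1 by omega) with rfl | rfl
  · exact ⟨a, hom⟩
  exfalso
  -- now orderOf a = 2^(n-1): contradiction
  set N := 2 ^ (n - 2) with hN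
  have hoa : orderOf a = 2 * N := by
    rw [hom, hN, ← pow_succ']; congr 1; omega
  have hNeven : Even N := by
    rw [hN]; exact (Nat.even_pow' (by omega)).2 even_two
  set M := (Subgroup.zpowers ((QuotientGroup.mk' Z) a)).comap (QuotientGroup.mk' Z) with hM
  have hMidx : M.index = 2 := by
    rw [hM, Subgroup.index_comap_of_surjective _ (QuotientGroup.mk'_surjective Z)]
    have h1 := (Subgroup.zpowers ((QuotientGroup.mk' Z) a)).card_mul_index
    rw [Nat.card_zpowers, habar, hQcard] at h1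
    have : 2 ^ n = 2 ^ (n - 1) * 2 := by
      rw [← pow_succ]; congr 1; omega
    rw [this] at h1
    exact Nat.eq_of_mul_eq_mul_left (by positivity) h1
  have hMn : M.Normal := Subgroup.normal_of_index_eq_two hMidx
  -- elements of M
  have hMmem : ∀ x ∈ M, ∃ i : ℤ, x = a ^ i ∨ x = a ^ i * z := by
    intro x hx
    rw [hM, Subgroup.mem_comap] at hx
    obtain ⟨i, hi⟩ := Subgroup.mem_zpowers_iff.1 hx
    refine ⟨i, ?_⟩
    have h1 : (a ^ i)⁻¹ * x ∈ Z := by
      rw [← QuotientGroup.eq_one_iff]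
      have : ((QuotientGroup.mk' Z) ((a ^ i)⁻¹ * x)) = 1 := by
        rw [map_mul, map_inv, map_zpow, hi, inv_mul_cancel]
      exact this
    rcases hZmem _ h1 with h | h
    · left
      have := congrArg (fun y => a ^ i * y) h
      simpa using this
    · right
      have := congrArg (fun y => a ^ i * y) h
      simpa using this
  have haM : a ∈ M := by
    rw [hM, Subgroup.mem_comap]; exact Subgroup.mem_zpowers _
  have hzM : z ∈ M := by
    rw [hM, Subgroup.mem_comap]
    have : (QuotientGroup.mk' Z) z = 1 := by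
      rw [QuotientGroup.mk'_apply, QuotientGroup.eq_one_iff]; exact Subgroup.mem_zpowers z
    rw [this]; exact Subgroup.one_mem _
  have hcomm_az : ∀ i : ℤ, ∀ g : S, g * z = z * g := fun _ g => hzcomm g
  have hMcomm : ∀ x ∈ M, ∀ y ∈ M, x * y = y * x := by
    intro x hx y hy
    obtain ⟨i, hi⟩ := hMmem x hx
    obtain ⟨j, hj⟩ := hMmem y hy
    have haa : a ^ i * a ^ j = a ^ j * a ^ i := by rw [← zpow_add, ← zpow_add, add_comm]
    rcases hi with rfl | rfl <;> rcases hj with rfl | rfl
    · exact haa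
    · rw [← mul_assoc, haa, mul_assoc, mul_assoc, hzcomm (a ^ i)]
    · rw [mul_assoc, ← hzcomm (a ^ j), ← mul_assoc, haa, mul_assoc]
    · calc a ^ i * z * (a ^ j * z) = a ^ i * (z * a ^ j) * z := by group
        _ = a ^ i * (a ^ j * z) * z := by rw [hzcomm (a ^ j)]
        _ = (a ^ i * a ^ j) * z * z := by group
        _ = (a ^ j * a ^ i) * z * z := by rw [haa]
        _ = a ^ j * (a ^ i * z) * z := by group
        _ = a ^ j * (z * a ^ i) * z := by rw [hzcomm (a ^ i)]
        _ = a ^ j * z * (a ^ i * z) := by group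
  obtain ⟨t, ht⟩ : ∃ t : S, t ∉ M := by
    by_contra h
    push Not at h
    have : M = ⊤ := eq_top_iff.2 fun x _ => h x
    rw [this, Subgroup.index_top] at hMidx
    omega
  have hgen := sup_zpowers_eq_top_of_index_two M hMidx t ht
  have hcR := Cfsg.Agent.Helper76.commRange_eq_commutator M hMn hMcomm t hgen
  set b := t * a * t⁻¹ with hb
  have hbM : b ∈ M := hMn.conj_mem a haM t
  have hob : orderOf b = 2 * N := by
    rw [← hoa]
    have hs : SemiconjBy t a b := by
      unfold SemiconjBy; rw [hb]; group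
    exact (SemiconjBy.orderOf_eq t hs).symm
  set c := a * b⁻¹ with hc0
  -- z^N = 1
  have hzN : ∀ i : ℤ, (z ^ i) ^ N = 1 := by
    intro i
    obtain ⟨r, hr⟩ := hNeven
    have h0 : (z ^ i) ^ 2 = 1 := by
      rw [pow_two, ← zpow_add, ← two_mul, zpow_mul, zpow_ofNat, hz2, one_zpow]
    rw [hr, ← two_mul, pow_mul, h0, one_pow]
  -- b^N = a^N
  have haN : orderOf (a ^ N) = 2 := by
    rw [orderOf_pow_of_dvd (by rw [hN]; positivity) (by rw [hoa]; exact dvd_mul_left N 2), hoa]
    exact Nat.mul_div_cancel _ (by rw [hN]; positivity)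
  have haN2 : (a ^ N) ^ 2 = 1 := by rw [← haN]; exact pow_orderOf_eq_one _
  have hbN : b ^ N = a ^ N := by
    obtain ⟨i, hi⟩ := hMmem b hbM
    have hbNi : b ^ N = (a ^ N) ^ i := by
      rcases hi with h | h
      · rw [h, ← zpow_natCast, ← zpow_mul, mul_comm, zpow_mul, zpow_natCast]
      · rw [h, (show Commute (a ^ i) z from (hzcomm (a ^ i))).mul_pow]
        have := hzN 1
        rw [zpow_one] at this
        rw [this, mul_one, ← zpow_natCast, ← zpow_mul, mul_comm, zpow_mul, zpow_natCast]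
    have hbN1 : b ^ N ≠ 1 := by
      intro h
      have := orderOf_dvd_of_pow_eq_one h
      rw [hob] at this
      have hNpos : 0 < N := by rw [hN]; positivity
      have := Nat.le_of_dvd hNpos this
      omega
    rcases Int.even_or_odd i with ⟨j, rfl⟩ | ⟨j, rfl⟩
    · exfalso
      apply hbN1
      rw [hbNi, ← two_mul, zpow_mul, zpow_ofNat, haN2, one_zpow]
    · rw [hbNi, zpow_add, zpow_mul, zpow_ofNat, haN2, one_zpow, one_mul, zpow_one]
  have hab : a * b = b * a := hMcomm a haM b hbM
  have hcN : c ^ N = 1 := by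
    have hcomm : Commute a b⁻¹ := (show Commute a b from hab).inv_right
    rw [hc0, hcomm.mul_pow, inv_pow, hbN, mul_inv_cancel]
  -- S' ≤ zpowers c
  have hle : commutator S ≤ Subgroup.zpowers c := by
    rw [← hcR]
    intro g hg
    rw [Cfsg.Agent.Helper76.mem_commRange] at hg
    obtain ⟨x, hx, rfl⟩ := hg
    obtain ⟨i, hi⟩ := hMmem x hx
    have key : a ^ i * (t * (a ^ i)⁻¹ * t⁻¹) = c ^ i := by
      have h1 : t * (a ^ i)⁻¹ * t⁻¹ = (b ^ i)⁻¹ := by
        rw [hb, ← inv_zpow, ← inv_zpow]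
        have : t * a⁻¹ ^ i * t⁻¹ = (t * a⁻¹ * t⁻¹) ^ i := by rw [conj_zpow]
        rw [this]; congr 1; group
      rw [h1, hc0, (show Commute a b⁻¹ from (show Commute a b from hab).inv_right).mul_zpow,
        inv_zpow]
    rcases hi with rfl | rfl
    · rw [key]; exact Subgroup.zpow_mem _ (Subgroup.mem_zpowers c) i
    · have : a ^ i * z * (t * (a ^ i * z)⁻¹ * t⁻¹) = a ^ i * (t * (a ^ i)⁻¹ * t⁻¹) := by
        have hz' : t * z⁻¹ = z⁻¹ * t := by
          have := hzcomm t
          calc t * z⁻¹ = z⁻¹ * (z * t) * z⁻¹ := by group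
            _ = z⁻¹ * (t * z) * z⁻¹ := by rw [this]
            _ = z⁻¹ * t := by group
        calc a ^ i * z * (t * (a ^ i * z)⁻¹ * t⁻¹)
            = a ^ i * z * (t * z⁻¹ * (a ^ i)⁻¹ * t⁻¹) := by group
          _ = a ^ i * z * (z⁻¹ * t * (a ^ i)⁻¹ * t⁻¹) := by rw [hz']
          _ = a ^ i * (t * (a ^ i)⁻¹ * t⁻¹) := by group
      rw [this, key]; exact Subgroup.zpow_mem _ (Subgroup.mem_zpowers c) i
  have h1 : Nat.card ↥(commutator S) ≤ Nat.card ↥(Subgroup.zpowers c) := Subgroup.card_le_of_le hle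
  rw [hc', Nat.card_zpowers] at h1
  have h2 : orderOf c ≤ N := Nat.le_of_dvd (by rw [hN]; positivity) (orderOf_dvd_of_pow_eq_one hcN)
  have h3 : 2 ^ (n - 1) = 2 * N := by
    rw [hN, ← pow_succ']; congr 1; omega
  have hNpos : 0 < N := by rw [hN]; positivity
  omega

end Cfsg.Agent.Helper73
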