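import Mathlib
import Cfsg.Agent.Lib.Helper73.TwoGroupA

set_option autoImplicit false

universe u

namespace Cfsg.Agent.Helper73

open scoped commutatorElement

/-- A `2`-group of order `2^n ≥ 8` whose commutator subgroup has index `4` has a cyclic subgroup
of index `2`. -/
theorem exists_cyclic_max : ∀ (n : ℕ), 3 ≤ n → ∀ (S : Type u) [Group S] [Finite S],
    Nat.card S = 2 ^ n → (commutator S).index = 4 → ∃ a : S, orderOf a = 2 ^ (n - 1) := by
  intro n hn
  induction n, hn using Nat.le_induction with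
  | base =>
    intro S _ _ hcard hidx
    exact exists_orderOf_four hcard hidx
  | succ n hn ih =>
    intro S _ _ hcard hidx
    exact step n hn hcard hidx ih

/-- The structure of a `2`-group with a cyclic maximal subgroup `⟨a⟩` and commutator subgroup of
index `4`. -/
theorem classify {S : Type u} [Group S] [Finite S] (n : ℕ) (hn : 3 ≤ n)
    (hcard : Nat.card S = 2 ^ n) (hidx : (commutator S).index = 4) (a : S)
    (ha : orderOf a = 2 ^ (n - 1)) :
    (∃ t : S, t ∉ Subgroup.zpowers a ∧ t ^ 2 = 1 ∧ t * a * t⁻¹ = a⁻¹) ∨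
    (∃ t : S, t ∉ Subgroup.zpowers a ∧ t ^ 2 = a ^ (2 ^ (n - 2)) ∧ t * a * t⁻¹ = a⁻¹) ∨
    (4 ≤ n ∧ ∃ t : S, t ∉ Subgroup.zpowers a ∧ (t ^ 2 = 1 ∨ t ^ 2 = a ^ (2 ^ (n - 2))) ∧
      t * a * t⁻¹ = a⁻¹ * a ^ (2 ^ (n - 2))) := by
  set A := Subgroup.zpowers a with hA
  set N := 2 ^ (n - 2) with hN
  have hNpos : 0 < N := by rw [hN]; positivity
  have hoa : orderOf a = 2 * N := by
    rw [ha, hN, ← pow_succ']; congr 1; omega
  have hAcard : Nat.card ↥A = 2 * N := by rw [hA, Nat.card_zpowers, hoa]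
  have hAidx : A.index = 2 := by
    have h1 := A.card_mul_index
    rw [hAcard, hcard] at h1
    have : 2 ^ n = 2 * N * 2 := by
      rw [hN, ← pow_succ', ← pow_succ]; congr 1; omega
    rw [this] at h1
    exact Nat.eq_of_mul_eq_mul_left (by positivity) h1
  have hAn : A.Normal := Subgroup.normal_of_index_eq_two hAidx
  have hAcomm : ∀ x ∈ A, ∀ y ∈ A, x * y = y * x := by
    intro x hx y hy
    obtain ⟨i, rfl⟩ := Subgroup.mem_zpowers_iff.1 hx
    obtain ⟨j, rfl⟩ := Subgroup.mem_zpowers_iff.1 hy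
    rw [← zpow_add, ← zpow_add, add_comm]
  have haA : a ∈ A := Subgroup.mem_zpowers a
  obtain ⟨t, ht⟩ : ∃ t : S, t ∉ A := by
    by_contra h
    push Not at h
    have : A = ⊤ := eq_top_iff.2 fun x _ => h x
    rw [this, Subgroup.index_top] at hAidx
    omega
  have hgen := sup_zpowers_eq_top_of_index_two A hAidx t ht
  have hcR := Cfsg.Agent.Helper76.commRange_eq_commutator A hAn hAcomm t hgen
  have hc := card_commutator_of_index n (by omega) hcard hidx
  -- the centralizer of t in A has order 2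
  have hcent := Cfsg.Agent.Helper76.card_eq_card_commutator_mul_card_centralizer A hAn hAcomm t hgen
  rw [hAcard, hc, ← hN] at hcent
  have hCcard : Nat.card ↥(A ⊓ Subgroup.centralizer {t} : Subgroup S) = 2 := by
    have : 2 * N = N * 2 := by ring
    rw [this] at hcent
    exact (Nat.eq_of_mul_eq_mul_left hNpos hcent).symm
  set z := a ^ N with hz
  have hoz : orderOf z = 2 := by
    rw [hz, orderOf_pow_of_dvd hNpos.ne' (by rw [hoa]; exact dvd_mul_left N 2), hoa]
    exact Nat.mul_div_cancel _ hNpos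
  have hz2 : z ^ 2 = 1 := by rw [← hoz]; exact pow_orderOf_eq_one z
  have hzA : z ∈ A := Subgroup.pow_mem _ haA N
  -- elements of A of square one
  have hsq : ∀ y ∈ A, y ^ 2 = 1 → y = 1 ∨ y = z := by
    intro y hy hy2
    rw [hA, ← mem_powers_iff_mem_zpowers] at hy
    obtain ⟨i, rfl⟩ := hy
    have hy2 : a ^ (i * 2) = 1 := by rw [pow_mul]; exact hy2
    have hdvd : 2 * N ∣ i * 2 := by rw [← hoa]; exact orderOf_dvd_of_pow_eq_one hy2
    have hdvd' : N ∣ i := by
      have : N * 2 ∣ i * 2 := by rwa [mul_comm N 2]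
      exact Nat.dvd_of_mul_dvd_mul_right (by norm_num) this
    obtain ⟨j, rfl⟩ := hdvd'
    show a ^ (N * j) = 1 ∨ a ^ (N * j) = z
    rw [pow_mul, ← hz]
    rcases Nat.even_or_odd j with ⟨r, rfl⟩ | ⟨r, rfl⟩
    · left; rw [← two_mul, pow_mul, hz2, one_pow]
    · right; rw [pow_add, pow_mul, hz2, one_pow, one_mul, pow_one]
  have hCmem : ∀ y ∈ (A ⊓ Subgroup.centralizer {t} : Subgroup S), y = 1 ∨ y = z := by
    intro y hy
    apply hsq y hy.1
    have h1 : orderOf (⟨y, hy⟩ : ↥(A ⊓ Subgroup.centralizer {t} : Subgroup S)) ∣ 2 := by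
      rw [← hCcard]; exact orderOf_dvd_natCard _
    have h2 := (orderOf_dvd_iff_pow_eq_one).1 h1
    have := congrArg Subtype.val h2
    simpa using this
  -- t^2
  have ht2A : t ^ 2 ∈ A := Subgroup.sq_mem_of_index_two hAidx t
  have ht2C : t ^ 2 ∈ (A ⊓ Subgroup.centralizer {t} : Subgroup S) := by
    refine Subgroup.mem_inf.2 ⟨ht2A, ?_⟩
    rw [Subgroup.mem_centralizer_iff]
    intro x hx
    rw [Set.mem_singleton_iff] at hx
    rw [hx, pow_two, mul_assoc]
  have ht2 : t ^ 2 = 1 ∨ t ^ 2 = z := hCmem _ ht2C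
  -- b = t a t⁻¹
  set b := t * a * t⁻¹ with hb
  have hbA : b ∈ A := hAn.conj_mem a haA t
  have hab : a * b = b * a := hAcomm a haA b hbA
  have htb : t * b * t⁻¹ = a := by
    have h1 : t * b * t⁻¹ = t ^ 2 * a * (t ^ 2)⁻¹ := by rw [hb, pow_two]; group
    rw [h1, hAcomm _ ht2A a haA, mul_assoc, mul_inv_cancel, mul_one]
  have habC : a * b ∈ (A ⊓ Subgroup.centralizer {t} : Subgroup S) := by
    refine Subgroup.mem_inf.2 ⟨A.mul_mem haA hbA, ?_⟩
    rw [Subgroup.mem_centralizer_iff]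
    intro x hx
    rw [Set.mem_singleton_iff] at hx
    rw [hx]
    have h1 : t * (a * b) * t⁻¹ = b * a := by
      have : t * (a * b) * t⁻¹ = (t * a * t⁻¹) * (t * b * t⁻¹) := by group
      rw [this, htb]
    have h2 : t * (a * b) = (t * (a * b) * t⁻¹) * t := by group
    rw [h2, h1, ← hab]
  have hab' : a * b = 1 ∨ a * b = z := hCmem _ habC
  -- commutator = zpowers (a * b⁻¹)
  set c := a * b⁻¹ with hc0
  have hS' : commutator S = Subgroup.zpowers c := by
    apply le_antisymm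
    · rw [← hcR]
      intro g hg
      rw [Cfsg.Agent.Helper76.mem_commRange] at hg
      obtain ⟨x, hx, rfl⟩ := hg
      obtain ⟨i, rfl⟩ := Subgroup.mem_zpowers_iff.1 hx
      have key : a ^ i * (t * (a ^ i)⁻¹ * t⁻¹) = c ^ i := by
        have h1 : t * (a ^ i)⁻¹ * t⁻¹ = (b ^ i)⁻¹ := by
          rw [hb, ← inv_zpow, ← inv_zpow]
          have : t * a⁻¹ ^ i * t⁻¹ = (t * a⁻¹ * t⁻¹) ^ i := by rw [conj_zpow]
          rw [this]; congr 1; group
        rw [h1, hc0, (show Commute a b⁻¹ from (show Commute a b from hab).inv_right).mul_zpow,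
          inv_zpow]
      rw [key]; exact Subgroup.zpow_mem _ (Subgroup.mem_zpowers c) i
    · rw [Subgroup.zpowers_le, ← hcR, Cfsg.Agent.Helper76.mem_commRange]
      refine ⟨a, haA, ?_⟩
      rw [hc0, hb]; group
  have hoc : orderOf c = N := by
    rw [← Nat.card_zpowers, ← hS', hc]
  rcases hab' with h1 | h1
  · -- b = a⁻¹
    have hb' : t * a * t⁻¹ = a⁻¹ := by
      rw [← hb]; exact (eq_inv_of_mul_eq_one_right h1)
    rcases ht2 with h2 | h2
    · exact Or.inl ⟨t, ht, h2, hb'⟩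
    · exact Or.inr (Or.inl ⟨t, ht, h2, hb'⟩)
  · -- b = a⁻¹ z
    have hb' : t * a * t⁻¹ = a⁻¹ * z := by
      rw [← hb, ← h1]; group
    right; right
    refine ⟨?_, t, ht, ht2, hb'⟩
    by_contra hn4
    have hn3 : n = 3 := by omega
    have hN1 : N = 2 := by rw [hN, hn3]; norm_num
    have hzz : z = a ^ 2 := by rw [hz, hN1]
    have hba : b = a := by
      rw [hb, hb', hzz, pow_two]; group
    have hc1 : c = 1 := by rw [hc0, hba, mul_inv_cancel]
    rw [hc1, orderOf_one, hN1] at hoc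
    omega

end Cfsg.Agent.Helper73
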