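import Mathlib
import Cfsg.Agent.S0012
import Cfsg.Agent.Lib.Helper73.TwoGroupB

set_option autoImplicit false

universe u

namespace Cfsg.Agent.Helper73

/-- In a finite `2`-group, a subgroup generating together with the commutator subgroup is
everything. -/
theorem eq_top_of_sup_commutator {X : Type*} [Group X] [Finite X] (hX : IsPGroup 2 X)
    (K : Subgroup X) (h : K ⊔ commutator X = ⊤) : K = ⊤ := by
  haveI : Fact (Nat.Prime 2) := ⟨Nat.prime_two⟩
  have h1 : commutator X ≤ frattini X := (Cfsg.Agent.S0012.result 2 hX).1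
  apply frattini_nongenerating
  rw [eq_top_iff, ← h]
  exact sup_le_sup_left h1 K

/-- The commutator quotient of a nonabelian `2`-group has order divisible by `4`. -/
theorem four_dvd_index_commutator {X : Type*} [Group X] [Finite X] (hX : IsPGroup 2 X)
    (hna : commutator X ≠ ⊥) : 4 ∣ (commutator X).index := by
  haveI : Fact (Nat.Prime 2) := ⟨Nat.prime_two⟩
  obtain ⟨j, hj⟩ := hX.index (commutator X)
  rw [hj]
  rcases (show j = 0 ∨ j = 1 ∨ 2 ≤ j by omega) with rfl | rfl | h2
  · exfalso
    rw [pow_zero, Subgroup.index_eq_one] at hj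
    have : (⊥ : Subgroup X) = ⊤ := eq_top_of_sup_commutator hX ⊥ (by rw [hj]; simp)
    apply hna
    rw [eq_bot_iff, this]
    exact le_top
  · exfalso
    rw [pow_one] at hj
    obtain ⟨x, hx⟩ : ∃ x, x ∉ commutator X := by
      by_contra h
      push Not at h
      have : commutator X = ⊤ := eq_top_iff.2 fun y _ => h y
      rw [this, Subgroup.index_top] at hj
      omega
    have hgen := sup_zpowers_eq_top_of_index_two (commutator X) hj x hx
    rw [sup_comm] at hgen
    have htop := eq_top_of_sup_commutator hX _ hgen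
    apply hna
    apply commutator_eq_bot_of_comm
    intro a b
    have ha : a ∈ Subgroup.zpowers x := htop ▸ Subgroup.mem_top a
    have hb : b ∈ Subgroup.zpowers x := htop ▸ Subgroup.mem_top b
    obtain ⟨i, rfl⟩ := Subgroup.mem_zpowers_iff.1 ha
    obtain ⟨k, rfl⟩ := Subgroup.mem_zpowers_iff.1 hb
    rw [← zpow_add, ← zpow_add, add_comm]
  · exact dvd_trans (by norm_num : 4 ∣ 2 ^ 2) (pow_dvd_pow 2 h2)

/-- The terms of the lower central series of a `2`-group of class `c` have order at least
`2 ^ (c - k)`. -/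
theorem card_lcs_ge {X : Type*} [Group X] [Finite X] (hX : IsPGroup 2 X) :
    ∀ j k : ℕ, k + j = Group.nilpotencyClass X →
      2 ^ j ≤ Nat.card ((⊤ : Subgroup X).lowerCentralSeries k) := by
  haveI : Fact (Nat.Prime 2) := ⟨Nat.prime_two⟩
  haveI := hX.isNilpotent
  intro j
  induction j with
  | zero => intro k _; exact Nat.card_pos
  | succ j ih =>
    intro k hk
    have h1 := ih (k + 1) (by omega)
    have hle : (⊤ : Subgroup X).lowerCentralSeries (k + 1) ≤ (⊤ : Subgroup X).lowerCentralSeries k :=
      Subgroup.lowerCentralSeries_antitone _ (Nat.le_succ k)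
    have hne : (⊤ : Subgroup X).lowerCentralSeries (k + 1) ≠ (⊤ : Subgroup X).lowerCentralSeries k := by
      intro heq
      have hall : ∀ m, (⊤ : Subgroup X).lowerCentralSeries (k + m) =
          (⊤ : Subgroup X).lowerCentralSeries k := by
        intro m
        induction m with
        | zero => rfl
        | succ m ihm =>
          rw [← add_assoc, Subgroup.lowerCentralSeries_succ, ihm, ← Subgroup.lowerCentralSeries_succ,
            heq]
      have hc : (⊤ : Subgroup X).lowerCentralSeries (Group.nilpotencyClass X) = ⊥ :=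
        Subgroup.lowerCentralSeries_nilpotencyClass
      rw [← hk, hall] at hc
      have := (Subgroup.lowerCentralSeries_eq_bot_iff_nilpotencyClass_le).1 hc
      omega
    obtain ⟨u, hu⟩ := IsPGroup.iff_card.1 (hX.to_subgroup ((⊤ : Subgroup X).lowerCentralSeries k))
    obtain ⟨v, hv⟩ := IsPGroup.iff_card.1
      (hX.to_subgroup ((⊤ : Subgroup X).lowerCentralSeries (k + 1)))
    have hcardlt : Nat.card ((⊤ : Subgroup X).lowerCentralSeries (k + 1)) <
        Nat.card ((⊤ : Subgroup X).lowerCentralSeries k) := by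
      by_contra hge
      push Not at hge
      exact hne (Subgroup.eq_of_le_of_card_ge hle hge)
    rw [hu, hv] at hcardlt
    rw [hv] at h1
    rw [hu]
    have hvu : v < u := (Nat.pow_lt_pow_iff_right (by norm_num)).1 hcardlt
    have hjv : j ≤ v := (Nat.pow_le_pow_iff_right (by norm_num)).1 h1
    exact Nat.pow_le_pow_right (by norm_num) (by omega)

/-- A `2`-group of order `2 ^ n ≥ 8` and class `n - 1` has commutator quotient of order `4`. -/
theorem index_commutator_of_class {X : Type*} [Group X] [Finite X] (n : ℕ) (hn : 3 ≤ n)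
    (hcard : Nat.card X = 2 ^ n) (hc : Group.nilpotencyClass X = n - 1) :
    (commutator X).index = 4 := by
  haveI : Fact (Nat.Prime 2) := ⟨Nat.prime_two⟩
  have hX : IsPGroup 2 X := IsPGroup.of_card hcard
  haveI := hX.isNilpotent
  have hna : commutator X ≠ ⊥ := by
    intro h
    have h1 : (⊤ : Subgroup X).lowerCentralSeries 1 = ⊥ := h
    have := (Subgroup.lowerCentralSeries_eq_bot_iff_nilpotencyClass_le).1 h1
    omega
  obtain ⟨m, hm⟩ := four_dvd_index_commutator hX hna
  have hge : 2 ^ (n - 2) ≤ Nat.card (commutator X) := card_lcs_ge hX (n - 2) 1 (by omega)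
  have hmul := (commutator X).card_mul_index
  rw [hcard, hm] at hmul
  have h2n : 2 ^ n = 2 ^ (n - 2) * 4 := by
    rw [show (4 : ℕ) = 2 ^ 2 by norm_num, ← pow_add]; congr 1; omega
  rw [h2n] at hmul
  have hmul' : Nat.card (commutator X) * m = 2 ^ (n - 2) := by
    have : Nat.card (commutator X) * m * 4 = 2 ^ (n - 2) * 4 := by rw [← hmul]; ring
    exact Nat.eq_of_mul_eq_mul_right (by norm_num) this
  have hm1 : m = 1 := by
    have hpos : 0 < 2 ^ (n - 2) := by positivity
    rcases (show m = 0 ∨ m = 1 ∨ 2 ≤ m by omega) with rfl | h | h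
    · rw [mul_zero] at hmul'; omega
    · exact h
    · exfalso
      have : Nat.card (commutator X) * 2 ≤ Nat.card (commutator X) * m :=
        Nat.mul_le_mul_left _ h
      omega
  rw [hm, hm1]

/-- The centre of a `2`-group of order `2 ^ n ≥ 8` with commutator quotient of order `4` and a cyclic
maximal subgroup `⟨a⟩`. -/
theorem cyclic_max_center {S : Type u} [Group S] [Finite S] (n : ℕ) (hn : 3 ≤ n)
    (hcard : Nat.card S = 2 ^ n) (hidx : (commutator S).index = 4) (a : S)
    (ha : orderOf a = 2 ^ (n - 1)) :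
    Nat.card (Subgroup.center S) = 2 ∧ Subgroup.center S ≤ Subgroup.zpowers a ∧
      ∀ g : S, g ∈ Subgroup.center S ↔ g = 1 ∨ g = a ^ (2 ^ (n - 2)) := by
  set A := Subgroup.zpowers a with hA
  set N := 2 ^ (n - 2) with hN
  have hNpos : 0 < N := by rw [hN]; positivity
  have hoa : orderOf a = 2 * N := by
    rw [ha, hN, ← pow_succ']; congr 1; omega
  have hAcard : Nat.card ↥A = 2 * N := by rw [hA, Nat.card_zpowers, hoa]
  have hAidx : A.index = 2 := by
    have h1 := A.card_mul_index
    rw [hAcard, hcard] at h1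
    have : 2 ^ n = 2 * N * 2 := by
      rw [hN, ← pow_succ', ← pow_succ]; congr 1; omega
    rw [this] at h1
    exact Nat.eq_of_mul_eq_mul_left (by positivity) h1
  have hAn : A.Normal := Subgroup.normal_of_index_eq_two hAidx
  have hAcomm : ∀ x ∈ A, ∀ y ∈ A, x * y = y * x := by
    intro x hx y hy
    obtain ⟨i, rfl⟩ := Subgroup.mem_zpowers_iff.1 hx
    obtain ⟨j, rfl⟩ := Subgroup.mem_zpowers_iff.1 hy
    rw [← zpow_add, ← zpow_add, add_comm]
  have haA : a ∈ A := Subgroup.mem_zpowers a
  obtain ⟨t, ht⟩ : ∃ t : S, t ∉ A := by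
    by_contra h
    push Not at h
    have : A = ⊤ := eq_top_iff.2 fun x _ => h x
    rw [this, Subgroup.index_top] at hAidx
    omega
  have hgen := sup_zpowers_eq_top_of_index_two A hAidx t ht
  have hc := card_commutator_of_index n (by omega) hcard hidx
  have hcent := Cfsg.Agent.Helper76.card_eq_card_commutator_mul_card_centralizer A hAn hAcomm t hgen
  rw [hAcard, hc, ← hN] at hcent
  have hCcard : Nat.card ↥(A ⊓ Subgroup.centralizer {t} : Subgroup S) = 2 := by
    have : 2 * N = N * 2 := by ring
    rw [this] at hcent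
    exact (Nat.eq_of_mul_eq_mul_left hNpos hcent).symm
  rw [Cfsg.Agent.Helper76.inf_centralizer_eq_inf_center A hAcomm t hgen] at hCcard
  -- the centre lies in A
  have hZA : Subgroup.center S ≤ A := by
    intro g hg
    by_contra hgA
    have hgen' := sup_zpowers_eq_top_of_index_two A hAidx g hgA
    have hAle : A ≤ Subgroup.center S := by
      intro y hy
      have : Subgroup.centralizer {y} = ⊤ := by
        rw [eq_top_iff, ← hgen']
        apply sup_le
        · intro y' hy'
          rw [Subgroup.mem_centralizer_iff]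
          intro h hh
          rw [Set.mem_singleton_iff] at hh
          rw [hh]
          exact hAcomm y hy y' hy'
        · rw [Subgroup.zpowers_le, Subgroup.mem_centralizer_iff]
          intro h hh
          rw [Set.mem_singleton_iff] at hh
          rw [hh]
          exact (Subgroup.mem_center_iff.1 hg y)
      rw [Subgroup.mem_center_iff]
      intro w
      have hw : w ∈ Subgroup.centralizer {y} := this ▸ Subgroup.mem_top w
      rw [Subgroup.mem_centralizer_iff] at hw
      exact (hw y rfl).symm
    have htop : Subgroup.center S = ⊤ := by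
      rw [eq_top_iff, ← hgen']
      exact sup_le hAle (Subgroup.zpowers_le.2 hg)
    have hcomm : commutator S = ⊥ := by
      apply commutator_eq_bot_of_comm
      intro x y
      have hx : x ∈ Subgroup.center S := htop ▸ Subgroup.mem_top x
      exact (Subgroup.mem_center_iff.1 hx y).symm
    rw [hcomm, Subgroup.index_bot, hcard] at hidx
    have : 2 ^ 3 ≤ 2 ^ n := Nat.pow_le_pow_right (by norm_num) hn
    omega
  have hinf : A ⊓ Subgroup.center S = Subgroup.center S := inf_eq_right.2 hZA
  rw [hinf] at hCcard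
  refine ⟨hCcard, hZA, ?_⟩
  set z := a ^ N with hz
  have hoz : orderOf z = 2 := by
    rw [hz, orderOf_pow_of_dvd hNpos.ne' (by rw [hoa]; exact dvd_mul_left N 2), hoa]
    exact Nat.mul_div_cancel _ hNpos
  have hz2 : z ^ 2 = 1 := by rw [← hoz]; exact pow_orderOf_eq_one z
  have hz1 : z ≠ 1 := by
    intro h; rw [h, orderOf_one] at hoz; omega
  have hsq : ∀ y ∈ A, y ^ 2 = 1 → y = 1 ∨ y = z := by
    intro y hy hy2
    rw [hA, ← mem_powers_iff_mem_zpowers] at hy
    obtain ⟨i, rfl⟩ := hy
    have hy2 : a ^ (i * 2) = 1 := by rw [pow_mul]; exact hy2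
    have hdvd : 2 * N ∣ i * 2 := by rw [← hoa]; exact orderOf_dvd_of_pow_eq_one hy2
    have hdvd' : N ∣ i := by
      have : N * 2 ∣ i * 2 := by rwa [mul_comm N 2]
      exact Nat.dvd_of_mul_dvd_mul_right (by norm_num) this
    obtain ⟨j, rfl⟩ := hdvd'
    show a ^ (N * j) = 1 ∨ a ^ (N * j) = z
    rw [pow_mul, ← hz]
    rcases Nat.even_or_odd j with ⟨r, rfl⟩ | ⟨r, rfl⟩
    · left; rw [← two_mul, pow_mul, hz2, one_pow]
    · right; rw [pow_add, pow_mul, hz2, one_pow, one_mul, pow_one]
  have hZmem : ∀ y ∈ Subgroup.center S, y = 1 ∨ y = z := by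
    intro y hy
    apply hsq y (hZA hy)
    have h1 : orderOf (⟨y, hy⟩ : ↥(Subgroup.center S)) ∣ 2 := by
      rw [← hCcard]; exact orderOf_dvd_natCard _
    have h2 := (orderOf_dvd_iff_pow_eq_one).1 h1
    have := congrArg Subtype.val h2
    simpa using this
  have hzZ : z ∈ Subgroup.center S := by
    have hne : Subgroup.center S ≠ ⊥ := by
      intro h
      rw [h, Subgroup.card_bot] at hCcard
      omega
    obtain ⟨y, hy, hy1⟩ := (Subgroup.ne_bot_iff_exists_ne_one).1 hne |>.imp
      (fun y hy => hy) |> fun ⟨y, hy⟩ => (⟨y.1, y.2, fun h => hy (Subtype.ext h)⟩ :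
        ∃ y : S, y ∈ Subgroup.center S ∧ y ≠ 1)
    rcases hZmem y hy with h | h
    · exact absurd h hy1
    · rw [← h]; exact hy
  intro g
  constructor
  · exact hZmem g
  · rintro (rfl | rfl)
    · exact Subgroup.one_mem _
    · exact hzZ

end Cfsg.Agent.Helper73
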