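import Mathlib
import Cfsg.Agent.S0206
import Cfsg.Agent.Lib.Helper73.TwoGroupC

set_option autoImplicit false

universe u

namespace Cfsg.Agent.Helper73

/-- The central quotient of a `2`-group of order `2 ^ n ≥ 8` with commutator quotient of order `4`
has order `2 ^ (n - 1)` and again commutator quotient of order `4`. -/
theorem quotient_center_data {S : Type u} [Group S] [Finite S] (n : ℕ) (hn : 3 ≤ n)
    (hcard : Nat.card S = 2 ^ n) (hidx : (commutator S).index = 4) :
    Nat.card (S ⧸ Subgroup.center S) = 2 ^ (n - 1) ∧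
      (commutator (S ⧸ Subgroup.center S)).index = 4 := by
  have h2 : Fact (Nat.Prime 2) := ⟨Nat.prime_two⟩
  have hp : IsPGroup 2 S := IsPGroup.of_card hcard
  have hnil : Group.IsNilpotent S := hp.isNilpotent
  obtain ⟨a, ha⟩ := exists_cyclic_max n hn S hcard hidx
  obtain ⟨hZcard, hZA, hZmem⟩ := cyclic_max_center n hn hcard hidx a ha
  set Z := Subgroup.center S with hZ
  have hc := card_commutator_of_index n (by omega) hcard hidx
  have hS'0 : commutator S ≠ ⊥ := by
    intro h
    rw [h, Subgroup.card_bot] at hc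
    have : 2 ≤ 2 ^ (n - 2) := by
      calc 2 = 2 ^ 1 := by norm_num
        _ ≤ 2 ^ (n - 2) := Nat.pow_le_pow_right (by norm_num) (by omega)
    omega
  have hK0 := Cfsg.Agent.Helper10.normal_inf_center_ne_bot (commutator S) hS'0
  have hZS' : Z ≤ commutator S := by
    obtain ⟨y, hy, hy1⟩ : ∃ y : S, y ∈ commutator S ⊓ Subgroup.center S ∧ y ≠ 1 := by
      by_contra h
      push Not at h
      apply hK0
      rw [eq_bot_iff]
      intro y hy
      rw [Subgroup.mem_bot]
      exact h y hy
    have hyz : y = a ^ (2 ^ (n - 2)) := by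
      rcases (hZmem y).1 hy.2 with h | h
      · exact absurd h hy1
      · exact h
    intro g hg
    rcases (hZmem g).1 hg with h | h
    · rw [h]; exact Subgroup.one_mem _
    · rw [h, ← hyz]; exact hy.1
  have hQcard : Nat.card (S ⧸ Z) = 2 ^ (n - 1) := by
    have := Subgroup.card_eq_card_quotient_mul_card_subgroup Z
    rw [hcard, hZcard] at this
    have h2n : 2 ^ n = 2 ^ (n - 1) * 2 := by
      rw [← pow_succ]; congr 1; omega
    rw [h2n] at this
    exact (Nat.eq_of_mul_eq_mul_right (by norm_num) this).symm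
  refine ⟨hQcard, ?_⟩
  have h1 : commutator (S ⧸ Z) = (commutator S).map (QuotientGroup.mk' Z) := by
    rw [map_commutator_eq, MonoidHom.range_eq_top.2 (QuotientGroup.mk'_surjective Z),
      commutator_def]
  rw [h1, Subgroup.index_map, QuotientGroup.ker_mk', sup_eq_left.2 hZS',
    MonoidHom.range_eq_top.2 (QuotientGroup.mk'_surjective Z), Subgroup.index_top, mul_one, hidx]

/-- A `2`-group of order `2 ^ n` with commutator quotient of order `4` has class `n - 1`. -/
theorem class_of_index_four : ∀ (n : ℕ), 2 ≤ n → ∀ (S : Type u) [Group S] [Finite S],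
    Nat.card S = 2 ^ n → (commutator S).index = 4 → Group.nilpotencyClass S = n - 1 := by
  intro n hn
  induction n, hn using Nat.le_induction with
  | base =>
    intro S _ _ hcard hidx
    have h2 : Fact (Nat.Prime 2) := ⟨Nat.prime_two⟩
    have hp : IsPGroup 2 S := IsPGroup.of_card hcard
    have hnil : Group.IsNilpotent S := hp.isNilpotent
    have hc := card_commutator_of_index 2 le_rfl hcard hidx
    rw [Nat.sub_self, pow_zero, Subgroup.card_eq_one] at hc
    have hcomm : IsMulCommutative S := by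
      rw [← Subgroup.lowerCentralSeries_one_eq_bot_iff]
      exact hc
    have h1 : Group.nilpotencyClass S ≤ 1 := Group.IsNilpotent.nilpotencyClass_le_one_iff.2 hcomm
    have h0 : Group.nilpotencyClass S ≠ 0 := by
      intro h
      rw [Group.nilpotencyClass_zero_iff_subsingleton] at h
      have : Nat.card S = 1 := Nat.card_eq_one_iff_unique.2 ⟨h, ⟨1⟩⟩
      rw [hcard] at this
      norm_num at this
    omega
  | succ n hn ih =>
    intro S _ _ hcard hidx
    have h2 : Fact (Nat.Prime 2) := ⟨Nat.prime_two⟩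
    have hp : IsPGroup 2 S := IsPGroup.of_card hcard
    have hnil : Group.IsNilpotent S := hp.isNilpotent
    obtain ⟨hQcard, hQidx⟩ := quotient_center_data (n + 1) (by omega) hcard hidx
    rw [Nat.add_sub_cancel] at hQcard
    have hQ := ih (S ⧸ Subgroup.center S) hQcard hQidx
    have hnt : Nontrivial S := by
      rw [← Finite.one_lt_card_iff_nontrivial, hcard]
      exact Nat.one_lt_two_pow (by omega)
    rw [Group.nilpotencyClass_eq_quotient_center_plus_one, hQ]
    omega

/-- The central quotient of a `2`-group of order `2 ^ n ≥ 8` with commutator quotient of order `4`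
is dihedral of order `2 ^ (n - 1)`. -/
theorem quotient_center_dihedral {S : Type u} [Group S] [Finite S] (n : ℕ) (hn : 3 ≤ n)
    (hcard : Nat.card S = 2 ^ n) (hidx : (commutator S).index = 4) :
    Nonempty (S ⧸ Subgroup.center S ≃* DihedralGroup (2 ^ (n - 2))) := by
  obtain ⟨a, ha⟩ := exists_cyclic_max n hn S hcard hidx
  obtain ⟨hZcard, hZA, hZmem⟩ := cyclic_max_center n hn hcard hidx a ha
  obtain ⟨hQcard, -⟩ := quotient_center_data n hn hcard hidx
  set Z := Subgroup.center S with hZ
  set z := a ^ (2 ^ (n - 2)) with hz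
  have hzZ : z ∈ Z := (hZmem z).2 (Or.inr rfl)
  have hN2 : 2 ^ (n - 1) = 2 * 2 ^ (n - 2) := by
    rw [← pow_succ']; congr 1; omega
  have hzz : z ^ 2 = 1 := by
    rw [hz, ← pow_mul, mul_comm, ← hN2, ← ha]; exact pow_orderOf_eq_one a
  have hZsq : ∀ g ∈ Z, g ^ 2 = 1 := by
    intro g hg
    rcases (hZmem g).1 hg with h | h
    · rw [h, one_pow]
    · rw [h]; exact hzz
  -- the presentation
  obtain ⟨t, ht, ht2, hta⟩ : ∃ t : S, t ∉ Subgroup.zpowers a ∧ t ^ 2 ∈ Z ∧
      ∃ w ∈ Z, t * a * t⁻¹ = a⁻¹ * w := by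
    rcases classify n hn hcard hidx a ha with ⟨t, ht, ht2, hta⟩ | ⟨t, ht, ht2, hta⟩ |
      ⟨-, t, ht, ht2, hta⟩
    · exact ⟨t, ht, by rw [ht2]; exact Subgroup.one_mem _, 1, Subgroup.one_mem _, by rw [hta, mul_one]⟩
    · exact ⟨t, ht, by rw [ht2]; exact hzZ, 1, Subgroup.one_mem _, by rw [hta, mul_one]⟩
    · refine ⟨t, ht, ?_, z, hzZ, hta⟩
      rcases ht2 with h | h
      · rw [h]; exact Subgroup.one_mem _
      · rw [h]; exact hzZ
  obtain ⟨w, hwZ, hta⟩ := hta
  set π := QuotientGroup.mk' Z with hπ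
  have hπ1 : ∀ g ∈ Z, π g = 1 := fun g hg => (QuotientGroup.eq_one_iff g).2 hg
  have hπne : ∀ g, g ∉ Subgroup.zpowers a → π g ≠ 1 := by
    intro g hg h
    exact hg (hZA ((QuotientGroup.eq_one_iff g).1 h))
  have hx : orderOf (π t) = 2 := by
    apply orderOf_eq_prime _ (hπne t ht)
    rw [← map_pow]; exact hπ1 _ ht2
  have htaA : t * a ∉ Subgroup.zpowers a := by
    intro h
    apply ht
    have : t = (t * a) * a⁻¹ := by group
    rw [this]
    exact Subgroup.mul_mem _ h (Subgroup.inv_mem _ (Subgroup.mem_zpowers a))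
  have hy : orderOf (π (t * a)) = 2 := by
    apply orderOf_eq_prime _ (hπne _ htaA)
    rw [← map_pow]
    have : (t * a) ^ 2 = (t * a * t⁻¹) * (t ^ 2) * a := by rw [pow_two, pow_two]; group
    rw [this, hta, map_mul, map_mul, map_mul, hπ1 _ hwZ, hπ1 _ ht2, mul_one, mul_one, ← map_mul,
      inv_mul_cancel, map_one]
  have hprod : π t * π (t * a) = π a := by
    rw [← map_mul, ← mul_assoc, ← pow_two, map_mul, hπ1 _ ht2, one_mul]
  have hoa : orderOf (π a) = 2 ^ (n - 2) := by
    have hdvd : orderOf (π a) ∣ 2 ^ (n - 2) := by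
      apply orderOf_dvd_of_pow_eq_one
      rw [← map_pow]; exact hπ1 _ hzZ
    obtain ⟨j, hj, hoj⟩ := (Nat.dvd_prime_pow Nat.prime_two).1 hdvd
    rcases (show j = n - 2 ∨ j < n - 2 by omega) with rfl | hlt
    · exact hoj
    · exfalso
      have h1 : (π a) ^ (2 ^ j) = 1 := by rw [← hoj]; exact pow_orderOf_eq_one _
      rw [← map_pow] at h1
      have h2 : a ^ (2 ^ j) ∈ Z := (QuotientGroup.eq_one_iff _).1 h1
      have h3 := hZsq _ h2
      rw [← pow_mul, ← pow_succ] at h3
      have h4 := orderOf_dvd_of_pow_eq_one h3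
      rw [ha] at h4
      have := (Nat.pow_dvd_pow_iff_le_right (by norm_num)).1 h4
      omega
  have hxy : π t ≠ π (t * a) := by
    intro h
    have h1 : π a = 1 := by
      have : π (t * a) = π t * π a := map_mul _ _ _
      rw [this] at h
      exact (mul_eq_left (a := π t)).1 h.symm
    rw [h1, orderOf_one] at hoa
    have : 2 ≤ 2 ^ (n - 2) := by
      calc 2 = 2 ^ 1 := by norm_num
        _ ≤ 2 ^ (n - 2) := Nat.pow_le_pow_right (by norm_num) (by omega)
    omega
  obtain ⟨e⟩ := Cfsg.Agent.S0206.result (π t) (π (t * a)) hx hy hxy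
  rw [hprod, hoa] at e
  have htop : Subgroup.closure ({π t, π (t * a)} : Set (S ⧸ Z)) = ⊤ := by
    haveI : NeZero (2 ^ (n - 2)) := ⟨by positivity⟩
    rw [← Subgroup.card_eq_iff_eq_top, Nat.card_congr e.toEquiv, DihedralGroup.nat_card, hQcard,
      hN2]
  exact ⟨(Subgroup.topEquiv.symm.trans (MulEquiv.subgroupCongr htop.symm)).trans e⟩

end Cfsg.Agent.Helper73
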