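import Mathlib

set_option autoImplicit false

namespace Cfsg.Agent.Helper73

variable {G : Type*} [Group G]

/-- power of `R` by an element of `ZMod M` -/
noncomputable def zq (R : G) (M : ℕ) (i : ZMod M) : G := R ^ (ZMod.cast i : ℤ)

theorem zq_intCast (R : G) (M : ℕ) (hR : orderOf R = M) (k : ℤ) :
    zq R M (k : ZMod M) = R ^ k := by
  unfold zq
  rw [zpow_eq_zpow_iff_modEq, hR, ← ZMod.intCast_eq_intCast_iff, ZMod.intCast_zmod_cast]

theorem zq_eq (R : G) (M : ℕ) (i : ZMod M) : ∃ k : ℤ, (k : ZMod M) = i ∧ zq R M i = R ^ k :=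
  ⟨ZMod.cast i, ZMod.intCast_zmod_cast i, rfl⟩

theorem zq_add (R : G) (M : ℕ) (hR : orderOf R = M) (i j : ZMod M) :
    zq R M (i + j) = zq R M i * zq R M j := by
  obtain ⟨a, rfl, ha⟩ := zq_eq R M i
  obtain ⟨b, rfl, hb⟩ := zq_eq R M j
  rw [ha, hb, ← Int.cast_add, zq_intCast R M hR, zpow_add]

theorem zq_sub (R : G) (M : ℕ) (hR : orderOf R = M) (i j : ZMod M) :
    zq R M (j - i) = (zq R M i)⁻¹ * zq R M j := by
  obtain ⟨a, rfl, ha⟩ := zq_eq R M i
  obtain ⟨b, rfl, hb⟩ := zq_eq R M j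
  rw [ha, hb, ← Int.cast_sub, zq_intCast R M hR, ← zpow_neg, ← zpow_add]
  congr 1; ring

theorem zq_natCast (R : G) (M : ℕ) (hR : orderOf R = M) (k : ℕ) :
    zq R M (k : ZMod M) = R ^ k := by
  have := zq_intCast R M hR (k : ℤ)
  rwa [Int.cast_natCast, zpow_natCast] at this

theorem zq_eq_one (R : G) (M : ℕ) (hR : orderOf R = M) (i : ZMod M) (h : zq R M i = 1) :
    i = 0 := by
  obtain ⟨a, rfl, ha⟩ := zq_eq R M i
  rw [ha] at h
  rw [ZMod.intCast_zmod_eq_zero_iff_dvd, ← hR]
  exact orderOf_dvd_iff_zpow_eq_one.mpr h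

theorem zq_mem (R : G) (M : ℕ) (i : ZMod M) : zq R M i ∈ Subgroup.zpowers R :=
  Subgroup.zpow_mem_zpowers R _

section
variable {a t : G} {N : ℕ} (ha : orderOf a = 2 * N) (ht2 : t ^ 2 = a ^ N)
  (hta : t * a * t⁻¹ = a⁻¹)
include hta

theorem zpow_mul_inverting (k : ℤ) : a ^ k * t = t * (a ^ k)⁻¹ := by
  have h1 : t * a ^ k * t⁻¹ = (a ^ k)⁻¹ := by
    rw [← conj_zpow, hta, inv_zpow]
  have h2 : t * (a ^ k)⁻¹ * t⁻¹ = a ^ k := by
    rw [← inv_zpow, ← conj_zpow]
    congr 1
    have : t * a⁻¹ * t⁻¹ = (t * a * t⁻¹)⁻¹ := by group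
    rw [this, hta, inv_inv]
  calc a ^ k * t = (t * (a ^ k)⁻¹ * t⁻¹) * t := by rw [h2]
    _ = t * (a ^ k)⁻¹ := by group

theorem zq_mul_inverting (i : ZMod (2 * N)) :
    zq a (2 * N) i * t = t * (zq a (2 * N) i)⁻¹ := by
  unfold zq
  exact zpow_mul_inverting hta _

/-- the underlying function of the hom from the quaternion group -/
noncomputable def quatFun (a t : G) (N : ℕ) : QuaternionGroup N → G
  | QuaternionGroup.a i => zq a (2 * N) i
  | QuaternionGroup.xa i => t * zq a (2 * N) i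

include ha ht2

theorem quatFun_mul (x y : QuaternionGroup N) :
    quatFun a t N (x * y) = quatFun a t N x * quatFun a t N y := by
  cases x with
  | a i =>
    cases y with
    | a j => simp only [QuaternionGroup.a_mul_a, quatFun, zq_add a _ ha]
    | xa j =>
      simp only [QuaternionGroup.a_mul_xa, quatFun, zq_sub a _ ha]
      rw [← mul_assoc, ← mul_assoc, zq_mul_inverting hta i]
  | xa i =>
    cases y with
    | a j => simp only [QuaternionGroup.xa_mul_a, quatFun, zq_add a _ ha, mul_assoc]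
    | xa j =>
      simp only [QuaternionGroup.xa_mul_xa, quatFun]
      rw [add_sub_assoc, zq_add a _ ha, zq_sub a _ ha, zq_natCast a _ ha, ← ht2]
      have h := zq_mul_inverting hta i
      calc t ^ 2 * ((zq a (2 * N) i)⁻¹ * zq a (2 * N) j)
          = t * (t * (zq a (2 * N) i)⁻¹) * zq a (2 * N) j := by rw [pow_two]; group
        _ = t * (zq a (2 * N) i * t) * zq a (2 * N) j := by rw [h]
        _ = t * zq a (2 * N) i * (t * zq a (2 * N) j) := by group

/-- the hom from the quaternion group -/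
noncomputable def quatHom : QuaternionGroup N →* G :=
  MonoidHom.mk' (quatFun a t N) (quatFun_mul ha ht2 hta)

theorem quatHom_injective (ht : t ∉ Subgroup.zpowers a) :
    Function.Injective (quatHom ha ht2 hta) := by
  rw [injective_iff_map_eq_one]
  intro x hx
  change quatFun a t N x = 1 at hx
  cases x with
  | a i =>
    simp only [quatFun] at hx
    rw [zq_eq_one a _ ha _ hx]
    rfl
  | xa i =>
    exfalso
    simp only [quatFun] at hx
    apply ht
    have : t = (zq a (2 * N) i)⁻¹ := eq_inv_of_mul_eq_one_left hx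
    rw [this]
    exact Subgroup.inv_mem _ (zq_mem a _ i)

/-- Recognition of generalized quaternion groups. -/
theorem quat_equiv [Finite G] [NeZero N] (ht : t ∉ Subgroup.zpowers a)
    (hcard : Nat.card G = 4 * N) : Nonempty (G ≃* QuaternionGroup N) := by
  have hinj := quatHom_injective ha ht2 hta ht
  have hc : Nat.card (QuaternionGroup N) = Nat.card G := by
    rw [hcard, Nat.card_eq_fintype_card, QuaternionGroup.card]
  have hbij : Function.Bijective (quatHom ha ht2 hta) :=
    (Nat.bijective_iff_injective_and_card _).2 ⟨hinj, hc⟩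
  exact ⟨(MulEquiv.ofBijective _ hbij).symm⟩

end

end Cfsg.Agent.Helper73
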