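import Mathlib
import Cfsg.Agent.Lib.Helper73.SL23Recog
import Cfsg.Agent.Lib.Helper73.MetacyclicAut
import Cfsg.Agent.Lib.Helper2.Frobenius
import Cfsg.Agent.S0016
import Cfsg.Agent.S0218
import Cfsg.Agent.S4189
import Cfsg.Agent.S3919
import Cfsg.Agent.S4419

set_option autoImplicit false
open Cfsg

namespace Cfsg.Agent.Helper73.QuatAux

open Cfsg.Agent.Helper73 Cfsg.Agent.Helper5 Cfsg.Agent.Helper2

/-- unique involution in a generalized quaternion group -/
lemma unique_invol {P : Type*} [Group P] (m : ℕ) (e : P ≃* QuaternionGroup (2 ^ (m + 1)))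
    (x y : P) (hx : orderOf x = 2) (hy : orderOf y = 2) : x = y := by
  have h1 := Cfsg.Agent.S0218.result m
  obtain ⟨hs, -⟩ := Nat.card_eq_one_iff_unique.1 h1
  have h2 := Subsingleton.elim
    (⟨e x, by rw [MulEquiv.orderOf_eq, hx]⟩ : {x : QuaternionGroup (2 ^ (m + 1)) // orderOf x = 2})
    ⟨e y, by rw [MulEquiv.orderOf_eq, hy]⟩
  exact e.injective (congrArg Subtype.val h2)

lemma sub2_unique {P : Type*} [Group P] [Finite P]
    (hinv : ∀ x y : P, orderOf x = 2 → orderOf y = 2 → x = y) (H K : Subgroup P)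
    (hH : Nat.card H = 2) (hK : Nat.card K = 2) : H = K := by
  have key : ∀ L : Subgroup P, Nat.card L = 2 → ∃ x : P, orderOf x = 2 ∧ L = Subgroup.zpowers x := by
    intro L hL
    have hne : L ≠ ⊥ := by
      intro h; rw [h, Subgroup.card_bot] at hL; omega
    obtain ⟨x, hxL, hx1⟩ : ∃ x : P, x ∈ L ∧ x ≠ 1 := by
      obtain ⟨a, ha⟩ := (Subgroup.ne_bot_iff_exists_ne_one).1 hne
      exact ⟨(a : P), a.2, fun h => ha (Subtype.ext h)⟩
    have hx2 : orderOf x = 2 := by
      have h1 : orderOf x ∣ 2 := by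
        rw [← hL]; exact Subgroup.orderOf_dvd_natCard _ hxL
      rcases (Nat.dvd_prime Nat.prime_two).1 h1 with h | h
      · exact absurd (orderOf_eq_one_iff.1 h) hx1
      · exact h
    refine ⟨x, hx2, ?_⟩
    symm
    apply Subgroup.eq_of_le_of_card_ge
    · rwa [Subgroup.zpowers_le]
    · rw [Nat.card_zpowers, hx2, hL]
  obtain ⟨x, hx, rfl⟩ := key H hH
  obtain ⟨y, hy, rfl⟩ := key K hK
  rw [hinv x y hx hy]

/-- generalized quaternion groups are two-generated -/
lemma quat_two_gen {Q : Type*} [Group Q] (m : ℕ) (e : Q ≃* QuaternionGroup (2 ^ m)) :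
    ∃ x y : Q, Subgroup.closure ({x, y} : Set Q) = ⊤ := by
  have : NeZero (2 * 2 ^ m) := ⟨by positivity⟩
  refine ⟨e.symm (QuaternionGroup.a 1), e.symm (QuaternionGroup.xa 0), ?_⟩
  rw [eq_top_iff]
  intro z _
  set S := Subgroup.closure ({e.symm (QuaternionGroup.a 1), e.symm (QuaternionGroup.xa 0)} : Set Q)
  have ha : e.symm (QuaternionGroup.a 1) ∈ S := Subgroup.subset_closure (by simp)
  have hx : e.symm (QuaternionGroup.xa 0) ∈ S := Subgroup.subset_closure (by simp)
  have hz : z = e.symm (e z) := (e.symm_apply_apply z).symm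
  rw [hz]
  cases e z with
  | a i =>
    have : (QuaternionGroup.a i : QuaternionGroup (2 ^ m)) = (QuaternionGroup.a 1) ^ i.val := by
      rw [QuaternionGroup.a_one_pow, ZMod.natCast_zmod_val]
    rw [this, map_pow]
    exact S.pow_mem ha _
  | xa i =>
    have : (QuaternionGroup.xa i : QuaternionGroup (2 ^ m)) =
        QuaternionGroup.xa 0 * (QuaternionGroup.a 1) ^ i.val := by
      rw [QuaternionGroup.a_one_pow, ZMod.natCast_zmod_val, QuaternionGroup.xa_mul_a, zero_add]
    rw [this, map_mul, map_pow]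
    exact S.mul_mem hx (S.pow_mem ha _)

/-- The local obstruction: an odd-order prime power element acting nontrivially on a subgroup of a
generalized quaternion Sylow `2`-subgroup. -/
lemma key_local {G : Type*} [Group G] [Finite G] (T : Sylow 2 G) (m : ℕ)
    (eT : (T : Subgroup G) ≃* QuaternionGroup (2 ^ (m + 1))) (Q : Subgroup G)
    (hQT : Q ≤ (T : Subgroup G)) (h : G) (hhN : h ∈ Subgroup.normalizer (Q : Set G)) (r k : ℕ)
    (hr : r.Prime) (hr2 : r ≠ 2) (hhk : h ^ (r ^ k) = 1)
    (hhC : h ∉ Subgroup.centralizer (Q : Set G)) :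
    r = 3 ∧ Nonempty (Q ≃* QuaternionGroup 2) := by
  classical
  have hf2 : Fact (Nat.Prime 2) := ⟨Nat.prime_two⟩
  have hfr : Fact r.Prime := ⟨hr⟩
  have hQ2 : IsPGroup 2 Q := T.isPGroup'.to_le hQT
  have hinvQ : ∀ x y : Q, orderOf x = 2 → orderOf y = 2 → x = y := by
    intro x y hx hy
    have hinj : Function.Injective (Subgroup.inclusion hQT) := Subgroup.inclusion_injective hQT
    apply hinj
    apply unique_invol m eT
    · rw [orderOf_injective _ hinj, hx]
    · rw [orderOf_injective _ hinj, hy]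
  have hclass := Cfsg.Agent.S0016.result 2 hQ2 (sub2_unique hinvQ)
  -- two generators
  have hgen : ∃ x y : Q, Subgroup.closure ({x, y} : Set Q) = ⊤ := by
    rcases hclass with hc | ⟨-, m', ⟨e⟩⟩
    · obtain ⟨g, hg⟩ := hc.exists_generator
      refine ⟨g, g, ?_⟩
      rw [Set.pair_eq_singleton, ← Subgroup.zpowers_eq_closure, eq_top_iff]
      intro z _
      exact hg z
    · exact quat_two_gen m' e
  obtain ⟨x, y, hxy⟩ := hgen
  have hr3 : r = 3 := by
    by_contra hne
    apply hhC
    apply mem_centralizer_of_not_dvd (p := 2) (q := r) (Ne.symm hr2) _ Q hQ2 x y hxy h hhN k hhk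
    norm_num
    intro h3
    exact hne ((Nat.prime_dvd_prime_iff_eq hr Nat.prime_three).1 h3)
  subst hr3
  refine ⟨rfl, ?_⟩
  -- the induced automorphism
  set β : MulAut Q := Q.normalizerMonoidHom ⟨h, hhN⟩ with hβ
  have hβapp : ∀ q : Q, ((β q : Q) : G) = h * q * h⁻¹ := fun q => rfl
  have hβ1 : β ≠ 1 := by
    intro h1
    apply hhC
    rw [Subgroup.mem_centralizer_iff]
    intro q hq
    have := hβapp ⟨q, hq⟩
    rw [h1] at this
    simp only [MulAut.one_apply] at this
    calc q * h = (h * q * h⁻¹) * h := by rw [← this]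
      _ = h * q := by group
  have hβk : β ^ (3 ^ k) = 1 := by
    rw [hβ, ← map_pow]
    have : (⟨h, hhN⟩ : Subgroup.normalizer (Q : Set G)) ^ (3 ^ k) = 1 := Subtype.ext (by simpa using hhk)
    rw [this, map_one]
  have haut : ¬ IsPGroup 2 (MulAut Q) := by
    intro hp
    obtain ⟨j, hj⟩ := hp β
    apply hβ1
    have h1 : orderOf β ∣ 2 ^ j := orderOf_dvd_of_pow_eq_one hj
    have h2 : orderOf β ∣ 3 ^ k := orderOf_dvd_of_pow_eq_one hβk
    have h3 : Nat.Coprime (2 ^ j) (3 ^ k) := Nat.Coprime.pow _ _ (by norm_num)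
    have h4 : orderOf β = 1 := Nat.eq_one_of_dvd_coprimes h3 h1 h2
    exact orderOf_eq_one_iff.1 h4
  have hncyc : ¬ IsCyclic Q := by
    intro hc
    apply haut
    obtain ⟨a, ha⟩ := IsPGroup.iff_card.1 hQ2
    have hcard := IsCyclic.card_mulAut Q
    rw [ha] at hcard
    rcases Nat.eq_zero_or_pos a with rfl | hapos
    · apply IsPGroup.of_card (n := 0)
      rw [hcard]; simp
    · apply IsPGroup.of_card (n := a - 1)
      rw [hcard, Nat.totient_prime_pow Nat.prime_two hapos]
      simp
  rcases hclass with hc | ⟨-, m', ⟨e⟩⟩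
  · exact absurd hc hncyc
  · have hm' : 1 ≤ m' := by
      by_contra hm0
      have : m' = 0 := by omega
      subst this
      apply hncyc
      have := QuaternionGroup.quaternionGroup_one_isCyclic
      exact isCyclic_of_surjective e.symm.toMonoidHom e.symm.surjective
    have hcard : Nat.card Q = 2 ^ (m' + 2) := by
      rw [Nat.card_congr e.toEquiv, Nat.card_eq_fintype_card, QuaternionGroup.card]
      rw [pow_add]; ring
    have hge := Cfsg.Agent.S3919.card_commutator_quaternion m' hm' e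
    have hcne : commutator Q ≠ ⊥ := by
      intro h0
      rw [h0, Subgroup.card_bot] at hge
      have : 2 ^ 1 ≤ 2 ^ m' := Nat.pow_le_pow_right (by norm_num) hm'
      omega
    have h4 := Cfsg.Agent.S3919.index_four_of_le (m' + 2) (by omega) hcard hQ2 hcne
      (by rw [Nat.add_sub_cancel]; exact hge)
    have hna : ¬ IsMulCommutative Q := by
      intro hcomm
      apply hcne
      exact commutator_eq_bot_of_comm (fun a b => hcomm.is_comm.comm a b)
    exact Cfsg.Agent.S4189.result hQ2 hna h4 haut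

end Cfsg.Agent.Helper73.QuatAux
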