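import Mathlib
import Cfsg.Agent.Lib.Helper73.QuatAux

set_option autoImplicit false

namespace Cfsg.Agent.Helper73

open Cfsg.Agent.Helper5 Cfsg.Agent.Helper73.QuatAux

/-- An odd prime power order element acting nontrivially on a `2`-subgroup with a unique involution:
the prime is `3` and the subgroup is quaternion of order `8`. -/
lemma odd_action_unique_invol {G : Type*} [Group G] [Finite G] (Q : Subgroup G)
    (hQ2 : IsPGroup 2 Q)
    (hinvQ : ∀ x y : Q, orderOf x = 2 → orderOf y = 2 → x = y)
    (h : G) (hhN : h ∈ Subgroup.normalizer (Q : Set G)) (r k : ℕ)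
    (hr : r.Prime) (hr2 : r ≠ 2) (hhk : h ^ (r ^ k) = 1)
    (hhC : h ∉ Subgroup.centralizer (Q : Set G)) :
    r = 3 ∧ Nonempty (Q ≃* QuaternionGroup 2) := by
  classical
  have hf2 : Fact (Nat.Prime 2) := ⟨Nat.prime_two⟩
  have hfr : Fact r.Prime := ⟨hr⟩
  have hclass := Cfsg.Agent.S0016.result 2 hQ2 (sub2_unique hinvQ)
  -- two generators
  have hgen : ∃ x y : Q, Subgroup.closure ({x, y} : Set Q) = ⊤ := by
    rcases hclass with hc | ⟨-, m', ⟨e⟩⟩
    · obtain ⟨g, hg⟩ := hc.exists_generator
      refine ⟨g, g, ?_⟩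
      rw [Set.pair_eq_singleton, ← Subgroup.zpowers_eq_closure, eq_top_iff]
      intro z _
      exact hg z
    · exact quat_two_gen m' e
  obtain ⟨x, y, hxy⟩ := hgen
  have hr3 : r = 3 := by
    by_contra hne
    apply hhC
    apply mem_centralizer_of_not_dvd (p := 2) (q := r) (Ne.symm hr2) _ Q hQ2 x y hxy h hhN k hhk
    norm_num
    intro h3
    exact hne ((Nat.prime_dvd_prime_iff_eq hr Nat.prime_three).1 h3)
  subst hr3
  refine ⟨rfl, ?_⟩
  -- the induced automorphism
  set β : MulAut Q := Q.normalizerMonoidHom ⟨h, hhN⟩ with hβ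
  have hβapp : ∀ q : Q, ((β q : Q) : G) = h * q * h⁻¹ := fun q => rfl
  have hβ1 : β ≠ 1 := by
    intro h1
    apply hhC
    rw [Subgroup.mem_centralizer_iff]
    intro q hq
    have := hβapp ⟨q, hq⟩
    rw [h1] at this
    simp only [MulAut.one_apply] at this
    calc q * h = (h * q * h⁻¹) * h := by rw [← this]
      _ = h * q := by group
  have hβk : β ^ (3 ^ k) = 1 := by
    rw [hβ, ← map_pow]
    have : (⟨h, hhN⟩ : Subgroup.normalizer (Q : Set G)) ^ (3 ^ k) = 1 := Subtype.ext (by simpa using hhk)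
    rw [this, map_one]
  have haut : ¬ IsPGroup 2 (MulAut Q) := by
    intro hp
    obtain ⟨j, hj⟩ := hp β
    apply hβ1
    have h1 : orderOf β ∣ 2 ^ j := orderOf_dvd_of_pow_eq_one hj
    have h2 : orderOf β ∣ 3 ^ k := orderOf_dvd_of_pow_eq_one hβk
    have h3 : Nat.Coprime (2 ^ j) (3 ^ k) := Nat.Coprime.pow _ _ (by norm_num)
    have h4 : orderOf β = 1 := Nat.eq_one_of_dvd_coprimes h3 h1 h2
    exact orderOf_eq_one_iff.1 h4
  have hncyc : ¬ IsCyclic Q := by
    intro hc
    apply haut
    obtain ⟨a, ha⟩ := IsPGroup.iff_card.1 hQ2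
    have hcard := IsCyclic.card_mulAut Q
    rw [ha] at hcard
    rcases Nat.eq_zero_or_pos a with rfl | hapos
    · apply IsPGroup.of_card (n := 0)
      rw [hcard]; simp
    · apply IsPGroup.of_card (n := a - 1)
      rw [hcard, Nat.totient_prime_pow Nat.prime_two hapos]
      simp
  rcases hclass with hc | ⟨-, m', ⟨e⟩⟩
  · exact absurd hc hncyc
  · have hm' : 1 ≤ m' := by
      by_contra hm0
      have : m' = 0 := by omega
      subst this
      apply hncyc
      have := QuaternionGroup.quaternionGroup_one_isCyclic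
      exact isCyclic_of_surjective e.symm.toMonoidHom e.symm.surjective
    have hcard : Nat.card Q = 2 ^ (m' + 2) := by
      rw [Nat.card_congr e.toEquiv, Nat.card_eq_fintype_card, QuaternionGroup.card]
      rw [pow_add]; ring
    have hge := Cfsg.Agent.S3919.card_commutator_quaternion m' hm' e
    have hcne : commutator Q ≠ ⊥ := by
      intro h0
      rw [h0, Subgroup.card_bot] at hge
      have : 2 ^ 1 ≤ 2 ^ m' := Nat.pow_le_pow_right (by norm_num) hm'
      omega
    have h4 := Cfsg.Agent.S3919.index_four_of_le (m' + 2) (by omega) hcard hQ2 hcne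
      (by rw [Nat.add_sub_cancel]; exact hge)
    have hna : ¬ IsMulCommutative Q := by
      intro hcomm
      apply hcne
      exact commutator_eq_bot_of_comm (fun a b => hcomm.is_comm.comm a b)
    exact Cfsg.Agent.S4189.result hQ2 hna h4 haut

/-- Recognition of `SL₂(3)` from generation instead of the order. -/
theorem sl23_recog' {X : Type*} [Group X] [Finite X] (N : Subgroup X)
    [hN : N.Normal] (e : N ≃* QuaternionGroup 2) (c : X) (hc3 : c ^ 3 = 1)
    (hcN : c ∉ Subgroup.centralizer (N : Set X)) (hsup : N ⊔ Subgroup.zpowers c = ⊤) :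
    Nonempty (X ≃* SL23) := by
  have hf3 : Fact (Nat.Prime 3) := ⟨Nat.prime_three⟩
  have hc1 : c ≠ 1 := by
    rintro rfl
    exact hcN (Subgroup.one_mem _)
  have hoc : orderOf c = 3 := orderOf_eq_prime hc3 hc1
  have hCcard : Nat.card (Subgroup.zpowers c) = 3 := by rw [Nat.card_zpowers, hoc]
  have hNcard : Nat.card N = 8 := by
    rw [Nat.card_congr e.toEquiv, Nat.card_eq_fintype_card, QuaternionGroup.card]
  have hdisj : Disjoint N (Subgroup.zpowers c) := by
    apply Subgroup.disjoint_of_coprime_natCard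
    rw [hNcard, hCcard]
    norm_num
  have hcompl : N.IsComplement' (Subgroup.zpowers c) := by
    apply Subgroup.isComplement'_of_disjoint_and_mul_eq_univ hdisj
    rw [← Subgroup.normal_mul, hsup, Subgroup.coe_top]
  have hX : Nat.card X = 24 := by
    rw [← hcompl.card_mul_card, hNcard, hCcard]
  exact sl23_recog hX N e c hc3 hcN

/-- An automorphism of `p`-power order of a finite group fixes some Sylow `r`-subgroup, provided
`p` does not divide the order of the group. -/
theorem exists_invariant_sylow {R : Type*} [Group R] [Finite R] (β : MulAut R) (p k r : ℕ)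
    [hp : Fact p.Prime] [Fact r.Prime] (hβ : β ^ (p ^ k) = 1) (hco : (Nat.card R).Coprime p) :
    ∃ Q : Sylow r R, ∀ x ∈ (Q : Subgroup R), β x ∈ (Q : Subgroup R) := by
  classical
  set B := Subgroup.zpowers β with hB
  have hBp : IsPGroup p B := by
    have hdvd := orderOf_dvd_of_pow_eq_one hβ
    obtain ⟨j, -, hj⟩ := (Nat.dvd_prime_pow hp.out).1 hdvd
    exact IsPGroup.of_card (n := j) (by rw [hB, Nat.card_zpowers, hj])
  have hnd : ¬ p ∣ Nat.card (Sylow r R) := by
    intro hd
    have Q0 : Sylow r R := default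
    have h1 : Nat.card (Sylow r R) ∣ Nat.card R :=
      (Sylow.card_dvd_index Q0).trans (Subgroup.index_dvd_card _)
    have h2 := hd.trans h1
    have := Nat.Coprime.eq_one_of_dvd hco.symm h2
    exact hp.out.one_lt.ne' this
  obtain ⟨Q, hQ⟩ := hBp.nonempty_fixed_point_of_prime_not_dvd_card (Sylow r R) hnd
  refine ⟨Q, fun x hx => ?_⟩
  have h1 := hQ ⟨β, Subgroup.mem_zpowers β⟩
  have h2 : (β • Q : Sylow r R) = Q := h1
  have h3 : β • x ∈ ((β • Q : Sylow r R) : Subgroup R) := by
    rw [Sylow.pointwise_smul_def]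
    exact Subgroup.smul_mem_pointwise_smul _ _ _ hx
  rw [h2] at h3
  exact h3

end Cfsg.Agent.Helper73
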