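import Mathlib
import Cfsg.Agent.Lib.Helper5.SL2Sylow
import Cfsg.Agent.Lib.Helper5.PSL2Klein
import Cfsg.Agent.Lib.Helper40.SL2
import Cfsg.Agent.Lib.Helper53.SL2Inv

set_option autoImplicit false

namespace Cfsg.Agent.Helper73

open Matrix Cfsg.Agent.Helper40

section
variable {F : Type*} [Field F]

/-- the trace of an element of `SL₂` -/
def tr2 (g : Matrix.SpecialLinearGroup (Fin 2) F) : F :=
  (g : Matrix (Fin 2) (Fin 2) F) 0 0 + (g : Matrix (Fin 2) (Fin 2) F) 1 1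

lemma tr2_conj (g a : Matrix.SpecialLinearGroup (Fin 2) F) : tr2 (g * a * g⁻¹) = tr2 a := by
  unfold tr2
  rw [mul_00, mul_11, mul_00, mul_01, mul_10, mul_11, inv_00, inv_01, inv_10, inv_11]
  linear_combination ((a : Matrix (Fin 2) (Fin 2) F) 0 0 + (a : Matrix (Fin 2) (Fin 2) F) 1 1) *
    det2 g

lemma tr2_mul_self (x : Matrix.SpecialLinearGroup (Fin 2) F) :
    tr2 (x * x) = tr2 x ^ 2 - 2 := by
  unfold tr2
  rw [mul_00, mul_11]
  linear_combination (-2 : F) * det2 x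

lemma tr2_of_mem_slU {g : Matrix.SpecialLinearGroup (Fin 2) F} (hg : g ∈ Cfsg.Agent.Helper5.slU F) :
    tr2 g = 2 := by
  obtain ⟨x, rfl⟩ := Cfsg.Agent.Helper5.mem_slU_iff.1 hg
  unfold tr2
  simp [SpecialLinearGroup.transvection_coe]
  norm_num

/-- `(g - 1)^2 = 0` for an element of `SL₂` of trace `2` -/
lemma sub_one_sq_of_tr2 (g : Matrix.SpecialLinearGroup (Fin 2) F) (ht : tr2 g = 2) :
    (g.1 - 1) * (g.1 - 1) = 0 := by
  have hsq := Cfsg.Agent.Helper5.sl2_sq g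
  have ht' : g.1 0 0 + g.1 1 1 = 2 := ht
  have : (g.1 - 1) * (g.1 - 1) = g.1 * g.1 - (2 : F) • g.1 + 1 := by
    rw [sub_mul, mul_sub, mul_sub, mul_one, one_mul, mul_one, two_smul]
    abel
  rw [this, hsq, ht']
  abel

lemma pow_char_of_tr2 (p : ℕ) [Fact p.Prime] [CharP F p]
    (g : Matrix.SpecialLinearGroup (Fin 2) F) (ht : tr2 g = 2) : g ^ p = 1 := by
  have hN := sub_one_sq_of_tr2 g ht
  apply Subtype.ext
  rw [Matrix.SpecialLinearGroup.coe_pow, Matrix.SpecialLinearGroup.coe_one]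
  have hp2 : 2 ≤ p := (Fact.out : p.Prime).two_le
  have hNp : (g.1 - 1) ^ p = 0 := by
    obtain ⟨k, rfl⟩ : ∃ k, p = 2 + k := ⟨p - 2, by omega⟩
    rw [pow_add, pow_two, hN, zero_mul]
  have h1 : g.1 = (g.1 - 1) + 1 := by abel
  rw [h1, add_pow_char_of_commute _ (Commute.one_right _), hNp, one_pow, zero_add]

lemma eq_one_of_tr2 (p : ℕ) [Fact p.Prime] [CharP F p]
    (u : Matrix.SpecialLinearGroup (Fin 2) F) (ht : tr2 u = 2) (hco : (orderOf u).Coprime p) :
    u = 1 := by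
  have h1 : orderOf u ∣ p := orderOf_dvd_of_pow_eq_one (pow_char_of_tr2 p u ht)
  have h2 : orderOf u = 1 := Nat.Coprime.eq_one_of_dvd hco h1
  exact orderOf_eq_one_iff.1 h2

/-- cancellation of `u - 1` for `u` of trace `≠ 2` -/
lemma cancel_of_tr2_ne (u w : Matrix.SpecialLinearGroup (Fin 2) F) (hu : tr2 u ≠ 2)
    (h : (u.1 - 1) * (w.1 - 1) = 0) : w = 1 := by
  have hdet : (u.1 - 1).det = 2 - tr2 u := by
    rw [Matrix.det_fin_two]
    unfold tr2
    simp only [Matrix.sub_apply, Matrix.one_apply_eq, Matrix.one_apply_ne, ne_eq, zero_ne_one,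
      one_ne_zero, not_false_eq_true, sub_zero]
    linear_combination det2 u
  have hunit : IsUnit (u.1 - 1) := by
    rw [Matrix.isUnit_iff_isUnit_det, hdet, isUnit_iff_ne_zero]
    intro h0
    apply hu
    linear_combination -h0
  have h1 : w.1 - 1 = 0 := (hunit.mul_right_eq_zero).1 h
  apply Subtype.ext
  rw [Matrix.SpecialLinearGroup.coe_one]
  exact sub_eq_zero.1 h1

/-- Cayley–Hamilton consequence for commuting elements of equal trace -/
lemma ch_identity (x y : Matrix.SpecialLinearGroup (Fin 2) F) (hc : x * y = y * x)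
    (ht : tr2 x = tr2 y) : ((x⁻¹ * y).1 - 1) * ((x * y).1 - 1) = 0 := by
  have hX := Cfsg.Agent.Helper5.sl2_sq x
  have hY := Cfsg.Agent.Helper5.sl2_sq y
  have htx : x.1 0 0 + x.1 1 1 = tr2 x := rfl
  have hty : y.1 0 0 + y.1 1 1 = tr2 x := by rw [ht]; rfl
  rw [htx] at hX
  rw [hty] at hY
  set τ := tr2 x
  have hXi : x⁻¹.1 * x.1 = 1 := by
    rw [← Matrix.SpecialLinearGroup.coe_mul, inv_mul_cancel, Matrix.SpecialLinearGroup.coe_one]
  have hYX : y.1 * x.1 = x.1 * y.1 := by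
    rw [← Matrix.SpecialLinearGroup.coe_mul, ← Matrix.SpecialLinearGroup.coe_mul, hc]
  -- x + x⁻¹ = τ
  have hsum : x⁻¹.1 + x.1 = τ • (1 : Matrix (Fin 2) (Fin 2) F) := by
    have h1 : x⁻¹.1 * (x.1 * x.1) = x⁻¹.1 * (τ • x.1 - 1) := by rw [hX]
    rw [← mul_assoc, hXi, one_mul, mul_sub, mul_smul_comm, hXi, mul_one] at h1
    rw [h1]; abel
  rw [Matrix.SpecialLinearGroup.coe_mul, Matrix.SpecialLinearGroup.coe_mul]
  have e1 : (x⁻¹.1 * y.1 - 1) * (x.1 * y.1 - 1) =
      x⁻¹.1 * (y.1 * x.1) * y.1 - (x⁻¹.1 + x.1) * y.1 + 1 := by noncomm_ring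
  rw [e1, hYX, hsum]
  have e2 : x⁻¹.1 * (x.1 * y.1) * y.1 = (x⁻¹.1 * x.1) * (y.1 * y.1) := by noncomm_ring
  rw [e2, hXi, one_mul, hY, smul_mul_assoc, one_mul]
  abel

lemma eq_or_eq_inv_of_comm (p : ℕ) [Fact p.Prime] [CharP F p]
    (x y : Matrix.SpecialLinearGroup (Fin 2) F) (hc : x * y = y * x)
    (ht : tr2 x = tr2 y) (h1 : (orderOf (x⁻¹ * y)).Coprime p) :
    y = x ∨ y = x⁻¹ := by
  by_cases h : x⁻¹ * y = 1
  · left
    rw [inv_mul_eq_one] at h
    exact h.symm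
  · right
    have hne : tr2 (x⁻¹ * y) ≠ 2 := fun h2 => h (eq_one_of_tr2 p _ h2 h1)
    have := cancel_of_tr2_ne _ _ hne (ch_identity x y hc ht)
    exact (eq_inv_of_mul_eq_one_right this)

/-- elements commuting with a nontrivial unipotent element have trace `±2` -/
lemma tr2_sq_of_comm (a x : Matrix.SpecialLinearGroup (Fin 2) F) (ha1 : a ≠ 1)
    (hat : tr2 a = 2) (hc : a * x = x * a) : tr2 x ^ 2 = 4 := by
  have e00 := congrArg (fun M : Matrix.SpecialLinearGroup (Fin 2) F => M.1 0 0) hc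
  have e01 := congrArg (fun M : Matrix.SpecialLinearGroup (Fin 2) F => M.1 0 1) hc
  have e10 := congrArg (fun M : Matrix.SpecialLinearGroup (Fin 2) F => M.1 1 0) hc
  simp only [mul_00, mul_01, mul_10] at e00 e01 e10
  have hda := det2 a
  have hdx := det2 x
  unfold tr2 at hat ⊢
  set a1 := (a : Matrix (Fin 2) (Fin 2) F) 0 0
  set a2 := (a : Matrix (Fin 2) (Fin 2) F) 0 1
  set a3 := (a : Matrix (Fin 2) (Fin 2) F) 1 0
  set a4 := (a : Matrix (Fin 2) (Fin 2) F) 1 1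
  set x1 := (x : Matrix (Fin 2) (Fin 2) F) 0 0
  set x2 := (x : Matrix (Fin 2) (Fin 2) F) 0 1
  set x3 := (x : Matrix (Fin 2) (Fin 2) F) 1 0
  set x4 := (x : Matrix (Fin 2) (Fin 2) F) 1 1
  -- n₁ = a1 - 1, n₂ = a2, n₃ = a3
  have hN : (a1 - 1) ^ 2 + a2 * a3 = 0 := by
    have : a4 = 2 - a1 := by linear_combination hat
    rw [this] at hda
    linear_combination -hda
  have r1 : x2 * a3 = a2 * x3 := by linear_combination -e00
  have r2 : a2 * (x1 - x4) = 2 * (a1 - 1) * x2 := by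
    have : a4 = 2 - a1 := by linear_combination hat
    rw [this] at e01
    linear_combination -e01
  have r3 : a3 * (x1 - x4) = 2 * (a1 - 1) * x3 := by
    have : a4 = 2 - a1 := by linear_combination hat
    rw [this] at e10
    linear_combination e10
  set D := (x1 - x4) ^ 2 + 4 * x2 * x3 with hD
  have hDeq : (x1 + x4) ^ 2 = 4 + D := by rw [hD]; linear_combination 4 * hdx
  have k1 : (a1 - 1) ^ 2 * D = 0 := by
    have h : (2 * (a1 - 1) * x2) * (2 * (a1 - 1) * x3) = (a2 * (x1 - x4)) * (a3 * (x1 - x4)) := by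
      rw [r2, r3]
    rw [hD]
    linear_combination h + (x1 - x4) ^ 2 * hN
  have k2 : a2 ^ 2 * D = 0 := by
    have h : (a2 * (x1 - x4)) ^ 2 = (2 * (a1 - 1) * x2) ^ 2 := by rw [r2]
    rw [hD]
    linear_combination h + 4 * x2 ^ 2 * hN - 4 * a2 * x2 * r1
  have k3 : a3 ^ 2 * D = 0 := by
    have h : (a3 * (x1 - x4)) ^ 2 = (2 * (a1 - 1) * x3) ^ 2 := by rw [r3]
    rw [hD]
    linear_combination h + 4 * x3 ^ 2 * hN + 4 * a3 * x3 * r1
  have hD0 : D = 0 := by
    by_contra hne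
    have h1 : a1 - 1 = 0 := by
      rcases mul_eq_zero.1 k1 with h | h
      · exact pow_eq_zero_iff (two_ne_zero) |>.1 h
      · exact absurd h hne
    have h2 : a2 = 0 := by
      rcases mul_eq_zero.1 k2 with h | h
      · exact pow_eq_zero_iff (two_ne_zero) |>.1 h
      · exact absurd h hne
    have h3 : a3 = 0 := by
      rcases mul_eq_zero.1 k3 with h | h
      · exact pow_eq_zero_iff (two_ne_zero) |>.1 h
      · exact absurd h hne
    apply ha1
    apply ext2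
    · rw [one_00]; linear_combination h1
    · rw [one_01]; exact h2
    · rw [one_10]; exact h3
    · rw [one_11]; linear_combination hat - h1
  rw [hDeq, hD0, add_zero]

lemma mul_self_eq_one_of_comm (p : ℕ) [Fact p.Prime] [CharP F p]
    (a x : Matrix.SpecialLinearGroup (Fin 2) F) (ha1 : a ≠ 1)
    (hat : tr2 a = 2) (hc : a * x = x * a) (hco : (orderOf x).Coprime p) : x * x = 1 := by
  have h1 := tr2_sq_of_comm a x ha1 hat hc
  have h2 : tr2 (x * x) = 2 := by rw [tr2_mul_self, h1]; norm_num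
  apply eq_one_of_tr2 p _ h2
  have : orderOf (x * x) ∣ orderOf x := by
    rw [← pow_two]; exact orderOf_pow_dvd 2
  exact Nat.Coprime.coprime_dvd_left this hco

end

section
variable {F : Type*} [Field F] [Fintype F]

/-- `p`-elements of `SL₂(F)` in characteristic `p` have trace `2` -/
lemma tr2_of_isPGroup (p : ℕ) [Fact p.Prime] [CharP F p]
    (a : Matrix.SpecialLinearGroup (Fin 2) F) (ha : IsPGroup p ↥(Subgroup.zpowers a)) :
    tr2 a = 2 := by
  obtain ⟨P, hP⟩ := ha.exists_le_sylow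
  obtain ⟨g, hg⟩ := MulAction.exists_smul_eq (Matrix.SpecialLinearGroup (Fin 2) F)
    (Cfsg.Agent.Helper5.slUSylow (F := F) p) P
  have haP : a ∈ (P : Subgroup (Matrix.SpecialLinearGroup (Fin 2) F)) :=
    hP (Subgroup.mem_zpowers a)
  rw [← hg] at haP
  have h1 := (Cfsg.Agent.Helper5.mem_smul_slUSylow_iff p g a).1 haP
  have h2 := tr2_of_mem_slU h1
  have h3 := tr2_conj g⁻¹ a
  rw [inv_inv] at h3
  rw [← h3, h2]

end

end Cfsg.Agent.Helper73
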