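import Mathlib
import Cfsg.Agent.S1393
import Cfsg.Agent.S1395
import Cfsg.Agent.S1396
import Cfsg.Agent.Lib.Helper96.BGU4
import Cfsg.Agent.Lib.Helper15.BGU.Syl
import Cfsg.Agent.Lib.Helper47.SubnCl

/-!
# B–G Lemma 9.5 (helper73): basic set-up and Step 2

`A ∈ SCN_3(P)`.  For a maximal subgroup `M ≥ C_G(A)` together with a maximal `A`-invariant
`q`-subgroup `Q` (`q ≠ p`) with `N_G(Q) ≤ M`, every `p`-subgroup `T ≥ A` has `N_G(T) ≤ M`
and `T ∩ N_G(T)' ≤ M'`.
-/

set_option autoImplicit false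
set_option linter.unusedSectionVars false
set_option linter.unusedVariables false

namespace Cfsg.Agent.Helper73.BG95

open Cfsg Subgroup
open Cfsg.Agent.Helper96.BGU (scn_comm)

variable {G : Type*} [Group G] [Finite G] {p : ℕ} [hp : Fact p.Prime]

/-- standing data of B–G 9.5 -/
structure Ctx (G : Type*) [Group G] (p : ℕ) (P A : Subgroup G) : Prop where
  hG : IsMinSimpleOddOrder G
  hPp : IsPGroup p P
  hPsyl : ∀ Q : Subgroup G, IsPGroup p Q → P ≤ Q → Q = P
  hscn : IsSCN P A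
  hA3 : ¬ PRankLE p 2 ↥A

variable {P A : Subgroup G}

namespace Ctx

theorem simple (c : Ctx G p P A) : IsSimpleGroup G := c.hG.2.1

theorem notComm (c : Ctx G p P A) : ¬ IsMulCommutative G := c.hG.2.2.1

theorem solv (c : Ctx G p P A) {H : Subgroup G} (hH : H ≠ ⊤) : Group.IsSolvable ↥H :=
  c.hG.2.2.2 H hH

theorem odd (c : Ctx G p P A) (H : Subgroup G) : Odd (Nat.card H) :=
  Odd.of_dvd_nat c.hG.1 (Subgroup.card_subgroup_dvd_card H)

theorem hAP (c : Ctx G p P A) : A ≤ P := c.hscn.1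

theorem hPA (c : Ctx G p P A) : P ≤ normalizer (A : Set G) := c.hscn.2.1

theorem hAc (c : Ctx G p P A) : IsMulCommutative A := scn_comm c.hscn

theorem hAp (c : Ctx G p P A) : IsPGroup p A := c.hPp.to_le c.hAP

theorem hAcent (c : Ctx G p P A) : A ≤ centralizer (A : Set G) :=
  Subgroup.le_centralizer_iff_isMulCommutative.mpr c.hAc

/-- an elementary abelian subgroup of order `> p^2` in `A` -/
theorem exists_A3 (c : Ctx G p P A) :
    ∃ E : Subgroup G, E ≤ A ∧ IsElementaryAbelian p E ∧ p ^ 2 < Nat.card E :=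
  Cfsg.Agent.Helper96.BGU.exists_elemAb_of_not_pRankLE c.hA3

theorem cardA (c : Ctx G p P A) : ∃ k : ℕ, 3 ≤ k ∧ Nat.card A = p ^ k := by
  obtain ⟨k, hk⟩ := IsPGroup.iff_card.1 c.hAp
  refine ⟨k, ?_, hk⟩
  obtain ⟨E, hEA, hEe, hEc⟩ := c.exists_A3
  have h1 : Nat.card E ≤ Nat.card A := Subgroup.card_le_of_le hEA
  rw [hk] at h1
  have h2 : p ^ 2 < p ^ k := lt_of_lt_of_le hEc h1
  have h3 : 2 < k := (Nat.pow_lt_pow_iff_right hp.out.one_lt).mp h2
  omega

theorem hA1 (c : Ctx G p P A) : A ≠ ⊥ := by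
  intro h
  obtain ⟨k, hk3, hk⟩ := c.cardA
  rw [h, Subgroup.card_bot] at hk
  have : 1 < p ^ k := Nat.one_lt_pow (by omega) hp.out.one_lt
  omega

theorem not_dvd_cardA_iff (c : Ctx G p P A) {q : ℕ} (hq : q.Prime) : ¬ q ∣ Nat.card A ↔ q ≠ p := by
  obtain ⟨k, hk3, hk⟩ := c.cardA
  rw [hk]
  constructor
  · intro h hqp
    apply h
    rw [hqp]
    exact dvd_pow_self p (by omega)
  · intro hqp hdvd
    exact hqp ((Nat.prime_dvd_prime_iff_eq hq hp.out).mp (hq.dvd_of_dvd_pow hdvd))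

theorem p_ne_two (c : Ctx G p P A) : p ≠ 2 := by
  intro h2
  obtain ⟨k, hk3, hk⟩ := c.cardA
  have h3 : Odd (Nat.card A) := c.odd A
  rw [hk, h2] at h3
  have : Even (2 ^ k) := (Nat.even_pow' (by omega)).mpr even_two
  exact (Nat.not_even_iff_odd.mpr h3) this

theorem hPtop (c : Ctx G p P A) : P ≠ ⊤ := by
  intro h
  haveI := c.simple
  have hnil : Group.IsNilpotent ↥P := c.hPp.isNilpotent
  have hsol : Group.IsSolvable ↥P := inferInstance
  apply c.notComm
  have h1 : Group.IsSolvable G := by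
    have e : ↥P ≃* G := by rw [h]; exact Subgroup.topEquiv
    exact solvable_of_surjective (f := e.toMonoidHom) e.surjective
  exact ⟨⟨IsSimpleGroup.comm_iff_isSolvable.mpr h1⟩⟩

theorem hAtop (c : Ctx G p P A) : A ≠ ⊤ := by
  intro h
  apply c.hPtop
  rw [eq_top_iff, ← h]
  exact c.hAP

end Ctx

end Cfsg.Agent.Helper73.BG95
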