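import Mathlib
import Cfsg.Agent.Lib.Helper73.BG95a

/-!
# B–G Lemma 9.5 (helper73): transitivity input and Step 2
-/

set_option autoImplicit false
set_option linter.unusedSectionVars false
set_option linter.unusedVariables false

namespace Cfsg.Agent.Helper73.BG95

open Cfsg Subgroup
open Cfsg.Agent.Helper54 (IsMaxInvQ exists_isMaxInvQ_ge mem_maxInvSubgroups_of_isMaxInvQ
  isMaxInvQ_of_mem_maxInvSubgroups piCoreOf_le)

variable {G : Type*} [Group G] [Finite G] {p : ℕ} [hp : Fact p.Prime] {P A : Subgroup G}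

/-- a `p`-subgroup of a nonabelian simple group is proper -/
theorem ne_top_of_isPGroup (hs : IsSimpleGroup G) (hna : ¬ IsMulCommutative G) {q : ℕ} [Fact q.Prime]
    {T : Subgroup G} (hT : IsPGroup q T) : T ≠ ⊤ := by
  intro h
  have hnil : Group.IsNilpotent ↥T := hT.isNilpotent
  have hsol : Group.IsSolvable ↥T := inferInstance
  apply hna
  have h1 : Group.IsSolvable G := by
    have e : ↥T ≃* G := by rw [h]; exact Subgroup.topEquiv
    exact solvable_of_surjective (f := e.toMonoidHom) e.surjective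
  exact ⟨⟨IsSimpleGroup.comm_iff_isSolvable.mpr h1⟩⟩

namespace Ctx

/-- `O_{p'}(C_G(A))` -/
def K (c : Ctx G p P A) : Subgroup G :=
  piCoreOf (primesNotDvd (Nat.card A)) (centralizer (A : Set G))

theorem K_le (c : Ctx G p P A) : c.K ≤ centralizer (A : Set G) := piCoreOf_le _ _

/-- `P` as a Sylow subgroup -/
def syl (c : Ctx G p P A) : Sylow p G := ⟨P, c.hPp, fun {Q} hQ hPQ => c.hPsyl Q hQ hPQ⟩

theorem p_dvd_card (c : Ctx G p P A) : p ∣ Nat.card G := by
  obtain ⟨k, hk3, hk⟩ := c.cardA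
  have h1 : Nat.card A ∣ Nat.card G := Subgroup.card_subgroup_dvd_card A
  rw [hk] at h1
  exact (dvd_pow_self p (by omega)).trans h1

theorem trHyp (c : Ctx G p P A) : TransitivityHypothesis A := by
  apply Cfsg.Agent.S1396.result c.hG p c.p_dvd_card A c.hAp c.hAc
  right
  refine ⟨c.syl, c.hscn, ?_⟩
  intro h1
  apply c.hA3
  intro B hBc hBe
  have := h1 B hBc hBe
  calc Nat.card B ≤ p ^ 1 := this
    _ ≤ p ^ 2 := Nat.pow_le_pow_right hp.out.pos (by norm_num)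

theorem trans (c : Ctx G p P A) {q : ℕ} (hq : q.Prime) (hqp : q ≠ p) :
    ∀ Q₁ ∈ maxInvSubgroups ⊤ A {q}, ∀ Q₂ ∈ maxInvSubgroups ⊤ A {q},
      ∃ k ∈ c.K, Q₂ = Q₁.map (MulAut.conj k).toMonoidHom := by
  have hZ : ¬ RankLE 2 ↥(A ⊓ centralizer (A : Set G)) := by
    have e : A ⊓ centralizer (A : Set G) = A := inf_eq_left.mpr c.hAcent
    rw [e]
    intro h
    exact c.hA3 (h p hp.out)
  exact Cfsg.Agent.S1393.result c.hG A c.trHyp hZ q hq ((c.not_dvd_cardA_iff hq).mpr hqp)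

/-- **Step 2.** -/
theorem step2 (c : Ctx G p P A) {M : Subgroup G} (hCM : centralizer (A : Set G) ≤ M)
    {q : ℕ} (hq : q.Prime) (hqp : q ≠ p) {Q : Subgroup G} (hQ : Q ∈ maxInvSubgroups ⊤ A {q})
    (hNQ : normalizer (Q : Set G) ≤ M) {T : Subgroup G} (hT : IsPGroup p T) (hAT : A ≤ T) :
    normalizer (T : Set G) ≤ M ∧
      T ⊓ ⁅normalizer (T : Set G), normalizer (T : Set G)⁆ ≤ ⁅M, M⁆ := by
  haveI : Fact q.Prime := ⟨hq⟩
  have hTtop : T ≠ ⊤ := ne_top_of_isPGroup c.simple c.notComm hT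
  have hqA : ¬ q ∣ Nat.card A := (c.not_dvd_cardA_iff hq).mpr hqp
  have hPπ : ∀ r : ℕ, r.Prime → r ∣ Nat.card T → r ∣ Nat.card A := by
    intro r hr hrT
    obtain ⟨j, hj⟩ := IsPGroup.iff_card.1 hT
    rw [hj] at hrT
    have hrp : r = p := (Nat.prime_dvd_prime_iff_eq hr hp.out).mp (hr.dvd_of_dvd_pow hrT)
    obtain ⟨k, hk3, hk⟩ := c.cardA
    rw [hrp, hk]
    exact dvd_pow_self p (by omega)
  have hsn : (A.subgroupOf T).IsSubnormal :=
    Cfsg.Agent.Helper47.isSubnormal_of_isPGroup (p := p) hT (A.subgroupOf T)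
  obtain ⟨ha, hb, hc, hd⟩ :=
    Cfsg.Agent.S1395.result c.hG A c.trHyp q hq hqA T hTtop hPπ hAT hsn (c.trans hq hqp)
  -- a maximal T-invariant q-subgroup
  obtain ⟨Q', hQ'max, -⟩ := exists_isMaxInvQ_ge (E := T) (q := q) (R := ⊥) IsPGroup.of_bot
    (by rw [Subgroup.normalizer_eq_top_iff.mpr (inferInstance : (⊥ : Subgroup G).Normal)]; exact le_top)
  have hQ'T : Q' ∈ maxInvSubgroups ⊤ T {q} := mem_maxInvSubgroups_of_isMaxInvQ T q Q' hQ'max
  have hQ'A : Q' ∈ maxInvSubgroups ⊤ A {q} := hc hQ'T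
  obtain ⟨k, hk, hkQ⟩ := c.trans hq hqp Q hQ Q' hQ'A
  have hKM : c.K ≤ M := c.K_le.trans hCM
  have hkM : k ∈ M := hKM hk
  have hNQ' : normalizer (Q' : Set G) ≤ M := by
    intro n hn
    have h1 : k⁻¹ * n * k ∈ normalizer (Q : Set G) := by
      rw [Subgroup.mem_normalizer_iff]
      intro x
      rw [Subgroup.mem_normalizer_iff] at hn
      have h2 := hn (k * x * k⁻¹)
      rw [hkQ, Cfsg.Agent.Helper52.mem_map_conj, Cfsg.Agent.Helper52.mem_map_conj] at h2
      have e1 : k⁻¹ * (k * x * k⁻¹) * k = x := by group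
      have e2 : k⁻¹ * (n * (k * x * k⁻¹) * n⁻¹) * k = k⁻¹ * n * k * x * (k⁻¹ * n * k)⁻¹ := by group
      rw [e1, e2] at h2
      exact h2
    have h3 := hNQ h1
    have e : n = k * (k⁻¹ * n * k) * k⁻¹ := by group
    rw [e]
    exact M.mul_mem (M.mul_mem hkM h3) (M.inv_mem hkM)
  obtain ⟨hd1, hd2⟩ := hd Q' hQ'T
  constructor
  · rw [hd2]
    apply sup_le
    · rw [← ha]
      exact inf_le_left.trans hKM
    · exact inf_le_right.trans hNQ'
  · exact hd1.trans (Subgroup.commutator_mono hNQ' hNQ')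

end Ctx

end Cfsg.Agent.Helper73.BG95
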