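import Mathlib
import Cfsg.Prelude.Def_Amalgam
import Cfsg.Agent.S1398
import Cfsg.Agent.Lib.Helper73.BG95b
import Cfsg.Agent.Lib.Helper54.PConstrainedLocal

/-!
# B–G Lemma 9.5 (helper73): the assembly

`Inputs G` collects the auxiliary statements (delivered by other seats) in hypothesis form; `main`
proves that `A ∈ SCN_3(P)` lies in a unique maximal subgroup.
-/

set_option autoImplicit false
set_option linter.unusedSectionVars false
set_option linter.unusedVariables false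

namespace Cfsg.Agent.Helper73.BG95

open Cfsg Subgroup
open Cfsg.Agent.Helper54 (IsMaxInvQ exists_isMaxInvQ_ge mem_maxInvSubgroups_of_isMaxInvQ
  isMaxInvQ_of_mem_maxInvSubgroups piCoreOf_le)
open Cfsg.Agent.Helper15.BGU (coreIn ppIn frattini_le le_ppIn_of_abelian_normal sylCard_of_le_of_le)
open Cfsg.Agent.Helper52 (sylCard)

variable {G : Type*} [Group G] [Finite G] {p : ℕ} [hp : Fact p.Prime] {P A : Subgroup G}

/-- the auxiliary inputs -/
structure Inputs (G : Type*) [Group G] : Prop where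
  h94 : ∀ (M : Subgroup G), IsCoatom M → ∀ (p : ℕ) [Fact p.Prime], ¬ PRankLE p 2 ↥(fittingOf M) →
    ∀ A : Subgroup G, IsPGroup p A → IsMulCommutative A → ¬ PRankLE p 2 ↥A → InUniqueMaximal A
  s1a : ∀ (M : Subgroup G), IsCoatom M → (∀ q : ℕ, q.Prime → PRankLE q 2 ↥(fittingOf M)) →
    ∃ q : ℕ, q.Prime ∧ ∃ Q : Subgroup G, Q ≤ fittingOf M ∧ IsPGroup q Q ∧ Q ≠ ⊥ ∧
      M ≤ normalizer (Q : Set G) ∧ normalizer (Q : Set G) ≤ M ∧
      ∀ R : Subgroup G, IsPGroup q R → Q ≤ R → R = Q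
  s1b : ∀ (M : Subgroup G), IsCoatom M → ∀ (q : ℕ) [Fact q.Prime], ¬ PRankLE q 2 ↥(fittingOf M) →
    ∀ A : Subgroup G, A ≤ M → ∃ Q, IsMaxInvQ A q Q ∧ normalizer (Q : Set G) ≤ M
  ca : ∀ (L M : Subgroup G), IsCoatom L → IsCoatom M → M ≠ L → ∀ (t : ℕ) [Fact t.Prime],
    ¬ PRankLE t 2 ↥(fittingOf L) → ∀ (p : ℕ) [Fact p.Prime] (P : Sylow p G),
      (P : Subgroup G) ≤ L → (P : Subgroup G) ≤ M → normalizer ((P : Subgroup G) : Set G) ≤ L →
      PRankLE t 2 ↥M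
  r4 : ∀ (M : Subgroup G), Group.IsSolvable ↥M → Odd (Nat.card M) → ∀ (r : ℕ) [Fact r.Prime],
    PRankLE r 2 ↥M → ∀ (P1 Y : Subgroup G), P1 ≤ ⁅M, M⁆ → (Nat.card P1).Coprime r → Y ≤ M →
      IsPGroup r Y → P1 ≤ normalizer (Y : Set G) → P1 ≤ centralizer (Y : Set G)
  r5 : ∀ (M : Subgroup G), Group.IsSolvable ↥M → Odd (Nat.card M) → ∀ (r : ℕ) [Fact r.Prime],
    PRankLE r 2 ↥(pCoreOf r M) → ∀ (P1 : Subgroup G), P1 ≤ ⁅M, M⁆ → (Nat.card P1).Coprime r →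
      P1 ≤ centralizer (pCoreOf r M : Set G)
  r6 : ∀ (M : Subgroup G), Group.IsSolvable ↥M → Odd (Nat.card M) → ∀ (p : ℕ) [Fact p.Prime],
    PRankLE p 2 ↥(pCoreOf p M) → ∀ (P1 : Subgroup G), IsPGroup p P1 → P1 ≤ ⁅M, M⁆ →
      (∀ r : ℕ, r.Prime → r ≠ p → P1 ≤ centralizer (pCoreOf r M : Set G)) → P1 ≤ pCoreOf p M
  pcore_le_fit : ∀ (M : Subgroup G) (r : ℕ) [Fact r.Prime], pCoreOf r M ≤ fittingOf M
  pcore_pgroup : ∀ (M : Subgroup G) (r : ℕ) [Fact r.Prime], IsPGroup r (pCoreOf r M)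
  pcore_norm : ∀ (M : Subgroup G) (r : ℕ) [Fact r.Prime], M ≤ normalizer (pCoreOf r M : Set G)
  core_cent : ∀ (M : Subgroup G) (p : ℕ) [Fact p.Prime],
    coreIn p M ≤ centralizer (pCoreOf p M : Set G)
  r1 : ∀ (p : ℕ) [Fact p.Prime] (P : Sylow p G), (P : Subgroup G) ≠ ⊥ →
    (P : Subgroup G) ⊓ ⁅normalizer ((P : Subgroup G) : Set G), normalizer ((P : Subgroup G) : Set G)⁆ ≠ ⊥
  r2 : ∀ (p : ℕ) [Fact p.Prime] (A3 T0 C0 : Subgroup G), IsElementaryAbelian p A3 →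
    Nat.card A3 = p ^ 3 → (Nat.card T0).Coprime p → A3 ≤ normalizer (T0 : Set G) → ¬ T0 ≤ C0 →
    ∃ B : Subgroup G, B ≤ A3 ∧ Nat.card B = p ^ 2 ∧ ¬ (T0 ⊓ centralizer (B : Set G) ≤ C0)

/-- a subgroup of order `p^n` inside a `p`-group of order at least `p^n` -/
theorem exists_le_card_pow {E : Subgroup G} (hE : IsPGroup p E) {n : ℕ} (h : p ^ n ≤ Nat.card E) :
    ∃ F : Subgroup G, F ≤ E ∧ Nat.card F = p ^ n := by
  obtain ⟨k, hk⟩ := IsPGroup.iff_card.1 hE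
  have hnk : n ≤ k := by
    rw [hk] at h
    exact (Nat.pow_le_pow_iff_right hp.out.one_lt).mp h
  have hdvd : p ^ n ∣ Nat.card ↥E := by
    rw [hk]; exact pow_dvd_pow p hnk
  obtain ⟨K, hK⟩ := Sylow.exists_subgroup_card_pow_prime p hdvd
  refine ⟨K.map E.subtype, Subgroup.map_subtype_le _, ?_⟩
  rw [Subgroup.card_map_of_injective E.subtype_injective]
  exact hK

/-- monotonicity of `PRankLE` for subgroups -/
theorem pRankLE_of_le {r k : ℕ} {H K : Subgroup G} (hKH : K ≤ H) (h : PRankLE r k ↥H) :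
    PRankLE r k ↥K := by
  by_contra hcon
  obtain ⟨E, hEK, hEe, hEc⟩ := Cfsg.Agent.Helper96.BGU.exists_elemAb_of_not_pRankLE hcon
  exact Cfsg.Agent.Helper96.BGU.not_pRankLE_of_elemAb E (hEK.trans hKH) hEe hEc h

/-- a nontrivial normal subgroup of a `p`-group meets the centre -/
theorem exists_central {P P1 : Subgroup G} (hP : IsPGroup p P) (h1 : P1 ≤ P)
    (hn : P ≤ normalizer (P1 : Set G)) (hne : P1 ≠ ⊥) :
    ∃ z ∈ P1, z ≠ 1 ∧ z ∈ centralizer (P : Set G) := by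
  haveI : Group.IsNilpotent ↥P := hP.isNilpotent
  haveI : (P1.subgroupOf P).Normal := by
    have := Subgroup.normal_subgroupOf_iff_le_normalizer (H := P1) (K := P) h1
    exact this.mpr hn
  have hne' : P1.subgroupOf P ≠ ⊥ := by
    intro h
    apply hne
    rw [eq_bot_iff]
    intro x hx
    have : (⟨x, h1 hx⟩ : ↥P) ∈ P1.subgroupOf P := Subgroup.mem_subgroupOf.mpr hx
    rw [h, Subgroup.mem_bot] at this
    rw [Subgroup.mem_bot]
    exact congrArg Subtype.val this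
  have h2 := Cfsg.Agent.Helper54.normal_inf_center_ne_bot (P1.subgroupOf P) hne'
  haveI : Nontrivial ↥(P1.subgroupOf P ⊓ Subgroup.center ↥P) :=
    (Subgroup.nontrivial_iff_ne_bot _).mpr h2
  obtain ⟨z, hz, hz1⟩ := Subgroup.exists_ne_one_of_nontrivial (P1.subgroupOf P ⊓ Subgroup.center ↥P)
  rw [Subgroup.mem_inf] at hz
  refine ⟨(z : G), Subgroup.mem_subgroupOf.mp hz.1, ?_, ?_⟩
  · intro h
    apply hz1
    apply Subtype.ext
    simpa using h
  · rw [Subgroup.mem_centralizer_iff]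
    intro y hy
    have := Subgroup.mem_center_iff.mp hz.2 ⟨y, hy⟩
    exact congrArg Subtype.val this

end Cfsg.Agent.Helper73.BG95
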