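import Mathlib
import Cfsg.Agent.Lib.Helper73.BG95c

/-!
# B–G Lemma 9.5 (helper73): Step 1, the set `𝓜(C_G(A))`, and the final assembly
-/

set_option autoImplicit false
set_option linter.unusedSectionVars false
set_option linter.unusedVariables false

namespace Cfsg.Agent.Helper73.BG95

open Cfsg Subgroup
open scoped commutatorElement
open Cfsg.Agent.Helper54 (IsMaxInvQ exists_isMaxInvQ_ge mem_maxInvSubgroups_of_isMaxInvQ
  isMaxInvQ_of_mem_maxInvSubgroups piCoreOf_le)
open Cfsg.Agent.Helper15.BGU (coreIn ppIn frattini_le le_ppIn_of_abelian_normal sylCard_of_le_of_le)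
open Cfsg.Agent.Helper52 (sylCard)

variable {G : Type*} [Group G] [Finite G] {p : ℕ} [hp : Fact p.Prime] {P A : Subgroup G}

namespace Ctx

theorem hAM (c : Ctx G p P A) {M : Subgroup G} (hCM : centralizer (A : Set G) ≤ M) : A ≤ M :=
  c.hAcent.trans hCM

/-- `P ∩ N_G(P)'` -/
def P1 (c : Ctx G p P A) : Subgroup G :=
  P ⊓ ⁅normalizer (P : Set G), normalizer (P : Set G)⁆

theorem P1_le (c : Ctx G p P A) : c.P1 ≤ P := inf_le_left

theorem P1_pgroup (c : Ctx G p P A) : IsPGroup p c.P1 := c.hPp.to_le c.P1_le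

theorem P1_norm (c : Ctx G p P A) : P ≤ normalizer (c.P1 : Set G) := by
  intro x hx
  have hxN : x ∈ normalizer (P : Set G) := Subgroup.le_normalizer hx
  rw [Subgroup.mem_normalizer_iff]
  intro y
  have hcomm : ∀ y, y ∈ ⁅normalizer (P : Set G), normalizer (P : Set G)⁆ →
      x * y * x⁻¹ ∈ ⁅normalizer (P : Set G), normalizer (P : Set G)⁆ := by
    intro y hy
    have h1 : ⁅normalizer (P : Set G), normalizer (P : Set G)⁆ ≤ normalizer (P : Set G) :=
      Subgroup.commutator_le_self _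
    have h2 : ⁅x, y⁆ ∈ ⁅normalizer (P : Set G), normalizer (P : Set G)⁆ :=
      Subgroup.commutator_mem_commutator hxN (h1 hy)
    have e : x * y * x⁻¹ = ⁅x, y⁆ * y := by
      rw [commutatorElement_def]; group
    rw [e]
    exact Subgroup.mul_mem _ h2 hy
  unfold P1
  constructor
  · intro hy
    rw [Subgroup.mem_inf] at hy ⊢
    exact ⟨(Subgroup.mem_normalizer_iff.mp hxN y).mp hy.1, hcomm y hy.2⟩
  · intro hy
    rw [Subgroup.mem_inf] at hy ⊢
    refine ⟨(Subgroup.mem_normalizer_iff.mp hxN y).mpr hy.1, ?_⟩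
    have hxN' : x⁻¹ ∈ normalizer (P : Set G) := Subgroup.inv_mem _ hxN
    have h1 : ⁅normalizer (P : Set G), normalizer (P : Set G)⁆ ≤ normalizer (P : Set G) :=
      Subgroup.commutator_le_self _
    have h2 : ⁅x⁻¹, x * y * x⁻¹⁆ ∈ ⁅normalizer (P : Set G), normalizer (P : Set G)⁆ :=
      Subgroup.commutator_mem_commutator hxN' (h1 hy.2)
    have e : y = ⁅x⁻¹, x * y * x⁻¹⁆ * (x * y * x⁻¹) := by
      rw [commutatorElement_def]; group
    rw [e]
    exact Subgroup.mul_mem _ h2 hy.2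

theorem cardP (c : Ctx G p P A) : Nat.card P = sylCard p (⊤ : Subgroup G) := by
  have h1 := c.syl.card_eq_multiplicity
  unfold sylCard
  rw [Subgroup.card_top]
  exact h1

theorem cardP_of_le (c : Ctx G p P A) {M : Subgroup G} (hPM : P ≤ M) : Nat.card P = sylCard p M :=
  sylCard_of_le_of_le p hPM le_top c.cardP

theorem hP1 (c : Ctx G p P A) : P ≠ ⊥ := by
  intro h
  apply c.hA1
  rw [eq_bot_iff, ← h]
  exact c.hAP

end Ctx

/-- **Step 1.** every maximal subgroup over `C_G(A)` contains the normalizer of a maximal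
`A`-invariant `q`-subgroup, `q ≠ p`. -/
theorem step1 (I : Inputs G) (c : Ctx G p P A)
    (h0 : ∀ M : Subgroup G, IsCoatom M → PRankLE p 2 ↥(fittingOf M))
    {M : Subgroup G} (hM : IsCoatom M) (hCM : centralizer (A : Set G) ≤ M) :
    ∃ q : ℕ, q.Prime ∧ q ≠ p ∧ ∃ Q ∈ maxInvSubgroups ⊤ A {q}, normalizer (Q : Set G) ≤ M := by
  by_cases hbig : ∃ q : ℕ, q.Prime ∧ ¬ PRankLE q 2 ↥(fittingOf M)
  · obtain ⟨q, hq, hqF⟩ := hbig
    haveI : Fact q.Prime := ⟨hq⟩
    have hqp : q ≠ p := by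
      rintro rfl
      exact hqF (h0 M hM)
    obtain ⟨Q, hQ, hNQ⟩ := I.s1b M hM q hqF A (c.hAM hCM)
    exact ⟨q, hq, hqp, Q, mem_maxInvSubgroups_of_isMaxInvQ A q Q hQ, hNQ⟩
  · push Not at hbig
    obtain ⟨q, hq, Q, hQF, hQq, hQ1, hMQ, hQM, hQmax⟩ := I.s1a M hM hbig
    haveI : Fact q.Prime := ⟨hq⟩
    have hqp : q ≠ p := by
      rintro rfl
      -- `Q` and `P` are Sylow `q`-subgroups of `G`
      let SQ : Sylow q G := ⟨Q, hQq, fun {R} hR hQR => hQmax R hR hQR⟩
      obtain ⟨g, hg⟩ := MulAction.exists_smul_eq G c.syl SQ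
      obtain ⟨E, hEA, hEe, hEc⟩ := c.exists_A3
      have hEP : E ≤ (c.syl : Subgroup G) := hEA.trans c.hAP
      have h1 : E.map (MulAut.conj g).toMonoidHom ≤ Q := by
        have h2 : E.map (MulAut.conj g).toMonoidHom ≤ ((g • c.syl : Sylow q G) : Subgroup G) := by
          rw [Sylow.coe_subgroup_smul, Cfsg.Agent.Helper52.conj_smul_eq_map]
          exact Subgroup.map_mono hEP
        rw [hg] at h2
        exact h2
      have h3 : IsElementaryAbelian q (E.map (MulAut.conj g).toMonoidHom) :=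
        Cfsg.Agent.Helper15.BGU.isElementaryAbelian_conj hEe g
      have h4 : q ^ 2 < Nat.card (E.map (MulAut.conj g).toMonoidHom) := by
        rw [Cfsg.Agent.Helper52.card_map_conj]; exact hEc
      exact Cfsg.Agent.Helper96.BGU.not_pRankLE_of_elemAb _ (h1.trans hQF) h3 h4 (h0 M hM)
    refine ⟨q, hq, hqp, Q, mem_maxInvSubgroups_of_isMaxInvQ A q Q ⟨hQq, ?_, ?_⟩, hQM⟩
    · exact (c.hAM hCM).trans hMQ
    · intro R hR _ hQR
      exact hQmax R hR hQR

end Cfsg.Agent.Helper73.BG95
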