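import Mathlib
import Cfsg.Agent.Lib.Helper73.BG95d

/-!
# B–G Lemma 9.5 (helper73): the final assembly (Case A / Case B)
-/

set_option autoImplicit false
set_option linter.unusedSectionVars false
set_option linter.unusedVariables false

namespace Cfsg.Agent.Helper73.BG95

open Cfsg Subgroup
open scoped commutatorElement
open Cfsg.Agent.Helper54 (IsMaxInvQ exists_isMaxInvQ_ge mem_maxInvSubgroups_of_isMaxInvQ
  isMaxInvQ_of_mem_maxInvSubgroups piCoreOf_le)
open Cfsg.Agent.Helper15.BGU (coreIn ppIn frattini_le le_ppIn_of_abelian_normal sylCard_of_le_of_le)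
open Cfsg.Agent.Helper52 (sylCard)

variable {G : Type*} [Group G] [Finite G] {p : ℕ} [hp : Fact p.Prime] {P A : Subgroup G}

/-- consequences of Steps 1 and 2 for a maximal subgroup over `C_G(A)` -/
theorem mm_props (I : Inputs G) (c : Ctx G p P A)
    (h0 : ∀ M : Subgroup G, IsCoatom M → PRankLE p 2 ↥(fittingOf M))
    {M : Subgroup G} (hM : IsCoatom M) (hCM : centralizer (A : Set G) ≤ M) :
    (∀ T : Subgroup G, IsPGroup p T → A ≤ T → normalizer (T : Set G) ≤ M) ∧
      P ≤ M ∧ normalizer (P : Set G) ≤ M ∧ c.P1 ≤ ⁅M, M⁆ := by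
  obtain ⟨q, hq, hqp, Q, hQ, hNQ⟩ := step1 I c h0 hM hCM
  have hT : ∀ T : Subgroup G, IsPGroup p T → A ≤ T → normalizer (T : Set G) ≤ M :=
    fun T hTp hAT => (c.step2 hCM hq hqp hQ hNQ hTp hAT).1
  have hNP : normalizer (P : Set G) ≤ M := hT P c.hPp c.hAP
  exact ⟨hT, Subgroup.le_normalizer.trans hNP, hNP, (c.step2 hCM hq hqp hQ hNQ c.hPp c.hAP).2⟩

/-- the common last step: B–G 9.1(a) -/
theorem finish (c : Ctx G p P A) {L : Subgroup G} (hL : IsCoatom L) (hAL : A ≤ L)
    {B : Subgroup G} (hBA : B ≤ A) (hBe : IsElementaryAbelian p B) (hBc : Nat.card B = p ^ 2)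
    (h : ∀ b ∈ B, b ≠ 1 → centralizer ({b} : Set G) ≤ L) : InUniqueMaximal A := by
  have hnc : ¬ IsCyclic B := by
    apply Cfsg.Agent.Helper96.BGU.not_isCyclic_of_elemAb hBe
    rw [hBc]
    exact Nat.pow_lt_pow_right hp.out.one_lt (by norm_num)
  have hB : InUniqueMaximal B :=
    Cfsg.Agent.S1398.result c.hG L hL p B (hBA.trans hAL) hBe hnc (Or.inl h)
  exact Cfsg.Agent.Helper96.BGU.inUniqueMaximal_of_le hB hBA c.hAtop

/-- normalizers of both factors normalize the intersection -/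
theorem le_normalizer_inf {X Y Z : Subgroup G} (h1 : X ≤ normalizer (Y : Set G))
    (h2 : X ≤ normalizer (Z : Set G)) : X ≤ normalizer ((Y ⊓ Z : Subgroup G) : Set G) := by
  intro x hx
  rw [Subgroup.mem_normalizer_iff]
  intro y
  rw [Subgroup.mem_inf, Subgroup.mem_inf, ← Subgroup.mem_normalizer_iff.mp (h1 hx) y,
    ← Subgroup.mem_normalizer_iff.mp (h2 hx) y]

/-- **B–G Lemma 9.5**, from the inputs. -/
theorem main (I : Inputs G) (c : Ctx G p P A) : InUniqueMaximal A := by
  classical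
  haveI := c.simple
  -- Step 0
  by_cases h0' : ∃ M : Subgroup G, IsCoatom M ∧ ¬ PRankLE p 2 ↥(fittingOf M)
  · obtain ⟨M, hM, hF⟩ := h0'
    exact I.h94 M hM p hF A c.hAp c.hAc c.hA3
  have h0 : ∀ M : Subgroup G, IsCoatom M → PRankLE p 2 ↥(fittingOf M) := by
    intro M hM
    by_contra hcon
    exact h0' ⟨M, hM, hcon⟩
  have hcentb : ∀ b ∈ A, centralizer (A : Set G) ≤ centralizer ({b} : Set G) := by
    intro b hb
    apply Subgroup.centralizer_le
    intro x hx
    rw [Set.mem_singleton_iff] at hx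
    rw [hx]; exact hb
  -- an elementary abelian subgroup of order p^3 of A
  obtain ⟨E, hEA, hEe, hEc⟩ := c.exists_A3
  obtain ⟨A3, hA3E, hA3c⟩ := exists_le_card_pow (p := p) (n := 3)
    (Cfsg.Agent.Helper96.BGU.isPGroup_of_elemAb hEe) (by
      have : p ^ 2 < Nat.card E := hEc
      obtain ⟨k, hk⟩ := IsPGroup.iff_card.1 (Cfsg.Agent.Helper96.BGU.isPGroup_of_elemAb hEe)
      rw [hk] at this ⊢
      have h2 : 2 < k := (Nat.pow_lt_pow_iff_right hp.out.one_lt).mp this
      exact Nat.pow_le_pow_right hp.out.pos h2)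
  have hA3A : A3 ≤ A := hA3E.trans hEA
  have hA3e : IsElementaryAbelian p A3 := Cfsg.Agent.Helper96.BGU.isElementaryAbelian_of_le hEe hA3E
  by_cases hcase : ∃ L : Subgroup G, IsCoatom L ∧ centralizer (A : Set G) ≤ L ∧
      ∃ t : ℕ, t.Prime ∧ t ≠ p ∧ ¬ c.P1 ≤ centralizer (pCoreOf t L : Set G)
  · -- Case A
    obtain ⟨L, hL, hCL, t, ht, htp, hnc⟩ := hcase
    haveI : Fact t.Prime := ⟨ht⟩
    obtain ⟨hLT, hPL, hNPL, hP1L⟩ := mm_props I c h0 hL hCL
    have hLtop : L ≠ ⊤ := hL.1
    have hcop : (Nat.card c.P1).Coprime t := by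
      obtain ⟨j, hj⟩ := IsPGroup.iff_card.1 c.P1_pgroup
      rw [hj]
      exact Nat.Coprime.pow_left j ((Nat.coprime_primes hp.out ht).mpr (Ne.symm htp))
    have hrk : ¬ PRankLE t 2 ↥(pCoreOf t L) := by
      intro hr
      exact hnc (I.r5 L (c.solv hLtop) (c.odd L) t hr c.P1 hP1L hcop)
    have hrkF : ¬ PRankLE t 2 ↥(fittingOf L) := fun h => hrk (pRankLE_of_le (I.pcore_le_fit L t) h)
    set T0 := pCoreOf t L with hT0
    have hT0t : IsPGroup t T0 := I.pcore_pgroup L t
    have hLT0 : L ≤ normalizer (T0 : Set G) := I.pcore_norm L t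
    -- other members of MM* meet T0 inside C(P1)
    have hother : ∀ M : Subgroup G, IsCoatom M → centralizer (A : Set G) ≤ M → M ≠ L →
        c.P1 ≤ centralizer ((M ⊓ T0 : Subgroup G) : Set G) := by
      intro M hM hCM hne
      obtain ⟨hMT, hPM, hNPM, hP1M⟩ := mm_props I c h0 hM hCM
      have hrM : PRankLE t 2 ↥M := I.ca L M hL hM hne t hrkF p c.syl hPL hPM hNPL
      apply I.r4 M (c.solv hM.1) (c.odd M) t hrM c.P1 (M ⊓ T0) hP1M hcop inf_le_left
        (hT0t.to_le inf_le_right)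
      apply le_normalizer_inf
      · exact (c.P1_le.trans hPM).trans Subgroup.le_normalizer
      · exact (c.P1_le.trans hPL).trans hLT0
    set C0 := T0 ⊓ centralizer (c.P1 : Set G) with hC0
    have hC0' : ¬ T0 ≤ C0 := by
      intro h
      apply hnc
      have h1 : T0 ≤ centralizer (c.P1 : Set G) := h.trans inf_le_right
      exact Subgroup.le_centralizer_iff.mp h1
    have hcopT : (Nat.card T0).Coprime p := by
      obtain ⟨j, hj⟩ := IsPGroup.iff_card.1 hT0t
      rw [hj]
      exact Nat.Coprime.pow_left j ((Nat.coprime_primes ht hp.out).mpr htp)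
    have hA3N : A3 ≤ normalizer (T0 : Set G) := ((hA3A.trans c.hAP).trans hPL).trans hLT0
    obtain ⟨B, hBA3, hBc, hBnot⟩ := I.r2 p A3 T0 C0 hA3e hA3c hcopT hA3N hC0'
    have hBA : B ≤ A := hBA3.trans hA3A
    apply finish c hL (c.hAM hCL) hBA (Cfsg.Agent.Helper96.BGU.isElementaryAbelian_of_le hA3e hBA3) hBc
    intro b hb hb1
    have hne : centralizer ({b} : Set G) ≠ ⊤ :=
      Cfsg.Agent.Helper54.centralizer_singleton_ne_top c.notComm b hb1
    obtain ⟨H, hH, hbH⟩ := Cfsg.Agent.Helper96.BGU.exists_coatom_ge hne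
    have hCH : centralizer (A : Set G) ≤ H := (hcentb b (hBA hb)).trans hbH
    by_cases hHL : H = L
    · rw [← hHL]; exact hbH
    · exfalso
      apply hBnot
      intro x hx
      rw [Subgroup.mem_inf] at hx
      have hxb : x ∈ centralizer ({b} : Set G) := by
        apply Subgroup.centralizer_le _ hx.2
        intro y hy
        rw [Set.mem_singleton_iff] at hy
        rw [hy]; exact hb
      have hxH : x ∈ H ⊓ T0 := Subgroup.mem_inf.mpr ⟨hbH hxb, hx.1⟩
      rw [hC0, Subgroup.mem_inf]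
      refine ⟨hx.1, ?_⟩
      have h3 := hother H hH hCH hHL
      have h4 : (H ⊓ T0 : Subgroup G) ≤ centralizer (c.P1 : Set G) := Subgroup.le_centralizer_iff.mp h3
      exact h4 hxH
  · -- Case B
    have hB : ∀ L : Subgroup G, IsCoatom L → centralizer (A : Set G) ≤ L → ∀ t : ℕ, t.Prime →
        t ≠ p → c.P1 ≤ centralizer (pCoreOf t L : Set G) := by
      intro L hL hCL t ht htp
      by_contra hcon
      exact hcase ⟨L, hL, hCL, t, ht, htp, hcon⟩
    have hP1core : ∀ M : Subgroup G, IsCoatom M → centralizer (A : Set G) ≤ M →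
        c.P1 ≤ pCoreOf p M := by
      intro M hM hCM
      obtain ⟨hMT, hPM, hNPM, hP1M⟩ := mm_props I c h0 hM hCM
      exact I.r6 M (c.solv hM.1) (c.odd M) p (pRankLE_of_le (I.pcore_le_fit M p) (h0 M hM)) c.P1
        c.P1_pgroup hP1M (hB M hM hCM)
    have hP1ne : c.P1 ≠ ⊥ := I.r1 p c.syl c.hP1
    obtain ⟨z, hzP1, hz1, hzc⟩ := exists_central c.hPp c.P1_le c.P1_norm hP1ne
    have hzA : z ∈ A := by
      have h1 : z ∈ P ⊓ centralizer (A : Set G) :=
        Subgroup.mem_inf.mpr ⟨c.P1_le hzP1, Subgroup.centralizer_le c.hAP hzc⟩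
      rw [c.hscn.2.2] at h1
      exact h1
    have hne : centralizer ({z} : Set G) ≠ ⊤ :=
      Cfsg.Agent.Helper54.centralizer_singleton_ne_top c.notComm z hz1
    obtain ⟨H, hH, hzH⟩ := Cfsg.Agent.Helper96.BGU.exists_coatom_ge hne
    have hCH : centralizer (A : Set G) ≤ H := (hcentb z hzA).trans hzH
    obtain ⟨hHT, hPH, hNPH, hP1H⟩ := mm_props I c h0 hH hCH
    -- every member of MM* equals H
    have hall : ∀ M : Subgroup G, IsCoatom M → centralizer (A : Set G) ≤ M → M = H := by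
      intro M hM hCM
      obtain ⟨hMT, hPM, hNPM, hP1M⟩ := mm_props I c h0 hM hCM
      have hMH : M ≤ H := by
        apply frattini_le p hPM (c.cardP_of_le hPM) H
        · -- O_{p'}(M) ≤ C(P1) ≤ C(z) ≤ H
          refine (I.core_cent M p).trans ?_
          refine (Subgroup.centralizer_le (hP1core M hM hCM)).trans ?_
          refine (Subgroup.centralizer_le ?_).trans hzH
          intro y hy
          rw [Set.mem_singleton_iff] at hy
          rw [hy]; exact hzP1
        · have hTp : IsPGroup p (P ⊓ ppIn p M : Subgroup G) := c.hPp.to_le inf_le_left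
          have hAT : A ≤ P ⊓ ppIn p M := by
            apply le_inf c.hAP
            exact le_ppIn_of_abelian_normal p (c.solv hM.1) (c.odd M) hPM (c.cardP_of_le hPM)
              c.hAP c.hAc c.hPA
          exact inf_le_left.trans (hHT _ hTp hAT)
      exact ((hM.le_iff_eq hH.1).mp hMH).symm
    -- conclude with any B ≤ A3 of order p^2
    obtain ⟨B, hBA3, hBc⟩ := exists_le_card_pow (p := p) (n := 2)
      (Cfsg.Agent.Helper96.BGU.isPGroup_of_elemAb hA3e) (by
        rw [hA3c]; exact Nat.pow_le_pow_right hp.out.pos (by norm_num))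
    have hBA : B ≤ A := hBA3.trans hA3A
    apply finish c hH (c.hAM hCH) hBA (Cfsg.Agent.Helper96.BGU.isElementaryAbelian_of_le hA3e hBA3) hBc
    intro b hb hb1
    have hne' : centralizer ({b} : Set G) ≠ ⊤ :=
      Cfsg.Agent.Helper54.centralizer_singleton_ne_top c.notComm b hb1
    obtain ⟨H', hH', hbH'⟩ := Cfsg.Agent.Helper96.BGU.exists_coatom_ge hne'
    have hCH' : centralizer (A : Set G) ≤ H' := (hcentb b (hBA hb)).trans hbH'
    rw [← hall H' hH' hCH']
    exact hbH'

end Cfsg.Agent.Helper73.BG95
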