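import Mathlib
import Cfsg.Agent.Lib.Helper73.BG95e

/-!
# B–G Lemma 9.5 (helper73): small facts about `O_r(M)` inside `G`
-/

set_option autoImplicit false
set_option linter.unusedSectionVars false

namespace Cfsg.Agent.Helper73.BG95

open Cfsg Subgroup

variable {G : Type*} [Group G] [Finite G]

theorem isPGroup_pCoreOf (M : Subgroup G) (r : ℕ) [Fact r.Prime] : IsPGroup r (pCoreOf r M) := by
  unfold pCoreOf
  exact (Cfsg.Agent.Helper55.isPGroup_pCore (G := ↥M) (p := r)).map M.subtype

theorem le_normalizer_pCoreOf (M : Subgroup G) (r : ℕ) :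
    M ≤ normalizer (pCoreOf r M : Set G) := by
  unfold pCoreOf
  exact Subgroup.le_normalizer.trans
    (Cfsg.Agent.Helper54.normalizer_le_normalizer_map_of_characteristic M (pCore r ↥M))

end Cfsg.Agent.Helper73.BG95
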