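import Mathlib
import Cfsg.Agent.S1401
import Cfsg.Agent.Lib.Helper73.BG95f
import Cfsg.Agent.Lib.Helper51.BG95S1b
import Cfsg.Agent.Lib.Helper90.BG95Sub
import Cfsg.Agent.Lib.Helper30.BGFusE
import Cfsg.Agent.Lib.Helper30.BGFusF

/-!
# B–G Lemma 9.5 (helper73): the inputs, collected from the lemma servers

`s1a` (helper82), `s1b` (helper51), `ca` (helper53), `r4`–`r6`, `pcore_le_fit`, `core_cent`
(helper90), `r1`, `r2` (helper30), `h94` = S1401 (helper96).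
-/

set_option autoImplicit false
set_option linter.unusedSectionVars false

namespace Cfsg.Agent.Helper73.BG95

open Cfsg Subgroup
open Cfsg.Agent.Helper54 (IsMaxInvQ)

variable {G : Type*} [Group G] [Finite G]

theorem h94_of (hG : IsMinSimpleOddOrder G) : ∀ (M : Subgroup G), IsCoatom M → ∀ (p : ℕ) [Fact p.Prime],
    ¬ PRankLE p 2 ↥(fittingOf M) → ∀ A : Subgroup G, IsPGroup p A → IsMulCommutative A →
    ¬ PRankLE p 2 ↥A → InUniqueMaximal A :=
  fun M hM p _ hF A hAp hAc hA3 => Cfsg.Agent.S1401.result hG M hM p hF A hAp hAc hA3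

/-- all inputs except `s1a` and `ca` -/
theorem inputs_of (hG : IsMinSimpleOddOrder G)
    (s1a : ∀ (M : Subgroup G), IsCoatom M → (∀ q : ℕ, q.Prime → PRankLE q 2 ↥(fittingOf M)) →
      ∃ q : ℕ, q.Prime ∧ ∃ Q : Subgroup G, Q ≤ fittingOf M ∧ IsPGroup q Q ∧ Q ≠ ⊥ ∧
        M ≤ normalizer (Q : Set G) ∧ normalizer (Q : Set G) ≤ M ∧
        ∀ R : Subgroup G, IsPGroup q R → Q ≤ R → R = Q)
    (ca : ∀ (L M : Subgroup G), IsCoatom L → IsCoatom M → M ≠ L → ∀ (t : ℕ) [Fact t.Prime],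
      ¬ PRankLE t 2 ↥(fittingOf L) → ∀ (p : ℕ) [Fact p.Prime] (P : Sylow p G),
        (P : Subgroup G) ≤ L → (P : Subgroup G) ≤ M → normalizer ((P : Subgroup G) : Set G) ≤ L →
        PRankLE t 2 ↥M) : Inputs G where
  h94 := h94_of hG
  s1a := s1a
  s1b := fun M hM q _ hq A hAM =>
    Cfsg.Agent.Helper51.BG95S1b.step1_big hG (h94_of hG) M hM q hq A hAM
  ca := ca
  r4 := fun M hs ho r _ => Cfsg.Agent.Helper90.BG95Sub.r4_sub M hs ho r
  r5 := fun M hs ho r _ => Cfsg.Agent.Helper90.BG95Sub.r5_sub M hs ho r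
  r6 := fun M hs ho p _ => Cfsg.Agent.Helper90.BG95Sub.r6_sub M hs ho p
  pcore_le_fit := fun M r _ => Cfsg.Agent.Helper90.BG95Sub.pCoreOf_le_fittingOf M r
  pcore_pgroup := fun M r _ => isPGroup_pCoreOf M r
  pcore_norm := fun M r _ => le_normalizer_pCoreOf M r
  core_cent := fun M p _ => Cfsg.Agent.Helper90.BG95Sub.coreIn_le_centralizer_pCoreOf M p
  r1 := fun p _ P hP => by
    haveI := hG.2.1
    exact Cfsg.Agent.Helper30.BGFus.sylow_inf_commutator_normalizer_ne_bot hG.2.2.1 P hP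
  r2 := fun p _ A3 T0 C0 h1 h2 h3 h4 h5 =>
    Cfsg.Agent.Helper30.BGFus.exists_hyperplane_centralizer_not_le A3 T0 C0 h1 h2 h3 h4 h5

end Cfsg.Agent.Helper73.BG95
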