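import Mathlib
import Cfsg.Agent.Lib.Helper73.BG95g
import Cfsg.Agent.Lib.Helper51.BG95R3
import Cfsg.Agent.Lib.Helper53.BG95CA

/-!
# B–G Lemma 9.5 (helper73): Step 1, small Fitting rank (`s1a`), and the final statement
-/

set_option autoImplicit false
set_option linter.unusedSectionVars false

namespace Cfsg.Agent.Helper73.BG95

open Cfsg Subgroup
open Cfsg.Agent.Helper52 (sylCard)

variable {G : Type*} [Group G] [Finite G]

/-- `p`-rank transports backwards along an injective hom. -/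
theorem pRankLE_of_injective {H K : Type*} [Group H] [Group K] {p k : ℕ} (f : H →* K)
    (hf : Function.Injective f) (h : PRankLE p k K) : PRankLE p k H := by
  intro B hB hBp
  have hc : IsMulCommutative ↥(B.map f) := by
    refine ⟨⟨?_⟩⟩
    rintro ⟨x, a, ha, rfl⟩ ⟨y, b, hb, rfl⟩
    apply Subtype.ext
    show f a * f b = f b * f a
    rw [← map_mul, ← map_mul]
    congr 1
    exact congrArg Subtype.val (hB.is_comm.comm ⟨a, ha⟩ ⟨b, hb⟩)
  have he : ∀ x ∈ B.map f, x ^ p = 1 := by
    rintro x ⟨a, ha, rfl⟩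
    rw [← map_pow, hBp a ha, map_one]
  have := h (B.map f) hc he
  rwa [Subgroup.card_map_of_injective hf] at this

/-- a coatom of a nonabelian simple group is nontrivial -/
theorem coatom_ne_bot (hs : IsSimpleGroup G) (hna : ¬ IsMulCommutative G) {M : Subgroup G}
    (hM : IsCoatom M) : M ≠ ⊥ := by
  intro h
  apply hna
  refine ⟨⟨fun x y => ?_⟩⟩
  by_cases hx : x = 1
  · rw [hx]; simp
  · have h1 : M < Subgroup.zpowers x := by
      rw [h, bot_lt_iff_ne_bot]
      intro h2
      apply hx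
      have : x ∈ Subgroup.zpowers x := Subgroup.mem_zpowers x
      rw [h2, Subgroup.mem_bot] at this
      exact this
    have h3 : Subgroup.zpowers x = ⊤ := hM.2 _ h1
    have hy : y ∈ Subgroup.zpowers x := by rw [h3]; exact Subgroup.mem_top y
    obtain ⟨k, rfl⟩ := Subgroup.mem_zpowers_iff.mp hy
    exact (Commute.zpow_right (Commute.refl x) k).eq

/-- **Step 1, small case** -/
theorem s1a_of (hG : IsMinSimpleOddOrder G) (M : Subgroup G) (hM : IsCoatom M)
    (hr : ∀ q : ℕ, q.Prime → PRankLE q 2 ↥(fittingOf M)) :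
    ∃ q : ℕ, q.Prime ∧ ∃ Q : Subgroup G, Q ≤ fittingOf M ∧ IsPGroup q Q ∧ Q ≠ ⊥ ∧
      M ≤ normalizer (Q : Set G) ∧ normalizer (Q : Set G) ≤ M ∧
      ∀ R : Subgroup G, IsPGroup q R → Q ≤ R → R = Q := by
  haveI := hG.2.1
  have hMtop : M ≠ ⊤ := hM.1
  haveI : Group.IsSolvable ↥M := hG.2.2.2 M hMtop
  have hodd : Odd (Nat.card M) := Odd.of_dvd_nat hG.1 (Subgroup.card_subgroup_dvd_card M)
  haveI : Nontrivial ↥M := (Subgroup.nontrivial_iff_ne_bot M).mpr (coatom_ne_bot hG.2.1 hG.2.2.1 hM)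
  have hrF : RankLE 2 ↥(fittingSubgroup ↥M) := by
    intro q hq
    have h1 := hr q hq
    unfold fittingOf at h1
    exact pRankLE_of_injective
      ((fittingSubgroup ↥M).equivMapOfInjective M.subtype M.subtype_injective).toMonoidHom
      ((fittingSubgroup ↥M).equivMapOfInjective M.subtype M.subtype_injective).injective h1
  obtain ⟨q, hq, hqd, -, N, hNchar, hNq, hNidx⟩ := Cfsg.Agent.Helper51.BG95R3.r3_sub hodd hrF
  haveI : Fact q.Prime := ⟨hq⟩
  have hNn : N.Normal := Subgroup.normal_of_characteristic N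
  set Q : Subgroup G := N.map M.subtype with hQ
  have hQM : Q ≤ M := Subgroup.map_subtype_le _
  have hQq : IsPGroup q Q := hNq.map M.subtype
  have hN1 : N ≠ ⊥ := by
    intro h
    apply hNidx
    rw [h, Subgroup.index_bot]
    exact hqd
  have hQ1 : Q ≠ ⊥ := by
    rw [hQ, Ne, Subgroup.map_eq_bot_iff_of_injective _ M.subtype_injective]
    exact hN1
  have hQtop : Q ≠ ⊤ := by
    intro h
    rw [h] at hQM
    exact hMtop (top_le_iff.mp hQM)
  have hMN : M ≤ normalizer (Q : Set G) :=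
    Subgroup.le_normalizer.trans
      (Cfsg.Agent.Helper54.normalizer_le_normalizer_map_of_characteristic M N)
  have hNtop : normalizer (Q : Set G) ≠ ⊤ :=
    Cfsg.Agent.Helper54.normalizer_ne_top_of_isSimpleGroup Q hQ1 hQtop
  have hNM : normalizer (Q : Set G) = M := (hM.le_iff_eq hNtop).mp hMN
  have hcardQ : Nat.card Q = sylCard q M := by
    have h1 := Cfsg.Agent.Helper52.card_sylow_map q M (hNq.toSylow hNidx)
    rw [IsPGroup.toSylow_coe] at h1
    exact h1
  refine ⟨q, hq, Q, ?_, hQq, hQ1, hMN, hNM.le, ?_⟩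
  · unfold fittingOf
    apply Subgroup.map_mono
    exact Cfsg.Agent.Helper22.le_fittingSubgroup hNn hNq.isNilpotent
  · intro R hRq hQR
    by_contra hne
    have hlt := Cfsg.Agent.Helper54.card_lt_card_normalizer_inf Q R hRq hQR (Ne.symm hne)
    have h1 : (normalizer (Q : Set G) ⊓ R : Subgroup G) ≤ M := inf_le_left.trans hNM.le
    have h2 : IsPGroup q (normalizer (Q : Set G) ⊓ R : Subgroup G) := hRq.to_le inf_le_right
    have h3 := Cfsg.Agent.Helper15.BGU.card_le_sylCard q h2 h1
    omega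

/-- the full inputs -/
theorem inputs (hG : IsMinSimpleOddOrder G) : Inputs G :=
  inputs_of hG (s1a_of hG)
    (fun L M hL hM hne t _ ht p _ P hPL hPM hNL =>
      Cfsg.Agent.Helper53.BG95CA.caseA_rank hG (h94_of hG) L M hL hM hne t ht p P hPL hPM hNL)

/-- **B–G Lemma 9.5.** -/
theorem bg95 (hG : IsMinSimpleOddOrder G) (p : ℕ) [Fact p.Prime] (P : Sylow p G) (A : Subgroup G)
    (hA : IsSCN (P : Subgroup G) A) (hA3 : ¬ PRankLE p 2 ↥A) : InUniqueMaximal A := by
  have c : Ctx G p (P : Subgroup G) A :=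
    { hG := hG
      hPp := P.isPGroup'
      hPsyl := fun Q hQ hPQ => P.is_maximal' hQ hPQ
      hscn := hA
      hA3 := hA3 }
  exact main (inputs hG) c

end Cfsg.Agent.Helper73.BG95
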