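import Mathlib
import Cfsg.Agent.Lib.Helper97.FXDefs
import Cfsg.Agent.Lib.Helper97.FXDefs2
import Cfsg.Agent.Lib.Helper48.SympRep

/-!
# FX piece (FIXBASE) for helper97's S3818 server (wave 2).
-/

set_option autoImplicit false

namespace Cfsg.Agent.Helper73.FX

open Cfsg.Agent.Helper97.FX Cfsg.Agent.Helper48.SympRep
open scoped TensorProduct

universe u

section DS
variable {K : Type*} [Field K] {G : Type*} [Group G] [Finite G]
variable {V : Type u} [AddCommGroup V] [Module K V] [FiniteDimensional K V]

/-- **(FIXBASE)** -/
theorem fixDim_baseChange (L : Type*) [Field L] [Algebra K L] (T : Module.End K V) :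
    fixDim (T.baseChange L) = fixDim T := by
  rw [fixDim_def, fixDim_def]
  have h0 : (1 : Module.End K V).baseChange L = 1 := by
    rw [Module.End.one_eq_id, LinearMap.baseChange_id]
    rfl
  have h1 : (T.baseChange L - 1 : Module.End L (L ⊗[K] V)) = (T - 1).baseChange L := by
    rw [LinearMap.baseChange_sub, h0]
  rw [h1]
  have e := LinearMap.tensorKerEquiv L L (T - 1)
  have h2 : Module.finrank L (LinearMap.ker ((T - 1).baseChange L)) =
      Module.finrank L (L ⊗[K] LinearMap.ker (T - 1)) := e.finrank_eq.symm
  rw [h2, Module.finrank_baseChange]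

end DS

end Cfsg.Agent.Helper73.FX
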