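import Mathlib
import Cfsg.Agent.Lib.Helper97.FXDefs
import Cfsg.Agent.Lib.Helper97.FXDefs2
import Cfsg.Agent.Lib.Helper48.SympRep

/-!
# FX piece (FIXSQ) for helper97's S3818 server (wave 2).
-/

set_option autoImplicit false

namespace Cfsg.Agent.Helper73.FX

open Cfsg.Agent.Helper97.FX Cfsg.Agent.Helper48.SympRep
open scoped TensorProduct

universe u

section DS
variable {K : Type*} [Field K] {G : Type*} [Group G] [Finite G]
variable {V : Type u} [AddCommGroup V] [Module K V] [FiniteDimensional K V]

/-- **(FIXSQ)** -/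
theorem fixDim_sub_quot (T : Module.End K V) (W : Submodule K V) (hW : ∀ w ∈ W, T w ∈ W) :
    fixDim T ≤ fixDim (T.restrict hW) + fixDim (W.mapQ W T (fun w hw => hW w hw)) := by
  rw [fixDim_def, fixDim_def, fixDim_def]
  have hUmem : ∀ v : V, v ∈ LinearMap.ker (T - 1) ↔ T v = v := fun v => by
    rw [LinearMap.mem_ker, LinearMap.sub_apply, Module.End.one_apply, sub_eq_zero]
  generalize hU : LinearMap.ker (T - 1) = U at hUmem ⊢
  set φ : U →ₗ[K] (V ⧸ W) := W.mkQ ∘ₗ U.subtype with hφ
  have h1 := LinearMap.finrank_range_add_finrank_ker φ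
  have h2 : Module.finrank K (LinearMap.range φ) ≤
      Module.finrank K (LinearMap.ker (W.mapQ W T (fun w hw => hW w hw) - 1)) := by
    apply Submodule.finrank_mono
    rintro _ ⟨u, rfl⟩
    have hu : T u.1 = u.1 := (hUmem u.1).mp u.2
    rw [LinearMap.mem_ker, hφ]
    simp only [LinearMap.comp_apply, Submodule.subtype_apply, Submodule.mkQ_apply,
      LinearMap.sub_apply, Submodule.mapQ_apply, Module.End.one_apply]
    rw [hu, sub_self]
  have h3 : Module.finrank K (LinearMap.ker φ) =
      Module.finrank K (LinearMap.ker (T.restrict hW - 1)) := by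
    rw [← Submodule.finrank_map_subtype_eq U (LinearMap.ker φ),
      ← Submodule.finrank_map_subtype_eq W (LinearMap.ker (T.restrict hW - 1))]
    have hEq : (LinearMap.ker φ).map U.subtype =
        (LinearMap.ker (T.restrict hW - 1)).map W.subtype := by
      ext v
      simp only [Submodule.mem_map, LinearMap.mem_ker, Submodule.subtype_apply]
      constructor
      · rintro ⟨u, hu, rfl⟩
        have huW : u.1 ∈ W := by
          rw [hφ] at hu
          simpa [Submodule.Quotient.mk_eq_zero] using hu
        refine ⟨⟨u.1, huW⟩, ?_, rfl⟩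
        apply Subtype.ext
        have hu' : T u.1 = u.1 := (hUmem u.1).mp u.2
        simp [hu']
      · rintro ⟨w, hw, rfl⟩
        have hw' : T w.1 = w.1 := by
          have := congrArg Subtype.val hw
          simpa [sub_eq_zero] using this
        refine ⟨⟨w.1, (hUmem w.1).mpr hw'⟩, ?_, rfl⟩
        rw [hφ]
        simp [Submodule.Quotient.mk_eq_zero]
    rw [hEq]
  omega

end DS

end Cfsg.Agent.Helper73.FX
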