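import Mathlib
import Cfsg.Agent.Lib.Helper97.FXDefs
import Cfsg.Agent.Lib.Helper97.FXDefs2
import Cfsg.Agent.Lib.Helper48.SympRep

/-!
# FX piece (SIMEIG) for helper97's S3818 server (wave 2).
-/

set_option autoImplicit false

namespace Cfsg.Agent.Helper73.FX

open Cfsg.Agent.Helper97.FX Cfsg.Agent.Helper48.SympRep
open scoped TensorProduct

universe u

section RT
variable {K : Type*} [Field K] [IsAlgClosed K] {G : Type*} [Group G] [Finite G]
variable {V : Type u} [AddCommGroup V] [Module K V] [FiniteDimensional K V] [Nontrivial V]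

/-- **(SIMEIG)** -/
theorem simul_eigen {ι : Type*} [Finite ι] (f : ι → Module.End K V)
    (hcomm : ∀ i j, f i * f j = f j * f i) (m : ℕ) (hm : (m : K) ≠ 0) (hfm : ∀ i, f i ^ m = 1) :
    iSupIndep (fun χ : ι → K => ⨅ i, Module.End.eigenspace (f i) (χ i)) ∧
      ⨆ χ : ι → K, ⨅ i, Module.End.eigenspace (f i) (χ i) = ⊤ := by
  have hsq : Squarefree (Polynomial.X ^ m - Polynomial.C (1 : K)) :=
    (Polynomial.separable_X_pow_sub_C (1 : K) hm one_ne_zero).squarefree
  have hss : ∀ i, (f i).IsFinitelySemisimple := fun i => by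
    apply Module.End.IsSemisimple.isFinitelySemisimple
    apply Module.End.isSemisimple_of_squarefree_aeval_eq_zero hsq
    rw [map_sub, map_pow, Polynomial.aeval_X, Polynomial.aeval_C, hfm i, map_one, sub_self]
  have hEq : ∀ i (μ : K), (f i).maxGenEigenspace μ = (f i).eigenspace μ := fun i μ =>
    (hss i).maxGenEigenspace_eq_eigenspace μ
  have hfun : (fun χ : ι → K => ⨅ i, (f i).maxGenEigenspace (χ i)) =
      (fun χ : ι → K => ⨅ i, Module.End.eigenspace (f i) (χ i)) := by
    funext χ
    exact iInf_congr fun i => hEq i (χ i)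
  have hmaps : ∀ i j (φ : K), Set.MapsTo (f i) ((f j).maxGenEigenspace φ)
      ((f j).maxGenEigenspace φ) := fun i j φ =>
    Module.End.mapsTo_maxGenEigenspace_of_comm (hcomm j i) φ
  constructor
  · rw [← hfun]
    exact Module.End.independent_iInf_maxGenEigenspace_of_forall_mapsTo f hmaps
  · have h2 := Module.End.iSup_iInf_maxGenEigenspace_eq_top_of_forall_mapsTo f hmaps
      (fun i => Module.End.iSup_maxGenEigenspace_eq_top (f i))
    rw [← h2]
    exact iSup_congr fun χ => (congrFun hfun χ).symm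

end RT

end Cfsg.Agent.Helper73.FX
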