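import Mathlib
import Cfsg.Agent.Lib.Helper97.FXDefs
import Cfsg.Agent.Lib.Helper97.FXDefs2
import Cfsg.Agent.Lib.Helper48.SympRep
import Cfsg.Agent.Lib.Helper73.FXSIMEIG

/-!
# FX piece (WT) for helper97's S3818 server (wave 2): weight-space decomposition for an abelian
normal subgroup.
-/

set_option autoImplicit false

namespace Cfsg.Agent.Helper73.FX

open Cfsg.Agent.Helper97.FX Cfsg.Agent.Helper48.SympRep
open scoped TensorProduct

universe u

section RT
variable {K : Type*} [Field K] [IsAlgClosed K] {G : Type*} [Group G] [Finite G]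
variable {V : Type u} [AddCommGroup V] [Module K V] [FiniteDimensional K V] [Nontrivial V]

/-- **(WT)** -/
theorem weight_decomp (ρ : G →* Module.End K V) (hirr : Irr ρ) (N : Subgroup G) [N.Normal]
    (hab : ∀ a ∈ N, ∀ b ∈ N, a * b = b * a) (hcard : (Nat.card N : K) ≠ 0) :
    ∃ W₀ : Submodule K V, W₀ ≠ ⊥ ∧ (∀ n ∈ N, ∃ c : K, ∀ w ∈ W₀, ρ n w = c • w) ∧
      iSupIndep (fun i : WtOrbit ρ W₀ => i.1) ∧ (⨆ i : WtOrbit ρ W₀, i.1) = ⊤ := by
  classical
  have hcomm : ∀ i j : N, ρ (i : G) * ρ (j : G) = ρ (j : G) * ρ (i : G) := fun i j => by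
    rw [← map_mul, ← map_mul, hab i i.2 j j.2]
  have hfm : ∀ i : N, ρ (i : G) ^ (Nat.card N) = 1 := fun i => by
    rw [← map_pow, ← Subgroup.coe_pow, pow_card_eq_one', Subgroup.coe_one, map_one]
  obtain ⟨hind, htop⟩ := simul_eigen (fun n : N => ρ (n : G)) hcomm (Nat.card N) hcard hfm
  obtain ⟨wt, hwt⟩ : ∃ wt : (N → K) → Submodule K V,
      wt = fun χ => ⨅ n : N, Module.End.eigenspace (ρ (n : G)) (χ n) := ⟨_, rfl⟩
  rw [← hwt] at hind
  have htop' : ⨆ χ : N → K, wt χ = ⊤ := by rw [hwt]; exact htop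
  have hmem : ∀ χ v, v ∈ wt χ ↔ ∀ n : N, ρ (n : G) v = χ n • v := fun χ v => by
    rw [hwt]
    simp only [Submodule.mem_iInf, Module.End.mem_eigenspace_iff]
  -- a nonzero weight space
  obtain ⟨χ₀, hχ₀⟩ : ∃ χ₀, wt χ₀ ≠ ⊥ := by
    by_contra hcon
    push Not at hcon
    have h0 : (⨆ χ : N → K, wt χ) = ⊥ := by
      rw [iSup_eq_bot]; exact hcon
    rw [htop'] at h0
    obtain ⟨v, hv⟩ := exists_ne (0 : V)
    exact hv ((Submodule.eq_bot_iff _).mp h0 v trivial)
  -- the twisted character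
  obtain ⟨tw, htwdef⟩ : ∃ tw : G → (N → K) → (N → K),
      tw = fun g χ n => χ (MulAut.conjNormal g⁻¹ n) := ⟨_, rfl⟩
  have htw : ∀ g χ, (wt χ).map (ρ g) = wt (tw g χ) := by
    intro g χ
    ext w
    rw [Submodule.mem_map, hmem]
    constructor
    · rintro ⟨v, hv, rfl⟩ n
      rw [hmem] at hv
      have h1 := hv (MulAut.conjNormal g⁻¹ n)
      have e : (n : G) * g = g * ((MulAut.conjNormal g⁻¹ n : N) : G) := by
        rw [MulAut.conjNormal_apply]; group
      rw [← Module.End.mul_apply, ← map_mul, e, map_mul, Module.End.mul_apply, h1, map_smul,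
        htwdef]
    · intro hw
      refine ⟨ρ g⁻¹ w, ?_, ?_⟩
      · rw [hmem]
        intro n
        have h1 := hw (MulAut.conjNormal g n)
        have e1 : tw g χ (MulAut.conjNormal g n) = χ n := by
          rw [htwdef]
          simp only
          congr 1
          apply Subtype.ext
          rw [MulAut.conjNormal_apply, MulAut.conjNormal_apply]
          group
        rw [e1] at h1
        have e : (n : G) * g⁻¹ = g⁻¹ * ((MulAut.conjNormal g n : N) : G) := by
          rw [MulAut.conjNormal_apply]; group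
        rw [← Module.End.mul_apply, ← map_mul, e, map_mul, Module.End.mul_apply, h1, map_smul]
      · rw [← Module.End.mul_apply, ← map_mul, mul_inv_cancel, map_one, Module.End.one_apply]
  refine ⟨wt χ₀, hχ₀, ?_, ?_, ?_⟩
  · intro n hn
    refine ⟨χ₀ ⟨n, hn⟩, fun w hw => ?_⟩
    exact (hmem χ₀ w).mp hw ⟨n, hn⟩
  · -- independence
    have hch : ∀ i : WtOrbit ρ (wt χ₀), ∃ χ : N → K, i.1 = wt χ := by
      rintro ⟨W, g, hg⟩
      exact ⟨tw g χ₀, hg.trans (htw g χ₀)⟩
    choose c hc using hch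
    have hinj : Function.Injective c := by
      intro i j hij
      apply Subtype.ext
      rw [hc i, hc j, hij]
    have : (fun i : WtOrbit ρ (wt χ₀) => i.1) = wt ∘ c := by
      funext i
      exact hc i
    rw [this]
    exact hind.comp hinj
  · -- the sum is invariant and nonzero
    have hinv : ∀ g, ∀ u ∈ (⨆ i : WtOrbit ρ (wt χ₀), i.1), ρ g u ∈ (⨆ i : WtOrbit ρ (wt χ₀), i.1) := by
      intro g u hu
      have h1 : ρ g u ∈ (⨆ i : WtOrbit ρ (wt χ₀), i.1).map (ρ g) := Submodule.mem_map_of_mem hu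
      rw [Submodule.map_iSup] at h1
      have hle : (⨆ i : WtOrbit ρ (wt χ₀), Submodule.map (ρ g) i.1) ≤
          ⨆ i : WtOrbit ρ (wt χ₀), i.1 :=
        iSup_le fun i => le_iSup (fun i : WtOrbit ρ (wt χ₀) => i.1) (g • i)
      exact hle h1
    rcases hirr _ hinv with h | h
    · exfalso
      apply hχ₀
      rw [eq_bot_iff, ← h]
      exact le_iSup (fun i : WtOrbit ρ (wt χ₀) => i.1) (WtOrbit.base ρ (wt χ₀))
    · exact h

end RT

end Cfsg.Agent.Helper73.FX
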