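import Mathlib

/-!
# FX piece (AR1) for helper97's S3818 server: the main arithmetic inequality.
-/

set_option autoImplicit false

namespace Cfsg.Agent.Helper73.FX

/-- **(AR1)** arithmetic. -/
theorem arith_main (p I f w D : ℕ) (hp5 : 5 ≤ p)
    (hI : 4 * ((p - 1) * (p - 1)) < I * ((p - 2) * (p - 2))) (hf : 0 < f) (hD : 0 < D)
    (hw : w ≤ D)
    (h : p * (I * f) * ((p - 1) * (w * w) + (D - w) * (D - w)) ≤
      (p - 1) * ((p - 1) * f + I * f) * (D * D)) : 2 * w < D := by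
  by_contra hcon
  push Not at hcon
  obtain ⟨q, rfl⟩ : ∃ q, p = q + 2 := ⟨p - 2, by omega⟩
  obtain ⟨e, rfl⟩ : ∃ e, D = w + e := ⟨D - w, by omega⟩
  have hew : e ≤ w := by omega
  have hq3 : 3 ≤ q := by omega
  have h1 : q + 2 - 1 = q + 1 := by omega
  have h2 : q + 2 - 2 = q := by omega
  have h3 : w + e - w = e := by omega
  rw [h1, h2] at hI
  rw [h1, h3] at h
  obtain ⟨d, rfl⟩ : ∃ d, w = e + d := ⟨w - e, by omega⟩
  -- key: p D^2 ≤ 4 * bracket
  have key : (q + 2) * ((e + d + e) * (e + d + e)) ≤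
      4 * ((q + 1) * ((e + d) * (e + d)) + e * e) := by
    obtain ⟨s, rfl⟩ : ∃ s, q = s + 3 := ⟨q - 3, by omega⟩
    nlinarith [Nat.zero_le (d * e), Nat.zero_le (d * d), Nat.zero_le (s * (d * e)),
      Nat.zero_le (s * (d * d)), Nat.zero_le (s * (e * e))]
  have hX : 0 < f * ((e + d + e) * (e + d + e)) := by positivity
  set X := f * ((e + d + e) * (e + d + e)) with hXdef
  have h4 : (q + 2) * (q + 2) * I * X ≤ 4 * ((q + 1) * (q + 1 + I)) * X := by
    have := Nat.mul_le_mul_left ((q + 2) * (I * f)) key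
    calc (q + 2) * (q + 2) * I * X
        = (q + 2) * (I * f) * ((q + 2) * ((e + d + e) * (e + d + e))) := by
          rw [hXdef]; ring
      _ ≤ (q + 2) * (I * f) * (4 * ((q + 1) * ((e + d) * (e + d)) + e * e)) := this
      _ = 4 * ((q + 2) * (I * f) * ((q + 1) * ((e + d) * (e + d)) + e * e)) := by ring
      _ ≤ 4 * ((q + 1) * ((q + 1) * f + I * f) * ((e + d + e) * (e + d + e))) :=
          Nat.mul_le_mul_left 4 h
      _ = 4 * ((q + 1) * (q + 1 + I)) * X := by rw [hXdef]; ring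
  have h5 : (q + 2) * (q + 2) * I ≤ 4 * ((q + 1) * (q + 1 + I)) :=
    Nat.le_of_mul_le_mul_right h4 hX
  nlinarith [h5, hI]

end Cfsg.Agent.Helper73.FX
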