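import Mathlib

/-!
# FX piece (AR2) for helper97's S3818 server: the index arithmetic.
-/

set_option autoImplicit false

namespace Cfsg.Agent.Helper73.FX

theorem prime_pow_ne_six (r j : ℕ) (hr : r.Prime) : r ^ j ≠ 6 := by
  intro h6
  have h2 : 2 ∣ r ^ j := by rw [h6]; norm_num
  have h3 : 3 ∣ r ^ j := by rw [h6]; norm_num
  have e2 : 2 = r := (Nat.prime_dvd_prime_iff_eq Nat.prime_two hr).mp
    (Nat.Prime.dvd_of_dvd_pow Nat.prime_two h2)
  have e3 : 3 = r := (Nat.prime_dvd_prime_iff_eq Nat.prime_three hr).mp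
    (Nat.Prime.dvd_of_dvd_pow Nat.prime_three h3)
  omega

/-- **(AR2)** arithmetic. -/
theorem arith_index (p r I j : ℕ) (hp : p.Prime) (hp5 : 5 ≤ p) (hr : r.Prime) (hj : 1 ≤ j)
    (hI : I = r ^ j) (hmod : r ≠ p → I % p = 1) (hex : ¬ (r = 5 ∧ p = 5 ∧ j = 1)) :
    4 * ((p - 1) * (p - 1)) < I * ((p - 2) * (p - 2)) := by
  have hp6 : p ≠ 6 := by
    rintro rfl
    norm_num at hp
  obtain ⟨q, rfl⟩ : ∃ q, p = q + 2 := ⟨p - 2, by omega⟩
  have h1 : q + 2 - 1 = q + 1 := by omega
  have h2 : q + 2 - 2 = q := by omega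
  rw [h1, h2]
  have hr2 : 2 ≤ r := hr.two_le
  have hIr : r ≤ I := by
    rw [hI]
    calc r = r ^ 1 := (pow_one r).symm
      _ ≤ r ^ j := Nat.pow_le_pow_right (by omega) hj
  by_cases hrp : r = q + 2
  · -- r = p
    by_cases hq3 : q = 3
    · subst hq3
      have hr5 : r = 5 := hrp
      have hj2 : 2 ≤ j := by
        by_contra hj2
        exact hex ⟨hr5, rfl, by omega⟩
      have : 25 ≤ I := by
        rw [hI, hr5]
        calc 25 = 5 ^ 2 := by norm_num
          _ ≤ 5 ^ j := Nat.pow_le_pow_right (by norm_num) hj2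
      nlinarith
    · have hq5 : 5 ≤ q := by omega
      have hIq : q + 2 ≤ I := by omega
      obtain ⟨s, rfl⟩ : ∃ s, q = s + 5 := ⟨q - 5, by omega⟩
      have : (s + 5 + 2) * ((s + 5) * (s + 5)) ≤ I * ((s + 5) * (s + 5)) :=
        Nat.mul_le_mul_right _ hIq
      nlinarith [Nat.zero_le (s * s * s), Nat.zero_le (s * s)]
  · -- r ≠ p
    have hm := hmod hrp
    have hI2 : 2 ≤ I := by omega
    -- I ≥ p + 1
    have hIp : q + 3 ≤ I := by
      by_contra hlt
      push Not at hlt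
      have : I % (q + 2) = I := Nat.mod_eq_of_lt (by
        by_contra h'
        have : I = q + 2 := by omega
        rw [this] at hm
        simp at hm)
      omega
    by_cases hq3 : q = 3
    · subst hq3
      have hne6 : I ≠ 6 := by rw [hI]; exact prime_pow_ne_six r j hr
      have : 11 ≤ I := by omega
      nlinarith
    · have hq5 : 5 ≤ q := by omega
      obtain ⟨s, rfl⟩ : ∃ s, q = s + 5 := ⟨q - 5, by omega⟩
      have : (s + 5 + 3) * ((s + 5) * (s + 5)) ≤ I * ((s + 5) * (s + 5)) :=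
        Nat.mul_le_mul_right _ hIp
      nlinarith [Nat.zero_le (s * s * s), Nat.zero_le (s * s)]

end Cfsg.Agent.Helper73.FX
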