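import Mathlib
import Cfsg.Agent.Lib.Helper97.FXDefs
import Cfsg.Agent.Lib.Helper86.ESREC

/-!
# FX piece (GENQUAD) for helper97's S3818 server.
-/

set_option autoImplicit false

namespace Cfsg.Agent.Helper73.FX

open Cfsg.Agent.Helper97.FX

universe u

section LA
variable {K : Type*} [Field K] {V : Type u} [AddCommGroup V] [Module K V] [FiniteDimensional K V]

theorem pow_intertwine {V₁ V₂ : Type*} [AddCommGroup V₁] [Module K V₁] [AddCommGroup V₂]
    [Module K V₂] (f : V₁ →ₗ[K] V₂)
    (T : Module.End K V₁) (T' : Module.End K V₂) (h : T' ∘ₗ f = f ∘ₗ T) (n : ℕ) (v : V₁) :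
    (T' ^ n) (f v) = f ((T ^ n) v) := by
  have h1 : ∀ v, T' (f v) = f (T v) := fun v => LinearMap.congr_fun h v
  induction n generalizing v with
  | zero => simp
  | succ n ih =>
    rw [pow_succ, pow_succ, Module.End.mul_apply, Module.End.mul_apply, h1, ih]

theorem aeval_intertwine {V₁ V₂ : Type*} [AddCommGroup V₁] [Module K V₁] [AddCommGroup V₂]
    [Module K V₂] (f : V₁ →ₗ[K] V₂)
    (T : Module.End K V₁) (T' : Module.End K V₂) (h : T' ∘ₗ f = f ∘ₗ T) (q : Polynomial K)
    (v : V₁) :
    (Polynomial.aeval T' q) (f v) = f ((Polynomial.aeval T q) v) := by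
  induction q using Polynomial.induction_on' with
  | add p q hp hq => simp only [map_add, LinearMap.add_apply, hp, hq]
  | monomial n a =>
    rw [Polynomial.aeval_monomial, Polynomial.aeval_monomial, Module.End.mul_apply,
      Module.End.mul_apply, Module.algebraMap_end_apply, Module.algebraMap_end_apply,
      pow_intertwine f T T' h, map_smul]

/-- the quotient step: if `q = (X - C c) * q'` kills `T` then `q'` kills the map induced by `T`
on `V ⧸ eigenspace T c`. -/
theorem quot_step {V₁ : Type*} [AddCommGroup V₁] [Module K V₁]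
    (T : Module.End K V₁) (c : K) (q q' : Polynomial K)
    (hq' : q = (Polynomial.X - Polynomial.C c) * q') (hqT : Polynomial.aeval T q = 0) :
    ∃ T' : Module.End K (V₁ ⧸ Module.End.eigenspace T c),
      T' ∘ₗ (Module.End.eigenspace T c).mkQ = (Module.End.eigenspace T c).mkQ ∘ₗ T ∧
      Polynomial.aeval T' q' = 0 := by
  have hTW : Module.End.eigenspace T c ≤ (Module.End.eigenspace T c).comap T := by
    intro w hw
    rw [Submodule.mem_comap]
    rw [Module.End.mem_eigenspace_iff] at hw ⊢
    rw [hw, map_smul, hw]
  refine ⟨(Module.End.eigenspace T c).mapQ (Module.End.eigenspace T c) T hTW, ?_, ?_⟩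
  · ext v
    simp
  · have hT' : ((Module.End.eigenspace T c).mapQ (Module.End.eigenspace T c) T hTW) ∘ₗ
        (Module.End.eigenspace T c).mkQ = (Module.End.eigenspace T c).mkQ ∘ₗ T := by
      ext v
      simp
    apply LinearMap.ext
    intro u
    obtain ⟨v, rfl⟩ := Submodule.mkQ_surjective (Module.End.eigenspace T c) u
    rw [aeval_intertwine _ T _ hT' q' v, LinearMap.zero_apply, Submodule.mkQ_apply,
      Submodule.Quotient.mk_eq_zero, Module.End.mem_eigenspace_iff]
    have h0 := LinearMap.congr_fun hqT v
    rw [hq', map_mul, map_sub, Polynomial.aeval_X, Polynomial.aeval_C, Module.End.mul_apply,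
      LinearMap.sub_apply, Module.algebraMap_end_apply, LinearMap.zero_apply, sub_eq_zero] at h0
    exact h0

/-- **(GENQUAD)** -/
theorem genquad [IsAlgClosed K] : ∀ (d : ℕ) (V : Type u) [AddCommGroup V] [Module K V]
    [FiniteDimensional K V] (T : Module.End K V) (q : Polynomial K), q ≠ 0 → q.natDegree = d →
    Polynomial.aeval T q = 0 →
    Module.finrank K V * Module.finrank K V ≤
      d * Module.finrank K (Subalgebra.centralizer K ({T} : Set (Module.End K V))) := by
  intro d
  induction d with
  | zero =>
    intro V _ _ _ T q hq hd hqT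
    rw [Polynomial.eq_C_of_natDegree_eq_zero hd] at hqT hq
    have hc : q.coeff 0 ≠ 0 := fun h0 => hq (by rw [h0, Polynomial.C_0])
    rw [Polynomial.aeval_C] at hqT
    have hV : ∀ v : V, v = 0 := fun v => by
      have := LinearMap.congr_fun hqT v
      rw [Module.algebraMap_end_apply] at this
      simpa [hc] using this
    have : Module.finrank K V = 0 := by
      have : Subsingleton V := ⟨fun a b => by rw [hV a, hV b]⟩
      exact Module.finrank_zero_of_subsingleton
    rw [this]; simp
  | succ d ih =>
    intro V _ _ _ T q hq hd hqT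
    have hdeg : q.degree ≠ 0 := by
      rw [Polynomial.degree_eq_natDegree hq, hd]
      norm_cast
    obtain ⟨c, hc⟩ := IsAlgClosed.exists_root q hdeg
    obtain ⟨q', hq'⟩ := Polynomial.dvd_iff_isRoot.mpr hc
    have hq'0 : q' ≠ 0 := by
      rintro rfl
      exact hq (by rw [hq', mul_zero])
    have hq'd : q'.natDegree = d := by
      have := congrArg Polynomial.natDegree hq'
      rw [Polynomial.natDegree_mul (Polynomial.X_sub_C_ne_zero c) hq'0,
        Polynomial.natDegree_X_sub_C, hd] at this
      omega
    obtain ⟨T', hT', hq'T'⟩ := quot_step T c q q' hq' hqT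
    have hrec := Cfsg.Agent.Helper86.ES.rec_bound T c T' hT'
    have hih := ih (V ⧸ Module.End.eigenspace T c) T' q' hq'0 hq'd hq'T'
    have hdim : Module.finrank K (V ⧸ Module.End.eigenspace T c) +
        Module.finrank K (Module.End.eigenspace T c) = Module.finrank K V :=
      Submodule.finrank_quotient_add_finrank _
    rw [← hdim]
    generalize Module.finrank K (V ⧸ Module.End.eigenspace T c) = m' at *
    generalize Module.finrank K (Module.End.eigenspace T c) = w at *
    generalize Module.finrank K (Subalgebra.centralizer K ({T} : Set (Module.End K V))) = CT at *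
    generalize Module.finrank K (Subalgebra.centralizer K
      ({T'} : Set (Module.End K (V ⧸ Module.End.eigenspace T c)))) = C' at *
    rcases Nat.eq_zero_or_pos d with hd0 | hdpos
    · subst hd0
      have hm' : m' = 0 := by nlinarith
      rw [hm']
      nlinarith
    · apply Nat.le_of_mul_le_mul_left _ hdpos
      have h1 : (d + 1) * (m' * m') ≤ (d + 1) * (d * C') := Nat.mul_le_mul_left _ hih
      have h2 : d * (d + 1) * (w * w + C') ≤ d * (d + 1) * CT := Nat.mul_le_mul_left _ hrec
      zify at *
      nlinarith [sq_nonneg ((d : ℤ) * w - m')]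

end LA

end Cfsg.Agent.Helper73.FX
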