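import Mathlib
import Cfsg.Agent.Lib.Helper97.FXDefs
import Cfsg.Agent.Lib.Helper86.ESREC
import Cfsg.Agent.Lib.Helper73.FXGENQUAD

/-!
# FX piece (LOW) for helper97's S3818 server.
-/

set_option autoImplicit false

namespace Cfsg.Agent.Helper73.FX

open Cfsg.Agent.Helper97.FX

universe u

section LA
variable {K : Type*} [Field K] {V : Type u} [AddCommGroup V] [Module K V] [FiniteDimensional K V]

/-- **(LOW)** -/
theorem lower_bound [IsAlgClosed K] (T : Module.End K V) {p : ℕ} (hp : p.Prime) (hT : T ^ p = 1) :
    (p - 1) * (fixDim T * fixDim T) +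
        (Module.finrank K V - fixDim T) * (Module.finrank K V - fixDim T) ≤
      (p - 1) * Module.finrank K (Subalgebra.centralizer K ({T} : Set (Module.End K V))) := by
  have hfix : fixDim T = Module.finrank K (Module.End.eigenspace T 1) := by
    rw [fixDim_def, Module.End.eigenspace_def, one_smul]
  have hppos : 0 < p := hp.pos
  -- the polynomial X^p - 1 = (X - C 1) * q'
  have hroot : (Polynomial.X ^ p - Polynomial.C (1 : K)).IsRoot 1 := by
    simp [Polynomial.IsRoot.def]
  obtain ⟨q', hq'⟩ := Polynomial.dvd_iff_isRoot.mpr hroot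
  have hq0 : (Polynomial.X ^ p - Polynomial.C (1 : K)) ≠ 0 :=
    Polynomial.X_pow_sub_C_ne_zero hppos 1
  have hq'0 : q' ≠ 0 := by
    rintro rfl
    exact hq0 (by rw [hq', mul_zero])
  have hq'd : q'.natDegree = p - 1 := by
    have := congrArg Polynomial.natDegree hq'
    rw [Polynomial.natDegree_mul (Polynomial.X_sub_C_ne_zero 1) hq'0,
      Polynomial.natDegree_X_sub_C, Polynomial.natDegree_X_pow_sub_C] at this
    omega
  have hqT : Polynomial.aeval T (Polynomial.X ^ p - Polynomial.C (1 : K)) = 0 := by
    rw [map_sub, map_pow, Polynomial.aeval_X, Polynomial.aeval_C, hT, map_one, sub_self]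
  obtain ⟨T', hT', hq'T'⟩ := quot_step T 1 _ q' hq' hqT
  have hrec := Cfsg.Agent.Helper86.ES.rec_bound T 1 T' hT'
  have hgq := genquad (K := K) (p - 1) (V ⧸ Module.End.eigenspace T 1) T' q' hq'0 hq'd hq'T'
  have hdim : Module.finrank K (V ⧸ Module.End.eigenspace T 1) +
      Module.finrank K (Module.End.eigenspace T 1) = Module.finrank K V :=
    Submodule.finrank_quotient_add_finrank _
  rw [hfix, ← hdim, Nat.add_sub_cancel]
  generalize Module.finrank K (V ⧸ Module.End.eigenspace T 1) = m' at *
  generalize Module.finrank K (Module.End.eigenspace T 1) = w at *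
  generalize Module.finrank K (Subalgebra.centralizer K ({T} : Set (Module.End K V))) = CT at *
  generalize Module.finrank K (Subalgebra.centralizer K
    ({T'} : Set (Module.End K (V ⧸ Module.End.eigenspace T 1)))) = C' at *
  calc (p - 1) * (w * w) + m' * m' ≤ (p - 1) * (w * w) + (p - 1) * C' :=
        Nat.add_le_add_left hgq _
    _ = (p - 1) * (w * w + C') := by ring
    _ ≤ (p - 1) * CT := Nat.mul_le_mul_left _ hrec

end LA

end Cfsg.Agent.Helper73.FX
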