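import Mathlib
import Cfsg.Agent.Lib.Helper17.Simple
import Cfsg.Agent.Lib.Helper17.EmbedNormalizer

/-!
# Order 4800, case `n_5 = 96`: base facts (helper73, for the S0983 exercise-order server)
-/

set_option autoImplicit false

namespace Cfsg.Agent.Helper73.N4800

open Cfsg.Agent.Helper17

universe u

variable {G : Type u} [Group G] [Finite G]

instance fact_prime_five : Fact (Nat.Prime 5) := ⟨by norm_num⟩

/-- A simple group of order `4800` is not commutative. -/
theorem not_comm [IsSimpleGroup G] (hG : Nat.card G = 4800) : ¬ IsMulCommutative G := by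
  apply not_comm_of_not_prime
  rw [hG]
  norm_num

/-- Every proper subgroup of a simple group of order `4800` has index at least `10`. -/
theorem index_ge_ten [IsSimpleGroup G] (hG : Nat.card G = 4800) (H : Subgroup G) (hH : H ≠ ⊤) :
    10 ≤ H.index := by
  have h := two_mul_card_dvd_factorial (not_comm hG) H hH
  rw [hG] at h
  by_contra hlt
  push Not at hlt
  have h0 : H.index ≠ 0 := Subgroup.index_ne_zero_of_finite
  interval_cases hi : H.index <;> revert h <;> decide

/-- Every proper subgroup of a simple group of order `4800` has order at most `480`. -/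
theorem card_le_of_ne_top [IsSimpleGroup G] (hG : Nat.card G = 4800) (H : Subgroup G) (hH : H ≠ ⊤) :
    Nat.card H ≤ 480 := by
  have h1 := index_ge_ten hG H hH
  have h2 := H.card_mul_index
  rw [hG] at h2
  nlinarith

/-- Sylow `5`-subgroups have order `25`. -/
theorem card_sylow_five (hG : Nat.card G = 4800) (P : Sylow 5 G) :
    Nat.card (P : Subgroup G) = 25 := by
  have := sylow_card_eq (p := 5) (k := 2) (m := 192) P (by rw [hG]; norm_num) (by norm_num)
  simpa using this

/-- With `96` Sylow `5`-subgroups their normalizers have order `50`. -/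
theorem card_normalizer_five (hG : Nat.card G = 4800) (h96 : Nat.card (Sylow 5 G) = 96)
    (P : Sylow 5 G) : Nat.card (Subgroup.normalizer ((P : Subgroup G) : Set G)) = 50 := by
  have h := card_normalizer_mul_sylow_count P
  rw [h96, hG] at h
  omega

/-- A Sylow `5`-subgroup (order `25`) is abelian, i.e. contained in its own centralizer. -/
theorem sylow_five_le_centralizer (hG : Nat.card G = 4800) (P : Sylow 5 G) :
    (P : Subgroup G) ≤ Subgroup.centralizer ((P : Subgroup G) : Set G) := by
  have hc : Nat.card (P : Subgroup G) = 5 ^ 2 := by rw [card_sylow_five hG P]; norm_num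
  have hcomm := IsPGroup.isMulCommutative_of_card_eq_prime_sq hc
  intro x hx
  rw [Subgroup.mem_centralizer_iff]
  intro y hy
  have := hcomm.is_comm.comm ⟨y, hy⟩ ⟨x, hx⟩
  exact congrArg Subtype.val this

end Cfsg.Agent.Helper73.N4800
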