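import Mathlib
import Cfsg.Agent.Lib.Helper73.CoprimeFrattini
import Cfsg.Agent.S4208

set_option autoImplicit false

namespace Cfsg.Agent.Helper73

/-- A `q`-group of automorphisms of a `p`-group (`p ≠ q`) acting trivially on the Frattini quotient
acts trivially. -/
theorem coprime_trivial_of_frattini {A Q : Type*} [Group A] [Group Q] [Finite Q]
    [MulDistribMulAction A Q]
    {p q : ℕ} [hp : Fact p.Prime] [hq' : Fact q.Prime] (hA : IsPGroup q A) (hQ : IsPGroup p Q)
    (hpq : p ≠ q) (hmem : ∀ (b : A) (y : Q), y⁻¹ * b • y ∈ frattini Q)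
    (a : A) (x : Q) : a • x = x := by
  classical
  set Φ := frattini Q with hΦ
  have hchar : ∀ (b : A) (y : Q), y ∈ Φ → b • y ∈ Φ := by
    intro b y hy
    have h := (Subgroup.characteristic_iff_map_le.1 (frattini_characteristic (G := Q)))
      (MulDistribMulAction.toMulAut A Q b)
    exact h ⟨y, hy, rfl⟩
  -- fixed points in each coset
  have hfix : ∀ y : Q, ∃ n ∈ Φ, ∀ b : A, b • (y * n) = y * n := by
    intro y
    let X : SubMulAction A Q :=
      { carrier := {w | y⁻¹ * w ∈ Φ}
        smul_mem' := fun b w hw => by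
          show y⁻¹ * b • w ∈ Φ
          have : y⁻¹ * b • w = (y⁻¹ * b • y) * b • (y⁻¹ * w) := by
            rw [smul_mul', smul_inv']; group
          rw [this]; exact Φ.mul_mem (hmem b y) (hchar b _ hw) }
    have hXcard : Nat.card X = Nat.card Φ := by
      apply Nat.card_congr
      exact
        { toFun := fun w => ⟨y⁻¹ * w.1, w.2⟩
          invFun := fun n => ⟨y * n.1, by
            show y⁻¹ * (y * n.1) ∈ Φ
            rw [inv_mul_cancel_left]; exact n.2⟩
          left_inv := fun w => by
            apply Subtype.ext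
            show y * (y⁻¹ * w.1) = w.1
            rw [mul_inv_cancel_left]
          right_inv := fun n => by
            apply Subtype.ext
            show y⁻¹ * (y * n.1) = n.1
            rw [inv_mul_cancel_left] }
    obtain ⟨m, hm⟩ := IsPGroup.iff_card.1 (hQ.to_subgroup Φ)
    have hnd : ¬ q ∣ Nat.card X := by
      rw [hXcard, hm]
      intro h
      exact hpq.symm ((Nat.prime_dvd_prime_iff_eq hq'.out hp.out).1 (hq'.out.dvd_of_dvd_pow h))
    obtain ⟨w, hw⟩ := hA.nonempty_fixed_point_of_prime_not_dvd_card X hnd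
    refine ⟨y⁻¹ * w.1, w.2, fun b => ?_⟩
    rw [mul_inv_cancel_left]
    have := hw b
    exact congrArg Subtype.val this
  let F : Subgroup Q :=
    { carrier := {w | ∀ b : A, b • w = w}
      one_mem' := fun b => smul_one b
      mul_mem' := fun {v w} hv hw b => by rw [smul_mul', hv b, hw b]
      inv_mem' := fun {v} hv b => by rw [smul_inv', hv b] }
  have hsup : F ⊔ Φ = ⊤ := by
    rw [eq_top_iff]
    intro y _
    obtain ⟨n, hn, hb⟩ := hfix y
    have : y = (y * n) * n⁻¹ := by group
    rw [this]
    exact Subgroup.mul_mem_sup hb (Φ.inv_mem hn)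
  have hF : F = ⊤ := frattini_nongenerating hsup
  have : x ∈ F := hF ▸ Subgroup.mem_top x
  exact this a

/-- An automorphism of `q`-power order of a `p`-group (`p ≠ q`) acting trivially on the Frattini
quotient is trivial. -/
theorem aut_eq_one_of_frattini {Q : Type*} [Group Q] [Finite Q] {p q : ℕ} [hp : Fact p.Prime]
    [hq' : Fact q.Prime] (hQ : IsPGroup p Q) (hpq : p ≠ q) (β : MulAut Q) (k : ℕ)
    (hβ : β ^ (q ^ k) = 1) (hmem : ∀ y : Q, y⁻¹ * β y ∈ frattini Q) : β = 1 := by
  set B := Subgroup.zpowers β with hB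
  have hBq : IsPGroup q B := by
    obtain ⟨j, -, hj⟩ := (Nat.dvd_prime_pow hq'.out).1 (orderOf_dvd_of_pow_eq_one hβ)
    exact IsPGroup.of_card (n := j) (by rw [hB, Nat.card_zpowers, hj])
  have hker : β ∈ (Cfsg.Agent.S4208.quotAut (frattini Q)).ker := by
    rw [MonoidHom.mem_ker]
    ext v
    induction v using QuotientGroup.induction_on with | _ y => ?_
    rw [Cfsg.Agent.S4208.quotAut_mk]
    show ((β y : Q) : Q ⧸ frattini Q) = (y : Q ⧸ frattini Q)
    rw [eq_comm, QuotientGroup.eq]
    exact hmem y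
  have hBker : B ≤ (Cfsg.Agent.S4208.quotAut (frattini Q)).ker := by
    rw [hB, Subgroup.zpowers_le]; exact hker
  ext x
  have := coprime_trivial_of_frattini hBq hQ hpq (fun b y => by
    have h1 := Cfsg.Agent.S4208.mem_ker_quotAut (frattini Q) (b : MulAut Q) (hBker b.2) y
    have h2 : y⁻¹ * (b : MulAut Q) y = y⁻¹ * ((b : MulAut Q) y * y⁻¹) * y := by group
    show y⁻¹ * (b : MulAut Q) y ∈ frattini Q
    rw [h2]
    have hn : (frattini Q).Normal := inferInstance
    have := hn.conj_mem _ h1 y⁻¹
    simpa using this) (⟨β, Subgroup.mem_zpowers β⟩ : B) x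
  exact this

end Cfsg.Agent.Helper73
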