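import Mathlib
import Cfsg.Agent.Lib.Helper73.CoprimeFrattini2
import Cfsg.Agent.Lib.Helper20.QDSub
import Cfsg.Agent.S0012

set_option autoImplicit false

namespace Cfsg.Agent.Helper73

section
variable {X : Type*} [Group X] [Finite X]

/-- An automorphism of order `3` of a `2`-group with Frattini quotient of order `4` fixes no subgroup of
index `2`. -/
theorem no_inv_index_two (hX : IsPGroup 2 X) (hΦ : (frattini X).index = 4) (β : MulAut X)
    (hβ3 : β ^ 3 = 1) (hβ1 : β ≠ 1) (M : Subgroup X) (hM : M.index = 2)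
    (hinv : ∀ x ∈ M, β x ∈ M) : False := by
  have hf2 : Fact (Nat.Prime 2) := ⟨Nat.prime_two⟩
  have hf3 : Fact (Nat.Prime 3) := ⟨Nat.prime_three⟩
  set Φ := frattini X with hΦdef
  have hΦM : Φ ≤ M := frattini_le_coatom (Cfsg.Agent.Helper20.isCoatom_of_index_two hM)
  have hΦn : Φ.Normal := inferInstance
  have hsq : ∀ x : X, x ^ 2 ∈ Φ := (Cfsg.Agent.S0012.result 2 hX).2
  have hcharΦ : ∀ y, y ∈ Φ → β y ∈ Φ := by
    intro y hy
    have h := (Subgroup.characteristic_iff_map_le.1 (frattini_characteristic (G := X))) β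
    exact h ⟨y, hy, rfl⟩
  have hβ3' : ∀ x, β (β (β x)) = x := by
    intro x
    have := congrArg (fun γ : MulAut X => γ x) hβ3
    simpa [pow_succ] using this
  have hcharΦ' : ∀ y, β y ∈ Φ → y ∈ Φ := by
    intro y hy
    have := hcharΦ _ (hcharΦ _ hy)
    rwa [hβ3'] at this
  have hinv' : ∀ x, β x ∈ M → x ∈ M := by
    intro x hx
    have := hinv _ (hinv _ hx)
    rwa [hβ3'] at this
  -- `Φ` has index `2` in `M`
  have hrel : Φ.relIndex M = 2 := by
    have h1 := Subgroup.relIndex_mul_index hΦM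
    rw [hM, hΦ] at h1
    omega
  have hcoset : ∀ m m' : X, m ∈ M → m' ∈ M → m ∉ Φ → m' ∉ Φ → m⁻¹ * m' ∈ Φ := by
    intro m m' hm hm' hmΦ hm'Φ
    have h1 : (Φ.subgroupOf M).index = 2 := hrel
    have h2 := Subgroup.mul_mem_iff_of_index_two h1 (a := (⟨m, hm⟩ : M)⁻¹) (b := ⟨m', hm'⟩)
    have h3 : (⟨m, hm⟩ : M)⁻¹ * ⟨m', hm'⟩ ∈ Φ.subgroupOf M := by
      rw [h2]
      constructor
      · intro h
        exfalso
        apply hmΦ
        have := Subgroup.inv_mem _ h
        rw [inv_inv] at this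
        exact Subgroup.mem_subgroupOf.1 this
      · intro h
        exact absurd (Subgroup.mem_subgroupOf.1 h) hm'Φ
    exact Subgroup.mem_subgroupOf.1 h3
  -- step a
  have stepa : ∀ x ∈ M, x⁻¹ * β x ∈ Φ := by
    intro x hx
    by_cases hxΦ : x ∈ Φ
    · exact Φ.mul_mem (Φ.inv_mem hxΦ) (hcharΦ x hxΦ)
    · exact hcoset x (β x) hx (hinv x hx) hxΦ (fun h => hxΦ (hcharΦ' x h))
  -- step b
  have stepb : ∀ x, x⁻¹ * β x ∈ M := by
    intro x
    by_cases hx : x ∈ M
    · exact M.mul_mem (M.inv_mem hx) (hinv x hx)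
    · rw [Subgroup.mul_mem_iff_of_index_two hM]
      constructor
      · intro h
        exact absurd (by simpa using M.inv_mem h) hx
      · intro h
        exact absurd (hinv' x h) hx
  -- step c
  have stepc : ∀ x, x⁻¹ * β x ∈ Φ := by
    intro x
    set u := x⁻¹ * β x with hu
    have huM : u ∈ M := stepb x
    have h1 : u⁻¹ * β u ∈ Φ := stepa u huM
    have h2 : (β u)⁻¹ * β (β u) ∈ Φ := stepa (β u) (hinv u huM)
    have h3 : u * β u * β (β u) = 1 := by
      have e1 : β x = x * u := by rw [hu]; group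
      have e2 : β (β x) = x * u * β u := by rw [e1, map_mul, e1]
      have e3 : β (β (β x)) = x * u * β u * β (β u) := by
        rw [e2, map_mul, map_mul, e1]
      rw [hβ3'] at e3
      have : x * (u * β u * β (β u)) = x * 1 := by
        rw [mul_one, ← mul_assoc, ← mul_assoc]; exact e3.symm
      exact mul_left_cancel this
    -- in the quotient `u^3 = 1`
    have h4 : (u : X ⧸ Φ) * (u : X ⧸ Φ) * (u : X ⧸ Φ) = 1 := by
      have e1 : ((β u : X) : X ⧸ Φ) = (u : X ⧸ Φ) := by
        rw [eq_comm, QuotientGroup.eq]; exact h1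
      have e2 : ((β (β u) : X) : X ⧸ Φ) = (u : X ⧸ Φ) := by
        rw [← e1, eq_comm, QuotientGroup.eq]; exact h2
      have := congrArg (fun t : X => (t : X ⧸ Φ)) h3
      simp only [QuotientGroup.mk_mul, QuotientGroup.mk_one] at this
      rw [e1, e2] at this
      exact this
    have h5 : (u : X ⧸ Φ) * (u : X ⧸ Φ) = 1 := by
      rw [← QuotientGroup.mk_mul, QuotientGroup.eq_one_iff, ← pow_two]
      exact hsq u
    rw [h5, one_mul] at h4
    exact (QuotientGroup.eq_one_iff u).1 h4
  exact hβ1 (aut_eq_one_of_frattini (p := 2) (q := 3) hX (by norm_num) β 1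
    (by rw [pow_one]; exact hβ3) stepc)

/-- Invariant subgroups are contained in the Frattini subgroup or are everything. -/
theorem inv_le_frattini_or_top (hX : IsPGroup 2 X) (hΦ : (frattini X).index = 4) (β : MulAut X)
    (hβ3 : β ^ 3 = 1) (hβ1 : β ≠ 1) (C : Subgroup X) (hC : ∀ x ∈ C, β x ∈ C) :
    C ≤ frattini X ∨ C = ⊤ := by
  by_cases h : C ≤ frattini X
  · left; exact h
  right
  set D := C ⊔ frattini X with hD
  have hΦD : frattini X ≤ D := le_sup_right
  have hDinv : ∀ x ∈ D, β x ∈ D := by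
    intro x hx
    have h1 : D.map β.toMonoidHom ≤ D := by
      rw [hD, Subgroup.map_sup]
      apply sup_le_sup
      · rintro _ ⟨y, hy, rfl⟩
        exact hC y hy
      · exact (Subgroup.characteristic_iff_map_le.1 (frattini_characteristic (G := X))) β
    exact h1 ⟨x, hx, rfl⟩
  have hdvd : D.index ∣ 4 := by
    rw [← hΦ]; exact Subgroup.index_dvd_of_le hΦD
  have hne4 : D.index ≠ 4 := by
    intro h4
    have h1 := Subgroup.relIndex_mul_index hΦD
    rw [h4, hΦ] at h1
    have h2 : (frattini X).relIndex D = 1 := by omega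
    have h3 : D ≤ frattini X := Subgroup.relIndex_eq_one.1 h2
    exact h (le_sup_left.trans h3)
  have hcases : D.index = 1 ∨ D.index = 2 := by
    have hdvd' : D.index ∣ 2 ^ 2 := by norm_num; exact hdvd
    obtain ⟨k, hk, hk'⟩ := (Nat.dvd_prime_pow Nat.prime_two).1 hdvd'
    interval_cases k
    · left; simpa using hk'
    · right; simpa using hk'
    · exfalso; apply hne4; rw [hk']; norm_num
  rcases hcases with h1 | h2
  · have : D = ⊤ := Subgroup.index_eq_one.1 h1
    exact frattini_nongenerating this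
  · exact (no_inv_index_two hX hΦ β hβ3 hβ1 D h2 hDinv).elim

/-- No invariant normal subgroup with nontrivial cyclic quotient. -/
theorem no_inv_cyclic_quot (hX : IsPGroup 2 X) (hΦ : (frattini X).index = 4) (β : MulAut X)
    (hβ3 : β ^ 3 = 1) (hβ1 : β ≠ 1) (L : Subgroup X) [hL : L.Normal]
    (hinv : ∀ x ∈ L, β x ∈ L) (hcyc : IsCyclic (X ⧸ L)) : L = ⊤ := by
  have hf2 : Fact (Nat.Prime 2) := ⟨Nat.prime_two⟩
  rcases inv_le_frattini_or_top hX hΦ β hβ3 hβ1 L hinv with h | h
  · exfalso
    have hΦn : (frattini X).Normal := inferInstance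
    let f : X ⧸ L →* X ⧸ frattini X := QuotientGroup.map L (frattini X) (MonoidHom.id X) h
    have hf : Function.Surjective f := by
      intro v
      induction v using QuotientGroup.induction_on with | _ y => ?_
      exact ⟨(y : X ⧸ L), rfl⟩
    have hcyc' : IsCyclic (X ⧸ frattini X) := isCyclic_of_surjective f hf
    obtain ⟨g, hg⟩ := hcyc'.exists_generator
    have hcard : Nat.card (X ⧸ frattini X) = 4 := hΦ
    have hog : orderOf g = 4 := by
      rw [orderOf_eq_card_of_forall_mem_zpowers hg, hcard]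
    have hg2 : g ^ 2 = 1 := (Cfsg.Agent.S4208.frattini_quot_props hX).2 g
    have := orderOf_dvd_of_pow_eq_one hg2
    rw [hog] at this
    revert this; decide
  · exact h

/-- The abelianization of such a group is homocyclic: exponent data. -/
theorem exists_exponent_data (hX : IsPGroup 2 X) (hΦ : (frattini X).index = 4) (β : MulAut X)
    (hβ3 : β ^ 3 = 1) (hβ1 : β ≠ 1) :
    ∃ m : ℕ, 1 ≤ m ∧ (∀ x : X, x ^ (2 ^ m) ∈ commutator X) ∧
      (∀ x : X, x ^ (2 ^ (m - 1)) ∈ commutator X → x ∈ frattini X) := by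
  classical
  have hf2 : Fact (Nat.Prime 2) := ⟨Nat.prime_two⟩
  have hex : ∃ m : ℕ, ∀ x : X, x ^ (2 ^ m) ∈ commutator X := by
    obtain ⟨k, hk⟩ := IsPGroup.iff_card.1 hX
    exact ⟨k, fun x => by rw [← hk, pow_card_eq_one']; exact Subgroup.one_mem _⟩
  set m := Nat.find hex with hm
  have hspec : ∀ x : X, x ^ (2 ^ m) ∈ commutator X := Nat.find_spec hex
  have hcΦ : commutator X ≤ frattini X := (Cfsg.Agent.S0012.result 2 hX).1
  have hΦne : frattini X ≠ ⊤ := by
    intro h
    rw [h, Subgroup.index_top] at hΦ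
    omega
  have hm1 : 1 ≤ m := by
    by_contra h0
    have hm0 : m = 0 := by omega
    apply hΦne
    rw [eq_top_iff]
    intro x _
    have h1 := hspec x
    rw [hm0, pow_zero, pow_one] at h1
    exact hcΦ h1
  refine ⟨m, hm1, hspec, ?_⟩
  -- the subgroup `C`
  let π : X →* Abelianization X := Abelianization.of
  let C : Subgroup X := (powMonoidHom (2 ^ (m - 1)) : Abelianization X →* Abelianization X).ker.comap π
  have hCmem : ∀ x, x ∈ C ↔ x ^ (2 ^ (m - 1)) ∈ commutator X := by
    intro x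
    show (π x) ^ (2 ^ (m - 1)) = 1 ↔ _
    rw [← map_pow]
    exact QuotientGroup.eq_one_iff _
  have hCinv : ∀ x ∈ C, β x ∈ C := by
    intro x hx
    rw [hCmem] at hx ⊢
    rw [← map_pow]
    have h := (Subgroup.characteristic_iff_map_le.1
      (inferInstance : (commutator X).Characteristic)) β
    exact h ⟨_, hx, rfl⟩
  have hCne : C ≠ ⊤ := by
    intro h
    have hmin : ∀ x : X, x ^ (2 ^ (m - 1)) ∈ commutator X := by
      intro x
      rw [← hCmem, h]; exact Subgroup.mem_top x
    have := Nat.find_min hex (m := m - 1) (by omega)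
    exact this hmin
  rcases inv_le_frattini_or_top hX hΦ β hβ3 hβ1 C hCinv with h | h
  · intro x hx
    exact h ((hCmem x).2 hx)
  · exact absurd h hCne

end

end Cfsg.Agent.Helper73
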