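import Cfsg.Agent.Lib.Helper73.BG161Defs

/-!
# B–G Lemma 16.1 (S1435, helper73): the common context

* `Facts G` : the earlier rows used (as `Prop`s, see `BG161Defs`);
* `PP M K U Mstar` : `M` is of type `P₂` with standard factorisation `M = K U M_σ`, `K ≠ 1 ≠ U`, and
  `Mstar` is its partner (`K = C_{M*_σ}(K*)`, `K* = C_{M_σ}(K)` a Hall `κ(M*)`-subgroup of `M*`);
* `Base M K U Mstar H` : moreover `H` is a maximal subgroup containing `U K`, not conjugate to `M` or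
  `M*`, with `κ(H) = ∅`, together with the first consequences (all proved in `BG161Base`).
-/

set_option autoImplicit false

namespace Cfsg.Agent.Helper73.BG161

open Subgroup

variable {G : Type*} [Group G] [Finite G]

/-- the earlier rows used in the proof of B–G 16.1 -/
structure Facts (G : Type*) [Group G] [Finite G] : Prop where
  t1350 : T1350 G
  t1352 : T1352 G
  t1353 : T1353 G
  t1364 : T1364 G
  t1365 : T1365 G
  t1367 : T1367 G
  t1368 : T1368 G
  t1369 : T1369 G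
  t1375 : T1375 G
  t1378 : T1378 G
  t1408 : T1408 G
  t1416 : T1416 G
  t1417 : T1417 G
  t1418 : T1418 G
  t1420 : T1420 G
  t1429 : T1429 G
  t1430 : T1430 G
  t1431 : T1431 G
  t1432 : T1432 G
  t1434 : T1434 G
  t1437 : T1437 G

/-- `M` of type `P₂` (`K ≠ 1 ≠ U`) with its partner `Mstar`. -/
structure PP (M K U Mstar : Subgroup G) : Prop where
  hG : Cfsg.IsMinSimpleOddOrder G
  hM : IsCoatom M
  hKU : Cfsg.IsSigmaDecomposition M K U
  hK1 : K ≠ ⊥
  hU1 : U ≠ ⊥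
  hMstar : IsCoatom Mstar
  hKst : K = Cfsg.sigmaCore Mstar ⊓
    Subgroup.centralizer ((Cfsg.sigmaCore M ⊓ Subgroup.centralizer (K : Set G)) : Set G)
  hKstH : Cfsg.IsPiHallOf (Cfsg.kappa Mstar)
    (Cfsg.sigmaCore M ⊓ Subgroup.centralizer (K : Set G)) Mstar

/-- The situation of B–G 16.1 after the first reductions: `H` is a maximal subgroup containing `U K`,
not conjugate to `M` or `M*`, of type `F`. -/
structure Base (M K U Mstar H : Subgroup G) : Prop extends PP M K U Mstar where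
  hH : IsCoatom H
  /-- `U` is abelian -/
  hUab : ∀ a ∈ U, ∀ b ∈ U, a * b = b * a
  hUH : U ≤ H
  hKH : K ≤ H
  /-- `H` is not conjugate to `M` -/
  hHM : ∀ g : G, H ≠ M.map (MulAut.conj g).toMonoidHom
  /-- `H` is not conjugate to `M*` -/
  hHMs : ∀ g : G, H ≠ Mstar.map (MulAut.conj g).toMonoidHom
  /-- `H` is of type `F` -/
  hkH : Cfsg.kappa H = ∅
  /-- `C_{M_σ}(U) = 1` (from B–G 14.1) -/
  hCU : Cfsg.sigmaCore M ⊓ centralizer (U : Set G) = ⊥
  /-- `M_σ` is nilpotent (from B–G 14.1) -/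
  hMnil : Group.IsNilpotent (Cfsg.sigmaCore M)
  /-- `U` is a `(σ(M) ∪ κ(M))'`-group -/
  hUσ : ∀ p : ℕ, p.Prime → p ∣ Nat.card U → p ∉ Cfsg.sigma M ∧ p ∉ Cfsg.kappa M
  /-- `U` is a `σ(M*)'`-group (`K` is a Hall `σ(M*)`-subgroup of `M`) -/
  hUσs : ∀ p : ℕ, p.Prime → p ∣ Nat.card U → p ∉ Cfsg.sigma Mstar
  /-- `K` is a `σ(H)'`-group -/
  hKσH : ∀ p : ℕ, p.Prime → p ∣ Nat.card K → p ∉ Cfsg.sigma H
  /-- `K ≤ M*_σ` -/
  hKMs : K ≤ Cfsg.sigmaCore Mstar
  /-- `H_σ` is nilpotent -/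
  hHnil : Group.IsNilpotent (Cfsg.sigmaCore H)
  /-- `H_σ ≠ 1` -/
  hHσ1 : Cfsg.sigmaCore H ≠ ⊥

end Cfsg.Agent.Helper73.BG161
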