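import Mathlib

/-!
# S4414 lemma server "W44" (helper73): shared definitions

* `fixS ρ P` : the joint fixed space of a subgroup `P` (for `ρ : G →* Module.End k V`; a
  `Representation k G V` IS such a monoid hom).
* `Wt K k` : "weights" = functions `↥K → k`, with the twisted action of `G` (`K` normal).
* `wt ρ K χ` : the simultaneous eigenspace (weight space).
* abstract graded setting: `W : X → Submodule k V` with `hI : DirectSum.IsInternal W`;
  `proj W hI x : V →ₗ[k] V` the projection onto `W x`, `supp W hI v : Set X` the support.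
-/

set_option autoImplicit false

namespace Cfsg.Agent.Helper73.W44

variable {k : Type*} [Field k] {G : Type*} [Group G] {V : Type*} [AddCommGroup V] [Module k V]

/-- joint fixed space of the subgroup `P` -/
def fixS (ρ : G →* Module.End k V) (P : Subgroup G) : Submodule k V where
  carrier := {v | ∀ s ∈ P, ρ s v = v}
  add_mem' := by
    intro a b ha hb s hs
    rw [map_add, ha s hs, hb s hs]
  zero_mem' := by
    intro s _
    rw [map_zero]
  smul_mem' := by
    intro c a ha s hs
    rw [map_smul, ha s hs]

theorem mem_fixS (ρ : G →* Module.End k V) (P : Subgroup G) (v : V) :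
    v ∈ fixS ρ P ↔ ∀ s ∈ P, ρ s v = v := Iff.rfl

/-- weights of the normal subgroup `K` with values in `k` (type synonym for `↥K → k`) -/
def Wt (K : Subgroup G) (k : Type*) : Type _ := ↥K → k

/-- the twisted action of `G` on weights: `(g • χ) n = χ (g⁻¹ n g)` -/
instance instMulActionWt (K : Subgroup G) [K.Normal] : MulAction G (Wt K k) where
  smul g χ := fun n => χ (MulAut.conjNormal g⁻¹ n)
  one_smul χ := by
    funext n
    show χ (MulAut.conjNormal (1 : G)⁻¹ n) = χ n
    rw [inv_one, map_one]
    rfl
  mul_smul g h χ := by
    funext n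
    show χ (MulAut.conjNormal (g * h)⁻¹ n) = χ (MulAut.conjNormal h⁻¹ (MulAut.conjNormal g⁻¹ n))
    rw [mul_inv_rev, map_mul]
    rfl

theorem Wt.smul_apply (K : Subgroup G) [K.Normal] (g : G) (χ : Wt K k) (n : K) :
    (g • χ) n = χ (MulAut.conjNormal g⁻¹ n) := rfl

/-- the weight space of `χ` -/
def wt (ρ : G →* Module.End k V) (K : Subgroup G) (χ : Wt K k) : Submodule k V :=
  ⨅ n : K, Module.End.eigenspace (ρ (n : G)) (χ n)

theorem mem_wt (ρ : G →* Module.End k V) (K : Subgroup G) (χ : Wt K k) (v : V) :
    v ∈ wt ρ K χ ↔ ∀ n : K, ρ (n : G) v = χ n • v := by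
  unfold wt
  simp only [Submodule.mem_iInf, Module.End.mem_eigenspace_iff]

section graded
variable {X : Type*} [DecidableEq X]

/-- projection onto the component `W x` of an internal direct sum decomposition -/
noncomputable def proj (W : X → Submodule k V) (hI : DirectSum.IsInternal W) (x : X) :
    V →ₗ[k] V :=
  (W x).subtype ∘ₗ DirectSum.component k X (fun i => W i) x ∘ₗ
    (LinearEquiv.ofBijective (DirectSum.coeLinearMap W) hI).symm.toLinearMap

theorem proj_mem (W : X → Submodule k V) (hI : DirectSum.IsInternal W) (x : X) (v : V) :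
    proj W hI x v ∈ W x := by
  unfold proj
  simp only [LinearMap.coe_comp, Function.comp_apply, Submodule.coe_subtype, SetLike.coe_mem]

/-- the support of a vector -/
def supp (W : X → Submodule k V) (hI : DirectSum.IsInternal W) (v : V) : Set X :=
  {x | proj W hI x v ≠ 0}

theorem mem_supp (W : X → Submodule k V) (hI : DirectSum.IsInternal W) (v : V) (x : X) :
    x ∈ supp W hI v ↔ proj W hI x v ≠ 0 := Iff.rfl

end graded

end Cfsg.Agent.Helper73.W44
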