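import Mathlib
import Cfsg.Agent.Lib.Helper73.BG161Ctx
import Cfsg.Agent.Lib.Helper55.BGDecomp
import Cfsg.Agent.Lib.Helper55.BGBasic
import Cfsg.Agent.Lib.Helper97.BG144
import Cfsg.Agent.Lib.Helper95.BG15.FitSigma
import Cfsg.Agent.Lib.Helper78.BG126
import Cfsg.Agent.Lib.Helper23.BGCount
import Cfsg.Agent.Lib.Helper19.BGZhat

/-!
# B–G Lemma 16.1 (S1435, helper73): the first reductions (`Base`)
-/

set_option autoImplicit false

namespace Cfsg.Agent.Helper73.BG161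

open Subgroup

variable {G : Type*} [Group G] [Finite G]

/-- `U` is abelian. -/
theorem U_abelian (f : Facts G) {M K U Mstar : Subgroup G} (pp : PP M K U Mstar) :
    ∀ a ∈ U, ∀ b ∈ U, a * b = b * a := by
  have hsol : Group.IsSolvable M := pp.hG.2.2.2 M pp.hM.1
  obtain ⟨hHallσ, -, -⟩ := f.t1350 M pp.hM
  obtain ⟨-, ⟨U', hU'c, hU'H, -, -⟩, -⟩ := f.t1430 M pp.hM K pp.hKU.hall pp.hK1
  obtain ⟨l, hlM, hl⟩ := Cfsg.Agent.Helper55.BGB.exists_conj_of_hall hsol pp.hKU hHallσ hU'H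
  intro a ha b hb
  rw [hl] at ha hb
  obtain ⟨a', ha', rfl⟩ := ha
  obtain ⟨b', hb', rfl⟩ := hb
  have hc := hU'c.is_comm.comm ⟨a', ha'⟩ ⟨b', hb'⟩
  have hc' : a' * b' = b' * a' := congrArg Subtype.val hc
  rw [← map_mul, ← map_mul, hc']

/-- In an abelian group `U` the `r`-elements lie in the Sylow `r`-subgroup. -/
theorem mem_sylow_of_pow {U : Subgroup G} (hUab : ∀ a ∈ U, ∀ b ∈ U, a * b = b * a)
    {r : ℕ} [Fact r.Prime] (R : Sylow r U) {x : G} (hx : x ∈ U) {n : ℕ} (hxn : x ^ (r ^ n) = 1) :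
    x ∈ (R : Subgroup U).map U.subtype := by
  have hn : (R : Subgroup U).Normal := by
    refine ⟨fun a ha g => ?_⟩
    have : g * a * g⁻¹ = a := by
      apply Subtype.ext
      have := hUab g.1 g.2 a.1 a.2
      simp only [Subgroup.coe_mul, Subgroup.coe_inv]
      rw [this, mul_inv_cancel_right]
    rw [this]; exact ha
  haveI : Unique (Sylow r U) := Sylow.unique_of_normal R hn
  set y : U := ⟨x, hx⟩ with hy
  have hyn : y ^ (r ^ n) = 1 := by
    apply Subtype.ext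
    simpa using hxn
  have hp : IsPGroup r (zpowers y) := by
    intro z
    obtain ⟨k, hk⟩ := z.2
    refine ⟨n, ?_⟩
    apply Subtype.ext
    simp only [Subgroup.coe_pow, Subgroup.coe_one]
    rw [← hk, ← zpow_natCast, ← zpow_mul, mul_comm, zpow_mul, zpow_natCast, hyn, one_zpow]
  obtain ⟨Q, hQ⟩ := hp.exists_le_sylow
  have hQR : Q = R := Subsingleton.elim _ _
  rw [hQR] at hQ
  exact ⟨y, hQ (mem_zpowers y), rfl⟩

/-- `U K ≤ N_G(R)`. -/
theorem UK_le_normalizer {M K U : Subgroup G} (hKU : Cfsg.IsSigmaDecomposition M K U)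
    (hUab : ∀ a ∈ U, ∀ b ∈ U, a * b = b * a) {r : ℕ} [Fact r.Prime] (R : Sylow r U) :
    U ⊔ K ≤ normalizer (((R : Subgroup U).map U.subtype : Subgroup G) : Set G) := by
  have hRU : (R : Subgroup U).map U.subtype ≤ U := Subgroup.map_subtype_le _
  refine sup_le ?_ ?_
  · apply Cfsg.Agent.Helper78.BG126.le_normalizer_of_conj_mem'
    intro g hg x hx
    have : g * x * g⁻¹ = x := by
      rw [hUab g hg x (hRU hx), mul_inv_cancel_right]
    rw [this]; exact hx
  · apply Cfsg.Agent.Helper78.BG126.le_normalizer_of_conj_mem'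
    intro g hg x hx
    obtain ⟨y, hy, rfl⟩ := hx
    obtain ⟨n, hn⟩ := R.2 ⟨y, hy⟩
    have hyn : (y : G) ^ (r ^ n) = 1 := by
      have := congrArg Subtype.val (congrArg Subtype.val hn)
      simpa using this
    have hU' : g * (U.subtype y) * g⁻¹ ∈ U := ((hKU.normal hg) (y : G)).mp y.2
    refine mem_sylow_of_pow hUab R hU' (n := n) ?_
    show (g * (y : G) * g⁻¹) ^ (r ^ n) = 1
    rw [conj_pow, hyn, mul_one, mul_inv_cancel]

/-- the Sylow `r`-subgroup of `U` has `r'`-index in every subgroup of the order of `M`. -/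
theorem not_dvd_relIndex {M K U : Subgroup G} (hKU : Cfsg.IsSigmaDecomposition M K U)
    (hHall : Cfsg.IsPiHallOf (Cfsg.sigma M) (Cfsg.sigmaCore M) M)
    {r : ℕ} [hr : Fact r.Prime] (hrU : r ∣ Nat.card U) (R : Sylow r U) (L : Subgroup G)
    (hRL : (R : Subgroup U).map U.subtype ≤ L) (hc : Nat.card L = Nat.card M) :
    ¬ r ∣ ((R : Subgroup U).map U.subtype).relIndex L := by
  intro hd
  obtain ⟨hrκ, hrσ⟩ := Cfsg.Agent.Helper55.BGB.U_prime_not_mem hKU hHall hr.out hrU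
  have h1 := Cfsg.Agent.Helper55.BGB.card_mul_relIndex hRL
  have h2 := Cfsg.Agent.Helper55.BGB.card_decomp hKU
  have hcR : Nat.card ((R : Subgroup U).map U.subtype) = r ^ (Nat.card U).factorization r := by
    rw [Subgroup.card_map_of_injective U.subtype_injective]
    exact R.card_eq_multiplicity
  have hrK : ¬ r ∣ Nat.card K := fun h => hrκ (hKU.hall.2.1 r hr.out h)
  have hrS : ¬ r ∣ Nat.card (Cfsg.sigmaCore M) := fun h =>
    hrσ (Cfsg.Agent.Helper55.BGB.isPi_sigmaCore M r hr.out h)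
  have hcop : (r ^ ((Nat.card U).factorization r + 1)).Coprime
      (Nat.card K * Nat.card (Cfsg.sigmaCore M)) := by
    apply Nat.Coprime.pow_left
    apply Nat.Coprime.mul_right
    · exact (Nat.Prime.coprime_iff_not_dvd hr.out).mpr hrK
    · exact (Nat.Prime.coprime_iff_not_dvd hr.out).mpr hrS
  have hdvd : r ^ ((Nat.card U).factorization r + 1) ∣
      Nat.card U * (Nat.card K * Nat.card (Cfsg.sigmaCore M)) := by
    rw [← h2, ← hc, ← h1, hcR, pow_succ]
    exact Nat.mul_dvd_mul_left _ hd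
  have hdU : r ^ ((Nat.card U).factorization r + 1) ∣ Nat.card U :=
    hcop.dvd_of_dvd_mul_right hdvd
  exact Nat.pow_succ_factorization_not_dvd Nat.card_pos.ne' hr.out hdU

/-- The first reductions of B–G 16.1. -/
theorem base (f : Facts G) (hUq : Cfsg.Agent.Helper34.BG.UniqHyp G)
    {M K U Mstar : Subgroup G} (pp : PP M K U Mstar)
    (r : ℕ) [hrP : Fact r.Prime] (hr : r ∣ Nat.card U) (R : Sylow r U) (H : Subgroup G)
    (hH : IsCoatom H)
    (hNR : normalizer (((R : Subgroup U).map U.subtype : Subgroup G) : Set G) ≤ H) :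
    Base M K U Mstar H := by
  have : IsSimpleGroup G := pp.hG.2.1
  have hUab := U_abelian f pp
  have hUKH : U ⊔ K ≤ H := (UK_le_normalizer pp.hKU hUab R).trans hNR
  have hUH : U ≤ H := le_sup_left.trans hUKH
  have hKH : K ≤ H := le_sup_right.trans hUKH
  obtain ⟨hHallσ, -, -⟩ := f.t1350 M pp.hM
  obtain ⟨hHallσs, -, -⟩ := f.t1350 Mstar pp.hMstar
  have hUM : U ≤ M := pp.hKU.compl.1
  have hKM : K ≤ M := pp.hKU.hall.1
  obtain ⟨hrκ, hrσ⟩ := Cfsg.Agent.Helper55.BGB.U_prime_not_mem pp.hKU hHallσ hrP.out hr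
  have hR'U : (R : Subgroup U).map U.subtype ≤ U := Subgroup.map_subtype_le _
  have hR'H : (R : Subgroup U).map U.subtype ≤ H := hR'U.trans hUH
  have hrM : r ∣ Nat.card M := hr.trans (Subgroup.card_dvd_of_le hUM)
  -- `K*`
  obtain ⟨hKsc, hKs1, -, -⟩ := f.t1364 M pp.hM K U pp.hKU pp.hK1
  have hKMs : K ≤ Cfsg.sigmaCore Mstar := pp.hKst.le.trans inf_le_left
  have hKeq : Cfsg.sigmaCore Mstar ⊓ Subgroup.centralizer
      ((Cfsg.sigmaCore M ⊓ Subgroup.centralizer (K : Set G) : Subgroup G) : Set G) = K :=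
    pp.hKst.symm
  -- not conjugate to `M`
  have hHM : ∀ g : G, H ≠ M.map (MulAut.conj g).toMonoidHom := by
    intro g hg
    have hcard : Nat.card H = Nat.card M := by
      rw [hg, Subgroup.card_map_of_injective (MulAut.conj g).injective]
    have hrH : r ∈ Cfsg.sigma H := by
      rw [Cfsg.Agent.Helper97.BG144.mem_sigma_iff]
      refine ⟨hrP.out, hcard ▸ hrM, (R : Subgroup U).map U.subtype, hR'H, R.2.map _, ?_, hNR⟩
      exact not_dvd_relIndex pp.hKU hHallσ hr R H hR'H hcard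
    rw [hg, Cfsg.Agent.Helper97.BG144.sigma_map_conj] at hrH
    exact hrσ hrH
  -- not conjugate to `M*`
  have hHMs : ∀ g : G, H ≠ Mstar.map (MulAut.conj g).toMonoidHom := by
    intro g hg
    obtain ⟨h1, -, -, -⟩ := f.t1431 Mstar pp.hMstar _ pp.hKstH hKs1
    have hgM : g ∈ Mstar := by
      by_contra hgn
      have h2 := h1 g hgn
      rw [hKeq] at h2
      apply pp.hK1
      rw [eq_bot_iff, ← h2]
      exact le_inf le_rfl (hg ▸ hKH)
    have hHeq : H = Mstar := by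
      rw [hg]
      exact Cfsg.Agent.Helper19.BGZhat.map_conj_eq_of_mem_normalizer
        (Subgroup.le_normalizer hgM)
    obtain ⟨h3, -⟩ := f.t1368 M pp.hM K U pp.hKU pp.hK1 Mstar pp.hMstar pp.hKst pp.hKstH
    have hU2 : U ≤ K ⊔ Cfsg.sigmaCore M := by
      have : U ≤ M ⊓ Mstar := le_inf hUM (hHeq ▸ hUH)
      rw [h3] at this
      exact this.trans (sup_le_sup_left inf_le_left _)
    apply pp.hU1
    rw [eq_bot_iff, ← pp.hKU.compl.2.2.1]
    exact le_inf le_rfl hU2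
  -- type `F`
  have hkH : Cfsg.kappa H = ∅ := by
    by_contra hne
    obtain ⟨-, h2⟩ := f.t1369 M pp.hM K U pp.hKU pp.hK1 Mstar pp.hMstar pp.hKst pp.hKstH
    obtain ⟨g, hg | hg⟩ := h2 H hH (Set.nonempty_iff_ne_empty.mpr hne)
    · exact hHM g hg
    · exact hHMs g hg
  -- B–G 14.1 for `M`
  have hP1 : ¬ (∀ q : ℕ, q.Prime → q ∣ Nat.card M → q ∉ Cfsg.sigma M → q ∈ Cfsg.kappa M) :=
    fun h => hrκ (h r hrP.out hrM hrσ)
  have hQ' : IsPGroup r (((R : Subgroup U).map U.subtype).subgroupOf M) :=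
    (R.2.map _).comap_subtype
  have hidx' : ¬ r ∣ (((R : Subgroup U).map U.subtype).subgroupOf M).index :=
    not_dvd_relIndex pp.hKU hHallσ hr R M (hR'U.trans hUM) rfl
  have hSmap : ((hQ'.toSylow hidx' : Sylow r M) : Subgroup M).map M.subtype =
      (R : Subgroup U).map U.subtype := by
    rw [IsPGroup.toSylow_coe, Subgroup.subgroupOf_map_subtype, inf_eq_left.mpr (hR'U.trans hUM)]
  obtain ⟨-, h1429b, hMnil⟩ := f.t1429 M pp.hM hP1 r hrM
    (by rintro (h | h); exact hrσ h; exact hrκ h) (hQ'.toSylow hidx')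
  have hCU : Cfsg.sigmaCore M ⊓ centralizer (U : Set G) = ⊥ := by
    rw [eq_bot_iff, ← h1429b]
    refine inf_le_inf_left _ (Subgroup.centralizer_le ?_)
    intro x hx
    have : Subgroup.closure {x : G | x ∈ ((hQ'.toSylow hidx' : Sylow r M) : Subgroup M).map
        M.subtype ∧ x ^ r = 1} ≤ U := by
      rw [Subgroup.closure_le]
      intro y hy
      rw [hSmap] at hy
      exact hR'U hy.1
    exact this hx
  -- primes of `U`
  have hUσ : ∀ p : ℕ, p.Prime → p ∣ Nat.card U → p ∉ Cfsg.sigma M ∧ p ∉ Cfsg.kappa M := by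
    intro p hp hpU
    exact (Cfsg.Agent.Helper55.BGB.U_prime_not_mem pp.hKU hHallσ hp hpU).symm
  -- `K` is a Hall `σ(M*)`-subgroup of `M`
  have hUσs : ∀ p : ℕ, p.Prime → p ∣ Nat.card U → p ∉ Cfsg.sigma Mstar := by
    obtain ⟨⟨Us, hUs⟩, -⟩ := f.t1352 Mstar pp.hMstar _ hKsc pp.hKstH
    have hKst' : (Cfsg.sigmaCore M ⊓ Subgroup.centralizer (K : Set G)) = Cfsg.sigmaCore M ⊓
        Subgroup.centralizer ((Cfsg.sigmaCore Mstar ⊓ Subgroup.centralizer
          ((Cfsg.sigmaCore M ⊓ Subgroup.centralizer (K : Set G) : Subgroup G) : Set G) :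
          Subgroup G) : Set G) := by
      rw [hKeq]
    have hKstH' : Cfsg.IsPiHallOf (Cfsg.kappa M) (Cfsg.sigmaCore Mstar ⊓ Subgroup.centralizer
        ((Cfsg.sigmaCore M ⊓ Subgroup.centralizer (K : Set G) : Subgroup G) : Set G)) M := by
      rw [hKeq]; exact pp.hKU.hall
    obtain ⟨-, h2, -⟩ := f.t1434 Mstar pp.hMstar _ Us hUs hKs1 M pp.hM hKst' hKstH'
    rw [hKeq] at h2
    intro p hp hpU hpσ
    apply h2.2.2 p hp hpσ
    have h3 := Cfsg.Agent.Helper55.BGB.card_mul_relIndex hKM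
    have h4 := Cfsg.Agent.Helper55.BGB.card_decomp pp.hKU
    have h5 : K.relIndex M = Nat.card U * Nat.card (Cfsg.sigmaCore M) := by
      have hKpos : 0 < Nat.card K := Nat.card_pos
      apply Nat.eq_of_mul_eq_mul_left hKpos
      rw [h3, h4]; ring
    rw [h5]
    exact Dvd.dvd.mul_right hpU _
  -- `K` is a `σ(H)'`-group
  have hKσH : ∀ p : ℕ, p.Prime → p ∣ Nat.card K → p ∉ Cfsg.sigma H := by
    intro p hp hpK hpH
    have hpMs : p ∈ Cfsg.sigma Mstar :=
      Cfsg.Agent.Helper55.BGB.isPi_sigmaCore Mstar p hp (hpK.trans (Subgroup.card_dvd_of_le hKMs))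
    obtain ⟨g, hg⟩ := f.t1378.2 Mstar H pp.hMstar hH ⟨p, hpMs, hpH⟩
    exact hHMs g hg
  -- B–G 14.1 for `H`
  have hHnil : Group.IsNilpotent (Cfsg.sigmaCore H) := by
    have hcard : Nat.card K ≠ 1 := fun h => pp.hK1 (Subgroup.card_eq_one.mp h)
    obtain ⟨q, hq, hqK⟩ := Nat.exists_prime_and_dvd hcard
    have := Fact.mk hq
    have hqH : q ∣ Nat.card H := hqK.trans (Subgroup.card_dvd_of_le hKH)
    have hqσ := hKσH q hq hqK
    have hqκ : q ∉ Cfsg.kappa H := by rw [hkH]; exact Set.notMem_empty q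
    have hP1H : ¬ (∀ q : ℕ, q.Prime → q ∣ Nat.card H → q ∉ Cfsg.sigma H → q ∈ Cfsg.kappa H) :=
      fun h => hqκ (h q hq hqH hqσ)
    obtain ⟨S⟩ : Nonempty (Sylow q H) := inferInstance
    exact (f.t1429 H hH hP1H q hqH (by rintro (h | h); exact hqσ h; exact hqκ h) S).2.2
  have hHσ1 : Cfsg.sigmaCore H ≠ ⊥ :=
    Cfsg.Agent.Helper95.BG15.FitSigma.sigmaCore_ne_bot pp.hG hUq hH (f.t1350 H hH).1
  exact { toPP := pp, hH := hH, hUab := hUab, hUH := hUH, hKH := hKH, hHM := hHM, hHMs := hHMs,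
          hkH := hkH, hCU := hCU, hMnil := hMnil, hUσ := hUσ, hUσs := hUσs, hKσH := hKσH,
          hKMs := hKMs, hHnil := hHnil, hHσ1 := hHσ1 }

end Cfsg.Agent.Helper73.BG161
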