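import Mathlib
import Cfsg.Agent.Lib.Helper73.BG161Base
import Cfsg.Agent.Lib.Helper22.BG11W2
import Cfsg.Agent.Lib.Helper23.FittingHall

/-!
# B–G Lemma 16.1 (S1435, helper73): assembly of the complement statement

`H ∩ M*` is a complement of `H_σ` in `H`, from the two cases (C2) "some element of a complement
`E ≥ K` has a fixed point on `H_σ`" and (C3) "`E` acts fixed-point-freely on `H_σ`".
-/

set_option autoImplicit false

namespace Cfsg.Agent.Helper73.BG161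

open Subgroup

variable {G : Type*} [Group G] [Finite G]

/-- `|H_σ|` and `|K|` are coprime. -/
theorem coprime_sigmaCore_K {M K U Mstar H : Subgroup G} (b : Base M K U Mstar H) :
    (Nat.card (Cfsg.sigmaCore H)).Coprime (Nat.card K) := by
  by_contra hnc
  obtain ⟨p, hp, h1, h2⟩ := Nat.Prime.not_coprime_iff_dvd.mp hnc
  exact b.hKσH p hp h2 (Cfsg.Agent.Helper55.BGB.isPi_sigmaCore H p hp h1)

/-- a complement of `H_σ` in `H` is a `σ(H)'`-group. -/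
theorem compl_sigma' (f : Facts G) {H E : Subgroup G} (hH : IsCoatom H)
    (hE : Cfsg.IsComplIn E (Cfsg.sigmaCore H) H) {e : G} (he : e ∈ E) :
    ∀ p : ℕ, p.Prime → p ∣ orderOf e → p ∉ Cfsg.sigma H := by
  intro p hp hpe hpσ
  obtain ⟨hHall, -, -⟩ := f.t1350 H hH
  apply hHall.2.2 p hp hpσ
  have h1 := Cfsg.Agent.Helper23.card_of_isComplIn hE
  have h2 := Cfsg.Agent.Helper55.BGB.card_mul_relIndex hHall.1
  have h3 : (Cfsg.sigmaCore H).relIndex H = Nat.card E := by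
    have hpos : 0 < Nat.card (Cfsg.sigmaCore H) := Nat.card_pos
    apply Nat.eq_of_mul_eq_mul_left hpos
    rw [h2, h1, mul_comm]
  rw [h3]
  exact hpe.trans (Subgroup.orderOf_dvd_natCard _ he)

/-- (C4) assembly: `H ∩ M*` is a complement of `H_σ` in `H`. -/
theorem compl (f : Facts G) {M K U Mstar H : Subgroup G} (b : Base M K U Mstar H)
    (hC0 : Cfsg.sigmaCore H ⊓ Mstar = ⊥)
    (hC2 : ∀ e : G, e ∈ H → e ≠ 1 → (∀ p : ℕ, p.Prime → p ∣ orderOf e → p ∉ Cfsg.sigma H) →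
      Cfsg.sigmaCore H ⊓ centralizer ({e} : Set G) ≠ ⊥ →
      Cfsg.IsComplIn (H ⊓ Mstar) (Cfsg.sigmaCore H) H)
    (hC3 : ∀ E : Subgroup G, Cfsg.IsComplIn E (Cfsg.sigmaCore H) H → K ≤ E →
      (∀ e ∈ E, e ≠ 1 → Cfsg.sigmaCore H ⊓ centralizer ({e} : Set G) = ⊥) → E ≤ Mstar) :
    Cfsg.IsComplIn (H ⊓ Mstar) (Cfsg.sigmaCore H) H := by
  obtain ⟨hHall, -, -⟩ := f.t1350 H b.hH
  obtain ⟨E0, hE0⟩ := Cfsg.Agent.Helper55.BGB.exists_compl_sigmaCore hHall
  have hsolK : Group.IsSolvable K :=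
    b.hG.2.2.2 K (fun h => b.hH.1 (top_le_iff.mp (h ▸ b.hKH)))
  obtain ⟨E, hE, hKE⟩ := Cfsg.Agent.Helper22.BG11.exists_compl_ge E0 hE0
    (Cfsg.Agent.Helper55.BGB.le_normalizer_sigmaCore H) b.hKH (Or.inr hsolK)
    (coprime_sigmaCore_K b)
  by_cases hfpf : ∀ e ∈ E, e ≠ 1 → Cfsg.sigmaCore H ⊓ centralizer ({e} : Set G) = ⊥
  · have hEM : E ≤ Mstar := hC3 E hE hKE hfpf
    refine ⟨inf_le_left, hHall.1, ?_, ?_⟩
    · rw [eq_bot_iff, ← hC0]
      exact le_inf inf_le_right (inf_le_left.trans inf_le_right)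
    · intro h hh
      obtain ⟨a, ha, s, hs, rfl⟩ := hE.2.2.2 h hh
      exact ⟨a, ⟨hE.1 ha, hEM ha⟩, s, hs, rfl⟩
  · push Not at hfpf
    obtain ⟨e, he, he1, hfix⟩ := hfpf
    exact hC2 e (hE.1 he) he1 (compl_sigma' f b.hH hE he) hfix

end Cfsg.Agent.Helper73.BG161
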