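import Mathlib
import Cfsg.Prelude.Def_Characters
import Cfsg.Prelude.Def_Blocks
import Cfsg.Agent.Lib.Helper80.RMKDefs
import Cfsg.Agent.S4341

/-!
# RMK piece (GT1) for helper80's S4581 server.
-/

set_option autoImplicit false
set_option linter.style.haveILetI false

namespace Cfsg.Agent.Helper73.RMK

open Cfsg Cfsg.Agent.Helper80 Cfsg.Agent.Helper80.RMK
open scoped ComplexConjugate

universe u

/-- (GT1) normalizers of Sylow subgroups map onto normalizers in quotients -/
theorem normalizer_map_eq {G : Type u} [Group G] [Finite G] (p : ℕ) [Fact p.Prime]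
    (M : Subgroup G) [M.Normal] (P : Sylow p G) :
    Subgroup.normalizer (((P.mapSurjective (QuotientGroup.mk'_surjective M) :
        Sylow p (G ⧸ M)) : Subgroup (G ⧸ M)) : Set (G ⧸ M)) =
      (Subgroup.normalizer ((P : Subgroup G) : Set G)).map (QuotientGroup.mk' M) := by
  rw [Sylow.coe_mapSurjective]
  exact Cfsg.Agent.S4341.normalizer_map_mk' P M

end Cfsg.Agent.Helper73.RMK
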