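import Mathlib
import Cfsg.Prelude.Def_Characters
import Cfsg.Prelude.Def_Blocks
import Cfsg.Agent.Lib.Helper80.RMKDefs
import Cfsg.Agent.Lib.Helper73.RMKGT1
import Cfsg.Agent.Lib.Helper42.RMKISO
import Cfsg.Agent.Lib.Helper42.RMKKERQ

set_option autoImplicit false
set_option linter.style.haveILetI false

namespace Cfsg.Agent.Helper73.RMK

open Cfsg Cfsg.Agent.Helper80 Cfsg.Agent.Helper80.RMK
open scoped ComplexConjugate
open Cfsg.Agent.Helper42.RMK (cnt_congr cnt_quotient)

universe u

/-- first isomorphism theorem for the restriction of `mk' M` to a subgroup `N` -/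
noncomputable def quotSubgroupOfEquivMap {G : Type u} [Group G] (M : Subgroup G) [M.Normal]
    (N : Subgroup G) :
    (↥N ⧸ M.subgroupOf N) ≃* ↥(N.map (QuotientGroup.mk' M)) :=
  let f : ↥N →* G ⧸ M := (QuotientGroup.mk' M).comp N.subtype
  have h1 : M.subgroupOf N = f.ker := by
    ext x
    rw [Subgroup.mem_subgroupOf, MonoidHom.mem_ker]
    simp only [f, MonoidHom.comp_apply, Subgroup.coe_subtype, QuotientGroup.mk'_apply]
    exact (QuotientGroup.eq_one_iff _).symm
  have h2 : f.range = N.map (QuotientGroup.mk' M) := by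
    ext y
    simp only [f, MonoidHom.mem_range, Subgroup.mem_map, MonoidHom.comp_apply,
      Subgroup.coe_subtype]
    constructor
    · rintro ⟨x, rfl⟩
      exact ⟨x, x.2, rfl⟩
    · rintro ⟨x, hx, rfl⟩
      exact ⟨⟨x, hx⟩, rfl⟩
  (QuotientGroup.quotientMulEquivOfEq h1).trans
    ((QuotientGroup.quotientKerEquivRange f).trans (MulEquiv.subgroupCongr h2))

/-- (QN) -/
theorem cnt_normalizer_quotient (r : Bool) {G : Type u} [Group G] [Finite G]
    (M : Subgroup G) [M.Normal] (P : Sylow 2 G) :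
    cnt r ↥(Subgroup.normalizer (((P.mapSurjective (QuotientGroup.mk'_surjective M) :
        Sylow 2 (G ⧸ M)) : Subgroup (G ⧸ M)) : Set (G ⧸ M))) =
      Nat.card {ψ : IrrCharacter ↥(Subgroup.normalizer ((P : Subgroup G) : Set G)) //
        Good r ψ ∧ ∀ k : ↥(Subgroup.normalizer ((P : Subgroup G) : Set G)), (k : G) ∈ M →
          (ψ : ↥(Subgroup.normalizer ((P : Subgroup G) : Set G)) → ℂ) k =
            (ψ : ↥(Subgroup.normalizer ((P : Subgroup G) : Set G)) → ℂ) 1} := by
  have hN := normalizer_map_eq 2 M P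
  have e1 : ↥(Subgroup.normalizer (((P.mapSurjective (QuotientGroup.mk'_surjective M) :
        Sylow 2 (G ⧸ M)) : Subgroup (G ⧸ M)) : Set (G ⧸ M))) ≃*
      ↥((Subgroup.normalizer ((P : Subgroup G) : Set G)).map (QuotientGroup.mk' M)) :=
    MulEquiv.subgroupCongr hN
  rw [cnt_congr r e1,
    ← cnt_congr r (quotSubgroupOfEquivMap M (Subgroup.normalizer ((P : Subgroup G) : Set G))),
    ← cnt_quotient r (M.subgroupOf (Subgroup.normalizer ((P : Subgroup G) : Set G)))]
  apply Nat.card_congr
  apply Equiv.subtypeEquivRight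
  intro ψ
  simp only [Subgroup.mem_subgroupOf]

end Cfsg.Agent.Helper73.RMK
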