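import Mathlib
import Cfsg.Prelude.Def_Characters
import Cfsg.Prelude.Def_Blocks
import Cfsg.Agent.Lib.Helper80.RMKDefs
import Cfsg.Agent.Lib.Helper73.RMKGT1

/-!
# RMK piece (QNS) for helper80's S4581 server.
-/

set_option autoImplicit false
set_option linter.style.haveILetI false

namespace Cfsg.Agent.Helper73.RMK

open Cfsg Cfsg.Agent.Helper80 Cfsg.Agent.Helper80.RMK
open scoped ComplexConjugate

universe u

/-- (QNS) self-normalizing passes to quotients -/
theorem self_normalizing_quotient {G : Type u} [Group G] [Finite G]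
    (M : Subgroup G) [M.Normal] (P : Sylow 2 G)
    (hself : Subgroup.normalizer ((P : Subgroup G) : Set G) = (P : Subgroup G)) :
    Subgroup.normalizer (((P.mapSurjective (QuotientGroup.mk'_surjective M) :
        Sylow 2 (G ⧸ M)) : Subgroup (G ⧸ M)) : Set (G ⧸ M)) =
      ((P.mapSurjective (QuotientGroup.mk'_surjective M) : Sylow 2 (G ⧸ M)) :
        Subgroup (G ⧸ M)) := by
  rw [normalizer_map_eq 2 M P, hself, Sylow.coe_mapSurjective]

end Cfsg.Agent.Helper73.RMK
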