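import Mathlib
import Cfsg.Prelude.Def_Local
import Cfsg.Agent.Lib.Helper34.PPrimeCore
import Cfsg.Agent.Lib.Helper73.CyclicSylowSimple

set_option autoImplicit false

namespace Cfsg.Agent.Helper73

variable {G : Type*} [Group G]

/-- a generator of a cyclic subgroup, as an element of the ambient group -/
lemma exists_zpowers_eq (H : Subgroup G) (hH : IsCyclic ↥H) : ∃ x ∈ H, Subgroup.zpowers x = H := by
  obtain ⟨x0, hx0⟩ := hH.exists_generator
  refine ⟨x0, x0.2, le_antisymm (Subgroup.zpowers_le.2 x0.2) ?_⟩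
  intro y hy
  obtain ⟨i, hi⟩ := Subgroup.mem_zpowers_iff.1 (hx0 ⟨y, hy⟩)
  have := congrArg Subtype.val hi
  simp only [Subgroup.coe_zpow] at this
  rw [← this]
  exact Subgroup.zpow_mem _ (Subgroup.mem_zpowers _) i

/-- Burnside's hypothesis for a cyclic Sylow subgroup, from a congruence condition. -/
theorem normalizer_le_centralizer_of_modEq [Finite G] {p : ℕ} [hp : Fact p.Prime] (P : Sylow p G)
    (x : G) (hx : Subgroup.zpowers x = (P : Subgroup G))
    (H : ∀ g ∈ Subgroup.normalizer ((P : Subgroup G) : Set G), ∀ k : ℕ,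
      g * x * g⁻¹ = x ^ k → k ≡ 1 [MOD p]) :
    Subgroup.normalizer ((P : Subgroup G) : Set G) ≤ Subgroup.centralizer ((P : Subgroup G) : Set G) := by
  intro g hg
  have hxP : x ∈ (P : Subgroup G) := hx ▸ Subgroup.mem_zpowers x
  have h1 : g * x * g⁻¹ ∈ (P : Subgroup G) := (Subgroup.mem_normalizer_iff.1 hg x).1 hxP
  rw [← hx, ← mem_powers_iff_mem_zpowers] at h1
  obtain ⟨k, hk⟩ := h1
  have hk' : g * x * g⁻¹ = x ^ k := hk.symm
  have h2 := conj_eq_self_of_modEq_one P x g hx hg k hk' (H g hg k hk')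
  have hgx : g * x = x * g := by
    have := congrArg (· * g) h2
    simpa using this
  rw [Subgroup.mem_centralizer_iff]
  intro y hy
  rw [SetLike.mem_coe, ← hx] at hy
  obtain ⟨i, rfl⟩ := Subgroup.mem_zpowers_iff.1 hy
  exact ((Commute.zpow_right (show Commute g x from hgx) i).eq).symm

/-- If a finite group `G` with trivial `O_{p'}` and a cyclic Sylow `p`-subgroup `P` has a normal
subgroup `N` of order `p`, then `C_G(N) = P`. -/
theorem centralizer_eq_sylow_of_normal_prime [Finite G] {p : ℕ} [hp : Fact p.Prime]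
    (hO : Cfsg.pPrimeCore p G = ⊥) (P : Sylow p G) (hP : IsCyclic ↥(P : Subgroup G))
    (N : Subgroup G) [hNn : N.Normal] (hNcard : Nat.card ↥N = p) :
    Subgroup.centralizer (N : Set G) = (P : Subgroup G) := by
  have hNP : N ≤ (P : Subgroup G) :=
    IsPGroup.le_sylow_of_normal (IsPGroup.of_card (n := 1) (by simpa using hNcard)) P
  obtain ⟨x, hxP, hx⟩ := exists_zpowers_eq (P : Subgroup G) hP
  have hPcomm : ∀ a ∈ (P : Subgroup G), ∀ b ∈ (P : Subgroup G), a * b = b * a := by
    intro a ha b hb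
    rw [← hx] at ha hb
    obtain ⟨i, rfl⟩ := Subgroup.mem_zpowers_iff.1 ha
    obtain ⟨j, rfl⟩ := Subgroup.mem_zpowers_iff.1 hb
    rw [← zpow_add, ← zpow_add, add_comm]
  set C := Subgroup.centralizer (N : Set G) with hC
  have hCn : C.Normal := Subgroup.normal_centralizer
  have hPC : (P : Subgroup G) ≤ C := by
    intro u hu
    rw [hC, Subgroup.mem_centralizer_iff]
    intro n hn
    exact hPcomm n (hNP hn) u hu
  let PC : Sylow p ↥C := P.subtype hPC
  have hPCcoe : (PC : Subgroup ↥C) = (P : Subgroup G).subgroupOf C := Sylow.coe_subtype P hPC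
  let xC : ↥C := ⟨x, hPC hxP⟩
  have hxC : Subgroup.zpowers xC = (PC : Subgroup ↥C) := by
    rw [hPCcoe]
    ext y
    rw [Subgroup.mem_subgroupOf, ← hx, Subgroup.mem_zpowers_iff, Subgroup.mem_zpowers_iff]
    constructor
    · rintro ⟨i, rfl⟩; exact ⟨i, by simp [xC]⟩
    · rintro ⟨i, hi⟩; exact ⟨i, Subtype.ext (by simpa [xC] using hi)⟩
  -- an element of order p in N
  obtain ⟨y, hyN, hy⟩ := exists_mem_orderOf_eq p N (by rw [hNcard])
  have hyP : y ∈ Subgroup.zpowers x := hx ▸ hNP hyN
  rw [← mem_powers_iff_mem_zpowers] at hyP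
  obtain ⟨i, hi⟩ := hyP
  have hi : x ^ i = y := hi
  have hBurn : Subgroup.normalizer ((PC : Subgroup ↥C) : Set ↥C) ≤
      Subgroup.centralizer ((PC : Subgroup ↥C) : Set ↥C) := by
    apply normalizer_le_centralizer_of_modEq PC xC hxC
    intro g hg k hk
    have hk' : (g : G) * x * (g : G)⁻¹ = x ^ k := by
      have := congrArg Subtype.val hk
      simpa [xC] using this
    have hgy : (g : G) * y * (g : G)⁻¹ = y := by
      have h0 : (g : G) ∈ Subgroup.centralizer (N : Set G) := g.2
      rw [Subgroup.mem_centralizer_iff] at h0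
      rw [← h0 y hyN, mul_assoc, mul_inv_cancel, mul_one]
    have h3 : y ^ k = y ^ 1 := by
      rw [pow_one]
      nth_rewrite 2 [← hgy]
      rw [← hi, ← conj_pow, hk', ← pow_mul, ← pow_mul, mul_comm]
    have := pow_eq_pow_iff_modEq.1 h3
    rwa [hy] at this
  have hnd := MonoidHom.not_dvd_card_ker_transferSylow PC hBurn
  set f := MonoidHom.transferSylow PC hBurn with hf
  have hker : f.ker = ⊥ := by
    have hsub : (f.ker.map C.subtype).IsSubnormal :=
      Subgroup.IsSubnormal.trans' (Subgroup.Normal.isSubnormal inferInstance)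
        (Subgroup.Normal.isSubnormal hCn)
    have hcard : Nat.card ↥(f.ker.map C.subtype) = Nat.card ↥f.ker :=
      Subgroup.card_map_of_injective C.subtype_injective
    have hc : (Nat.card ↥(f.ker.map C.subtype)).Coprime p := by
      rw [hcard]
      exact Nat.coprime_comm.1 ((Nat.Prime.coprime_iff_not_dvd hp.out).2 hnd)
    have := Cfsg.Agent.Helper34.IsSubnormal.le_pPrimeCore hsub hc
    rw [hO, le_bot_iff, Subgroup.map_eq_bot_iff_of_injective _ C.subtype_injective] at this
    exact this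
  have hinj : Function.Injective f := (MonoidHom.ker_eq_bot_iff f).1 hker
  have hCp : IsPGroup p ↥C := IsPGroup.of_injective PC.isPGroup' f hinj
  exact le_antisymm (IsPGroup.le_sylow_of_normal hCp P) hPC

end Cfsg.Agent.Helper73
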