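import Mathlib
import Cfsg.Prelude.Def_Local
import Cfsg.Agent.Lib.Helper73.CyclicSylowBurnside

set_option autoImplicit false

namespace Cfsg.Agent.Helper73

variable {G : Type*} [Group G]

lemma zpowers_mk_eq_subgroupOf (H C : Subgroup G) (x : G) (hx : Subgroup.zpowers x = H)
    (hxC : x ∈ C) : Subgroup.zpowers (⟨x, hxC⟩ : ↥C) = H.subgroupOf C := by
  ext y
  rw [Subgroup.mem_subgroupOf, ← hx, Subgroup.mem_zpowers_iff, Subgroup.mem_zpowers_iff]
  constructor
  · rintro ⟨i, rfl⟩; exact ⟨i, by simp⟩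
  · rintro ⟨i, hi⟩; exact ⟨i, Subtype.ext (by simpa using hi)⟩

/-- A non-abelian simple normal subgroup of order divisible by `p` contains every cyclic Sylow
`p`-subgroup. -/
theorem sylow_le_of_simple_normal [Finite G] {p : ℕ} [hp : Fact p.Prime]
    (P : Sylow p G) (hP : IsCyclic ↥(P : Subgroup G))
    (N : Subgroup G) [hNn : N.Normal] (hNs : IsSimpleGroup ↥N) (hNc : ¬ IsMulCommutative ↥N)
    (hpN : p ∣ Nat.card ↥N) : (P : Subgroup G) ≤ N := by
  by_contra hPN
  obtain ⟨x, hxP, hx⟩ := exists_zpowers_eq (P : Subgroup G) hP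
  have hxN : x ∉ N := fun h => hPN (hx ▸ Subgroup.zpowers_le.2 h)
  have hPcomm : ∀ a ∈ (P : Subgroup G), ∀ b ∈ (P : Subgroup G), a * b = b * a := by
    intro a ha b hb
    rw [← hx] at ha hb
    obtain ⟨i, rfl⟩ := Subgroup.mem_zpowers_iff.1 ha
    obtain ⟨j, rfl⟩ := Subgroup.mem_zpowers_iff.1 hb
    rw [← zpow_add, ← zpow_add, add_comm]
  set G1 := N ⊔ (P : Subgroup G) with hG1
  have hPG1 : (P : Subgroup G) ≤ G1 := le_sup_right
  have hNG1 : N ≤ G1 := le_sup_left
  let P1 : Sylow p ↥G1 := P.subtype hPG1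
  have hP1coe : (P1 : Subgroup ↥G1) = (P : Subgroup G).subgroupOf G1 := Sylow.coe_subtype P hPG1
  let x1 : ↥G1 := ⟨x, hPG1 hxP⟩
  have hx1 : Subgroup.zpowers x1 = (P1 : Subgroup ↥G1) := by
    rw [hP1coe]; exact zpowers_mk_eq_subgroupOf _ _ x hx _
  obtain ⟨n, hn⟩ := IsPGroup.iff_card.1 P.isPGroup'
  have hox : orderOf x = p ^ n := by
    rw [← Nat.card_zpowers, hx]; exact hn
  have hBurn : Subgroup.normalizer ((P1 : Subgroup ↥G1) : Set ↥G1) ≤
      Subgroup.centralizer ((P1 : Subgroup ↥G1) : Set ↥G1) := by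
    apply normalizer_le_centralizer_of_modEq P1 x1 hx1
    intro g hg k hk
    have hk' : (g : G) * x * (g : G)⁻¹ = x ^ k := by
      have := congrArg Subtype.val hk
      simpa [x1] using this
    -- the commutator lies in N
    have hcomm : (g : G) * x * (g : G)⁻¹ * x⁻¹ ∈ N := by
      obtain ⟨a, ha, u, hu, hau⟩ := Subgroup.mem_sup_of_normal_left.1 g.2
      rw [← hau]
      have h1 : a * u * x * (a * u)⁻¹ * x⁻¹ = a * (u * x * u⁻¹) * a⁻¹ * x⁻¹ := by group
      have h2 : u * x * u⁻¹ = x := by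
        rw [hPcomm u hu x hxP, mul_assoc, mul_inv_cancel, mul_one]
      rw [h1, h2]
      have h3 : a * x * a⁻¹ * x⁻¹ = a * (x * a⁻¹ * x⁻¹) := by group
      rw [h3]
      exact N.mul_mem ha (hNn.conj_mem _ (N.inv_mem ha) x)
    rw [hk'] at hcomm
    by_contra hk1
    rcases Nat.eq_zero_or_pos k with hk0 | hk0
    · subst hk0
      rw [pow_zero, one_mul] at hcomm
      exact hxN (by simpa using N.inv_mem hcomm)
    · have hz : x ^ k * x⁻¹ = x ^ (k - 1) := by
        obtain ⟨k', rfl⟩ : ∃ k', k = k' + 1 := ⟨k - 1, by omega⟩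
        rw [pow_succ, mul_assoc, mul_inv_cancel, mul_one, Nat.add_sub_cancel]
      rw [hz] at hcomm
      have hndvd : ¬ p ∣ k - 1 := by
        intro hd
        apply hk1
        exact ((Nat.modEq_iff_dvd' hk0).2 hd).symm
      have hcop : (orderOf x).Coprime (k - 1) := by
        rw [hox]
        exact Nat.Coprime.pow_left _ ((Nat.Prime.coprime_iff_not_dvd hp.out).2 hndvd)
      have hoz : orderOf (x ^ (k - 1)) = orderOf x := hcop.orderOf_pow
      have hzp : Subgroup.zpowers (x ^ (k - 1)) = Subgroup.zpowers x := by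
        have : Finite ↥(Subgroup.zpowers x) := by
          rw [hx]; infer_instance
        apply Subgroup.eq_of_le_of_card_ge
        · exact Subgroup.zpowers_le.2 (Subgroup.pow_mem _ (Subgroup.mem_zpowers x) _)
        · rw [Nat.card_zpowers, Nat.card_zpowers, hoz]
      have : x ∈ Subgroup.zpowers (x ^ (k - 1)) := hzp ▸ Subgroup.mem_zpowers x
      exact hxN ((Subgroup.zpowers_le.2 hcomm) this)
  have hnd := MonoidHom.not_dvd_card_ker_transferSylow P1 hBurn
  set f := MonoidHom.transferSylow P1 hBurn with hf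
  let φ : ↥N →* ↥(P1 : Subgroup ↥G1) := f.comp (Subgroup.inclusion hNG1)
  rcases (φ.normal_ker).eq_bot_or_eq_top with hker | hker
  · -- φ injective, so N is commutative
    have hinj : Function.Injective φ := (MonoidHom.ker_eq_bot_iff φ).1 hker
    apply hNc
    rw [isMulCommutative_iff]
    intro a b
    apply hinj
    rw [map_mul, map_mul]
    have h1 : ((φ a : ↥(P1 : Subgroup ↥G1)) : ↥G1) ∈ (P : Subgroup G).subgroupOf G1 :=
      hP1coe ▸ (φ a).2
    have h2 : ((φ b : ↥(P1 : Subgroup ↥G1)) : ↥G1) ∈ (P : Subgroup G).subgroupOf G1 :=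
      hP1coe ▸ (φ b).2
    rw [Subgroup.mem_subgroupOf] at h1 h2
    apply Subtype.ext
    apply Subtype.ext
    simp only [Subgroup.coe_mul]
    exact hPcomm _ h1 _ h2
  · -- N ≤ ker f, so p ∣ |ker f|
    apply hnd
    have hle : ∀ a : ↥N, Subgroup.inclusion hNG1 a ∈ f.ker := by
      intro a
      have : a ∈ φ.ker := by rw [hker]; exact Subgroup.mem_top a
      exact this
    let ι : ↥N →* ↥f.ker := (Subgroup.inclusion hNG1).codRestrict f.ker hle
    have hιinj : Function.Injective ι := by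
      intro a b hab
      have := congrArg (fun z : ↥f.ker => ((z : ↥G1) : G)) hab
      exact Subtype.ext (by simpa [ι] using this)
    exact hpN.trans (Subgroup.card_dvd_of_injective ι hιinj)

end Cfsg.Agent.Helper73
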