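import Mathlib
import Cfsg.Prelude.Def_FusionSystem
import Cfsg.Agent.Lib.Helper85.Realized
import Cfsg.Agent.Lib.Helper85.FactorSystem
import Cfsg.Agent.Lib.Helper87.FusionNormal
import Cfsg.Agent.Lib.Helper87.FusionSaturated
import Cfsg.Agent.Lib.Helper87.FusionAut

set_option autoImplicit false

/-!
# The fusion system pulled back along an injective homomorphism into a group

For an injective `ι : S →* G` the maps `φ : P → S` that become conjugations of `G` when read
through `ι` form a fusion system over `S`, realized by `ι`.  If the image is a Sylow `p`-subgroup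
of a finite `G`, the system is saturated.  We use it to produce saturated fusion systems in which
`S` is not normal.
-/

namespace Cfsg.Agent.Helper73.PullbackSys

open Cfsg Cfsg.FusionSystem Cfsg.Agent.Helper87 Cfsg.Agent.Helper85

variable {Ω : Type*} [Group Ω] {S : Subgroup Ω} {G : Type*} [Group G]

/-- the fusion system over `S` induced by `G` through the injective homomorphism `ι` -/
def pullSysOf (ι : S →* G) (hinj : Function.Injective ι) : FusionSystem S where
  Hom P := {φ | ∃ (hP : P ≤ S) (hφ : ∀ x : P, φ x ∈ S), ∃ g : G, ∀ x : P,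
    ι ⟨φ x, hφ x⟩ = g * ι ⟨x, hP x.2⟩ * g⁻¹}
  le_of_mem := by
    rintro P φ ⟨hP, hφ, -⟩
    exact ⟨hP, hφ⟩
  injective_of_mem := by
    rintro P φ ⟨hP, hφ, g, hg⟩ a b hab
    have h1 : ι ⟨φ a, hφ a⟩ = ι ⟨φ b, hφ b⟩ := by
      congr 1
      exact Subtype.ext hab
    rw [hg a, hg b] at h1
    have h2 : ι ⟨a, hP a.2⟩ = ι ⟨b, hP b.2⟩ := mul_left_cancel (mul_right_cancel h1)
    have h3 := hinj h2
    have h4 : (a : Ω) = b := Subtype.mk.inj h3
    exact Subtype.ext h4
  conj_mem := by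
    intro P s hP hs
    have hmem : ∀ x : P, conjHom P s x ∈ S := by
      intro x
      show s * (x : Ω) * s⁻¹ ∈ S
      exact S.mul_mem (S.mul_mem hs (hP x.2)) (S.inv_mem hs)
    refine ⟨hP, hmem, ι ⟨s, hs⟩, fun x => ?_⟩
    rw [← map_inv, ← map_mul, ← map_mul]
    rfl
  comp_mem := by
    rintro P Q φ ψ ⟨hP, hφ, g, hg⟩ ⟨hQ, hψ, k, hk⟩ h
    refine ⟨hP, fun x => hψ _, k * g, fun x => ?_⟩
    have h1 := hk (φ.codRestrict Q h x)
    have h2 := hg x
    show ι ⟨ψ (φ.codRestrict Q h x), _⟩ = k * g * ι ⟨x, hP x.2⟩ * (k * g)⁻¹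
    rw [h1]
    have h3 : ι ⟨((φ.codRestrict Q h x : Q) : Ω), hQ (φ.codRestrict Q h x).2⟩ = ι ⟨φ x, hφ x⟩ := rfl
    rw [h3, h2, mul_inv_rev]
    simp only [mul_assoc]
  inv_mem := by
    rintro P φ ⟨hP, hφ, g, hg⟩
    have hφinj : Function.Injective φ := by
      intro a b hab
      have h1 : ι ⟨φ a, hφ a⟩ = ι ⟨φ b, hφ b⟩ := by
        congr 1
        exact Subtype.ext hab
      rw [hg a, hg b] at h1
      have h2 : ι ⟨a, hP a.2⟩ = ι ⟨b, hP b.2⟩ := mul_left_cancel (mul_right_cancel h1)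
      have h4 : (a : Ω) = b := Subtype.mk.inj (hinj h2)
      exact Subtype.ext h4
    let ψ : φ.range →* Ω := P.subtype.comp (MonoidHom.ofInjective hφinj).symm.toMonoidHom
    have hψ : ∀ x : P, ψ ⟨φ x, ⟨x, rfl⟩⟩ = (x : Ω) := by
      intro x
      show (((MonoidHom.ofInjective hφinj).symm ⟨φ x, ⟨x, rfl⟩⟩ : P) : Ω) = x
      have : (⟨φ x, ⟨x, rfl⟩⟩ : φ.range) = MonoidHom.ofInjective hφinj x := rfl
      rw [this, MulEquiv.symm_apply_apply]
    have hrS : φ.range ≤ S := by
      rintro _ ⟨x, rfl⟩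
      exact hφ x
    refine ⟨ψ, ⟨hrS, ?_, g⁻¹, ?_⟩, hψ⟩
    · rintro ⟨_, x, rfl⟩
      rw [hψ x]
      exact hP x.2
    · rintro ⟨_, x, rfl⟩
      have h1 : ι ⟨ψ ⟨φ x, ⟨x, rfl⟩⟩, by rw [hψ x]; exact hP x.2⟩ = ι ⟨x, hP x.2⟩ := by
        congr 1
        exact Subtype.ext (hψ x)
      rw [h1]
      show ι ⟨x, hP x.2⟩ = g⁻¹ * ι ⟨φ x, hφ x⟩ * g⁻¹⁻¹
      rw [hg x, inv_inv]
      simp only [mul_assoc, inv_mul_cancel, mul_one, inv_mul_cancel_left]

theorem pullSysOf_realized (ι : S →* G) (hinj : Function.Injective ι) :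
    (pullSysOf ι hinj).IsRealizedBy ι := by
  refine ⟨hinj, fun P hP φ hφ => ⟨?_, ?_⟩⟩
  · rintro ⟨hP', hφ', g, hg⟩
    exact ⟨g, hg⟩
  · rintro ⟨g, hg⟩
    exact ⟨hP, hφ, g, hg⟩

/-- A finite group `G` with Sylow `p`-subgroup `T ≅ S`, in which some element `g` normalizes a
subgroup `R ≤ T`, acts on it nontrivially, and with `g ^ k` centralizing `R` for some `k` prime
to `p`, gives a saturated fusion system over `S` in which `S` is not normal, provided `Aut(S)` is a
`p`-group. -/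
theorem exists_saturated_not_normal [Finite S] {p : ℕ} [Fact p.Prime] [Finite G]
    (T : Sylow p G) (e : S ≃* (T : Subgroup G)) (hAut : IsPGroup p (MulAut S))
    (R : Subgroup G) (hRT : R ≤ T) (g : G) (k : ℕ) (hk : k.Coprime p)
    (hgR : ∀ r ∈ R, g * r * g⁻¹ ∈ R) (hgk : ∀ r ∈ R, g ^ k * r * (g ^ k)⁻¹ = r)
    (r₀ : G) (hr₀ : r₀ ∈ R) (hne : g * r₀ * g⁻¹ ≠ r₀) :
    ∃ F : FusionSystem S, F.IsSaturated p ∧ ¬ F.IsNormal S := by
  classical
  set ι : S →* G := (T : Subgroup G).subtype.comp e.toMonoidHom with hι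
  have hinj : Function.Injective ι := by
    intro a b hab
    exact e.injective (Subtype.ext hab)
  have hrange : ι.range = (T : Subgroup G) := by
    ext y
    constructor
    · rintro ⟨s, rfl⟩
      exact (e s).2
    · intro hy
      exact ⟨e.symm ⟨y, hy⟩, by simp [hι]⟩
  have hreal := pullSysOf_realized ι hinj
  refine ⟨pullSysOf ι hinj, realized_saturated hreal T hrange.symm, fun hn => ?_⟩
  set F := pullSysOf ι hinj
  -- the subgroup of `S` corresponding to `R`
  set P : Subgroup Ω := FusionSystem.preimageAlong ι R with hP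
  have hPS : P ≤ S := preimageAlong_le ι R
  have hPmem : ∀ x ∈ P, au ι x ∈ R := by
    intro x hx
    obtain ⟨hxS, hx'⟩ := mem_preimageAlong.1 hx
    rw [au_mem ι hxS]
    exact hx'
  -- the map induced by `g`
  let f : Ω → Ω := fun x => au (backHom ι hinj) (g * au ι x * g⁻¹)
  have hfS : ∀ x, f x ∈ S := fun x => au_backHom_mem ι hinj _
  have hconj_range : ∀ x ∈ P, g * au ι x * g⁻¹ ∈ ι.range := by
    intro x hx
    rw [hrange]
    exact hRT (hgR _ (hPmem x hx))
  have hf : Mor F P f := by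
    rw [realized_mor_iff hreal]
    refine ⟨hPS, fun x _ => hfS x, g, fun x hx => ?_⟩
    exact au_au_back ι hinj (hconj_range x hx)
  obtain ⟨h, hh, hhf⟩ := isNormal_top_iff.1 hn P f hf
  have hiso : Iso F S S h := iso_of_card_le hh le_rfl (fun n hn => hh.mem hn) le_rfl
  set α : MulAut S := hiso.equiv with hα
  have hαapp : ∀ x : S, ((α x : S) : Ω) = h x := fun x => hiso.equiv_apply x
  -- `α` maps `P` into `P`, acting as conjugation by `g`
  have hfP : ∀ x ∈ P, f x ∈ P ∧ au ι (f x) = g * au ι x * g⁻¹ := by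
    intro x hx
    have h1 : au ι (f x) = g * au ι x * g⁻¹ := au_au_back ι hinj (hconj_range x hx)
    refine ⟨mem_preimageAlong.2 ⟨hfS x, ?_⟩, h1⟩
    rw [← au_mem ι (hfS x), h1]
    exact hgR _ (hPmem x hx)
  -- iterate
  have hiter : ∀ n : ℕ, ∀ x : S, (x : Ω) ∈ P →
      (((α ^ n) x : S) : Ω) ∈ P ∧ au ι (((α ^ n) x : S) : Ω) = g ^ n * au ι x * (g ^ n)⁻¹ := by
    intro n
    induction n with
    | zero =>
      intro x hx
      simp [hx]
    | succ n ih =>
      intro x hx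
      obtain ⟨h1, h2⟩ := ih x hx
      have h3 : (α ^ (n + 1)) x = α ((α ^ n) x) := by
        rw [pow_succ']
        rfl
      rw [h3, hαapp, hhf _ h1]
      obtain ⟨h4, h5⟩ := hfP _ h1
      refine ⟨h4, ?_⟩
      rw [h5, h2, pow_succ', mul_inv_rev]
      simp only [mul_assoc]
  -- the order of `α` is a power of `p`
  obtain ⟨m, hm⟩ := hAut α
  -- `α ^ k` fixes the elements of `P`
  have hαk : ∀ x : S, (x : Ω) ∈ P → (α ^ k) x = x := by
    intro x hx
    obtain ⟨h1, h2⟩ := hiter k x hx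
    rw [hgk _ (hPmem x hx)] at h2
    apply Subtype.ext
    exact au_injOn hinj ((α ^ k) x).2 x.2 h2
  -- so `α` fixes them
  have hcop : Nat.Coprime k (p ^ m) := Nat.Coprime.pow_right m hk
  have hαfix : ∀ x : S, (x : Ω) ∈ P → α x = x := by
    intro x hx
    obtain ⟨u, v, huv⟩ : ∃ u v : ℕ, k * u = p ^ m * v + 1 := by
      by_cases hpm : p ^ m = 1
      · refine ⟨1, k - 1, ?_⟩
        have hk0 : 0 < k := by
          rcases Nat.eq_zero_or_pos k with h0 | h0
          · rw [h0, Nat.coprime_zero_left] at hk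
            exact absurd hk (Fact.out : p.Prime).one_lt.ne'
          · exact h0
        rw [hpm]
        omega
      · have hgt : 1 < p ^ m := by
          have : 0 < p ^ m := pow_pos (Fact.out : p.Prime).pos m
          omega
        obtain ⟨u, -, hu⟩ := Nat.exists_mul_mod_eq_one_of_coprime hcop hgt
        refine ⟨u, k * u / p ^ m, ?_⟩
        have := Nat.div_add_mod (k * u) (p ^ m)
        omega
    have h1 : ∀ j : ℕ, ((α ^ k) ^ j) x = x := by
      intro j
      induction j with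
      | zero => simp
      | succ j ih =>
        rw [pow_succ']
        show (α ^ k) (((α ^ k) ^ j) x) = x
        rw [ih, hαk x hx]
    have h2 : α ^ (k * u) = α := by
      rw [huv, pow_succ, pow_mul, hm, one_pow, one_mul]
    have h3 := h1 u
    rw [← pow_mul, h2] at h3
    exact h3
  -- contradiction at `r₀`
  set x₀ : S := e.symm ⟨r₀, hRT hr₀⟩ with hx₀
  have hιx₀ : ι x₀ = r₀ := by
    show ((e (e.symm ⟨r₀, hRT hr₀⟩) : (T : Subgroup G)) : G) = r₀
    rw [MulEquiv.apply_symm_apply]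
  have hx₀P : (x₀ : Ω) ∈ P := by
    refine mem_preimageAlong.2 ⟨x₀.2, ?_⟩
    show ι x₀ ∈ R
    rw [hιx₀]
    exact hr₀
  obtain ⟨h1, h2⟩ := hiter 1 x₀ hx₀P
  rw [pow_one, hαfix x₀ hx₀P, pow_one, au_mem ι x₀.2] at h2
  have h3 : ι ⟨(x₀ : Ω), x₀.2⟩ = r₀ := hιx₀
  rw [h3] at h2
  exact hne h2.symm

end Cfsg.Agent.Helper73.PullbackSys
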