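import Mathlib

set_option autoImplicit false

/-!
# A quaternion group of `2 × 2` matrices and an element of order three normalizing it

Over a field in which `-1 = a² + b²` we write down matrices `I₀, J₀` generating a quaternion
group and `W₀ = (1 + I₀ + J₀ + I₀J₀)/2` permuting `I₀, J₀, I₀J₀` cyclically.  When `-1` is not
a square we also record that a square root of an involution is forced to be a square root
of `-1`.
-/

namespace Cfsg.Agent.Helper73.QuatMat

open Matrix

variable {F : Type*} [Field F]

/-- Cayley–Hamilton for `2 × 2` matrices -/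
theorem cayley_hamilton_two (A : Matrix (Fin 2) (Fin 2) F) :
    A * A = (A 0 0 + A 1 1) • A - (A.det) • (1 : Matrix (Fin 2) (Fin 2) F) := by
  ext i j
  fin_cases i <;> fin_cases j <;>
    simp [Matrix.mul_apply, Fin.sum_univ_two, Matrix.det_fin_two] <;> ring

/-- an involution other than `±1` has determinant `-1` -/
theorem det_eq_neg_one_of_sq_eq_one (A : Matrix (Fin 2) (Fin 2) F) (h : A * A = 1)
    (h1 : A ≠ 1) (h2 : A ≠ -1) : A.det = -1 := by
  have hch := cayley_hamilton_two A
  rw [h] at hch
  by_cases ht : A 0 0 + A 1 1 = 0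
  · rw [ht, zero_smul, zero_sub] at hch
    have h00 := congrFun (congrFun hch 0) 0
    simp at h00
    linear_combination h00
  · exfalso
    -- `A` is scalar
    obtain ⟨c, hA⟩ : ∃ c : F, A = c • (1 : Matrix (Fin 2) (Fin 2) F) := by
      refine ⟨(A 0 0 + A 1 1)⁻¹ * (1 + A.det), ?_⟩
      have h3 : (A 0 0 + A 1 1) • A = (1 + A.det) • (1 : Matrix (Fin 2) (Fin 2) F) := by
        rw [add_smul (1 : F) A.det, one_smul]
        rw [eq_sub_iff_add_eq] at hch
        exact hch.symm
      calc A = (A 0 0 + A 1 1)⁻¹ • ((A 0 0 + A 1 1) • A) := by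
            rw [smul_smul, inv_mul_cancel₀ ht, one_smul]
        _ = _ := by rw [h3, smul_smul]
    have hcc : c * c = 1 := by
      have h5 := h
      rw [hA] at h5
      have h6 := congrFun (congrFun h5 0) 0
      simpa [Matrix.mul_apply, Fin.sum_univ_two] using h6
    have hc' : c = 1 ∨ c = -1 := by
      have : (c - 1) * (c + 1) = 0 := by linear_combination hcc
      rcases mul_eq_zero.1 this with h7 | h7
      · left; linear_combination h7
      · right; linear_combination h7
    rcases hc' with h7 | h7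
    · apply h1
      rw [hA, h7, one_smul]
    · apply h2
      rw [hA, h7, neg_smul, one_smul]

/-- when `-1` is not a square, an involution which is a square is `-1` -/
theorem eq_neg_one_of_sq_of_sq (hns : ∀ c : F, c * c ≠ -1) (z u : Matrix (Fin 2) (Fin 2) F)
    (hzu : z = u * u) (hz : z * z = 1) (hz1 : z ≠ 1) : z = -1 := by
  by_contra hne
  have h1 := det_eq_neg_one_of_sq_eq_one z hz hz1 hne
  rw [hzu, Matrix.det_mul] at h1
  exact hns _ h1

/-- when `-1` is not a square, no scalar matrix squares to `-1` -/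
theorem scalar_sq_ne_neg_one (hns : ∀ c : F, c * c ≠ -1) (c : F) :
    (Matrix.scalar (Fin 2) c) * (Matrix.scalar (Fin 2) c) ≠ (-1 : Matrix (Fin 2) (Fin 2) F) := by
  intro h
  have h1 := congrFun (congrFun h 0) 0
  simp [Matrix.mul_apply, Fin.sum_univ_two] at h1
  exact hns c h1

theorem two_ne_zero_of_not_sq (hns : ∀ c : F, c * c ≠ -1) : (2 : F) ≠ 0 := by
  intro h
  apply hns 1
  linear_combination h

/-- in determinant one, the only involutions are `±1` -/
theorem eq_one_or_neg_one_of_det_one (hns : ∀ c : F, c * c ≠ -1) (A : Matrix (Fin 2) (Fin 2) F)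
    (hdet : A.det = 1) (h : A * A = 1) : A = 1 ∨ A = -1 := by
  by_contra hcon
  push Not at hcon
  have h1 := det_eq_neg_one_of_sq_eq_one A h hcon.1 hcon.2
  rw [hdet] at h1
  apply two_ne_zero_of_not_sq hns
  linear_combination h1

section Explicit

variable (a b : F)

/-- the matrix `i` -/
def I₀ : Matrix (Fin 2) (Fin 2) F := !![0, -1; 1, 0]

/-- the matrix `j` -/
def J₀ : Matrix (Fin 2) (Fin 2) F := !![a, b; b, -a]

/-- the matrix `(1 + i + j + ij)/2` -/
def W₀ : Matrix (Fin 2) (Fin 2) F :=
  !![(1 + a - b) / 2, (-1 + a + b) / 2; (1 + a + b) / 2, (1 - a + b) / 2]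

/-- the inverse of `W₀` -/
def W₀' : Matrix (Fin 2) (Fin 2) F :=
  !![(1 - a + b) / 2, (1 - a - b) / 2; (-1 - a - b) / 2, (1 + a - b) / 2]

theorem I₀_mul_self : (I₀ : Matrix (Fin 2) (Fin 2) F) * I₀ = -1 := by
  ext i j
  fin_cases i <;> fin_cases j <;> simp [I₀, Matrix.mul_apply, Fin.sum_univ_two]

theorem det_I₀ : (I₀ : Matrix (Fin 2) (Fin 2) F).det = 1 := by
  simp [I₀, Matrix.det_fin_two]

variable {a b}

theorem J₀_mul_self (hab : a * a + b * b = -1) : J₀ a b * J₀ a b = -1 := by
  ext i j
  fin_cases i <;> fin_cases j <;> simp [J₀, Matrix.mul_apply, Fin.sum_univ_two] <;>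
    first | ring1 | linear_combination hab | linear_combination -hab

theorem det_J₀ (hab : a * a + b * b = -1) : (J₀ a b).det = 1 := by
  simp [J₀, Matrix.det_fin_two]
  linear_combination -hab

theorem J₀_mul_I₀ : J₀ a b * I₀ = -(I₀ * J₀ a b) := by
  ext i j
  fin_cases i <;> fin_cases j <;> simp [I₀, J₀, Matrix.mul_apply, Fin.sum_univ_two]

theorem W₀_mul_W₀' (h2 : (2 : F) ≠ 0) (hab : a * a + b * b = -1) : W₀ a b * W₀' a b = 1 := by
  ext i j
  fin_cases i <;> fin_cases j <;> simp [W₀, W₀', Matrix.mul_apply, Fin.sum_univ_two] <;>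
    field_simp <;> first | ring1 | linear_combination hab | linear_combination -hab | linear_combination (2 : F) * hab | linear_combination (-2 : F) * hab

theorem W₀'_mul_W₀ (h2 : (2 : F) ≠ 0) (hab : a * a + b * b = -1) : W₀' a b * W₀ a b = 1 := by
  ext i j
  fin_cases i <;> fin_cases j <;> simp [W₀, W₀', Matrix.mul_apply, Fin.sum_univ_two] <;>
    field_simp <;> first | ring1 | linear_combination hab | linear_combination -hab | linear_combination (2 : F) * hab | linear_combination (-2 : F) * hab

theorem det_W₀ (h2 : (2 : F) ≠ 0) (hab : a * a + b * b = -1) : (W₀ a b).det = 1 := by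
  simp [W₀, Matrix.det_fin_two]
  field_simp
  linear_combination (-2 : F) * hab

theorem W₀_mul_I₀ (h2 : (2 : F) ≠ 0) (hab : a * a + b * b = -1) :
    W₀ a b * I₀ = J₀ a b * W₀ a b := by
  ext i j
  fin_cases i <;> fin_cases j <;> simp [W₀, I₀, J₀, Matrix.mul_apply, Fin.sum_univ_two] <;>
    field_simp <;> first | ring1 | linear_combination hab | linear_combination -hab | linear_combination (2 : F) * hab | linear_combination (-2 : F) * hab

theorem W₀_mul_J₀ (h2 : (2 : F) ≠ 0) (hab : a * a + b * b = -1) :
    W₀ a b * J₀ a b = (I₀ * J₀ a b) * W₀ a b := by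
  ext i j
  fin_cases i <;> fin_cases j <;> simp [W₀, I₀, J₀, Matrix.mul_apply, Fin.sum_univ_two] <;>
    field_simp <;> first | ring1 | linear_combination hab | linear_combination -hab | linear_combination (2 : F) * hab | linear_combination (-2 : F) * hab

theorem W₀_cube (h2 : (2 : F) ≠ 0) (hab : a * a + b * b = -1) :
    W₀ a b * W₀ a b * W₀ a b = -1 := by
  ext i j
  fin_cases i <;> fin_cases j <;> simp [W₀, Matrix.mul_apply, Fin.sum_univ_two] <;>
    field_simp <;> first | ring1 | linear_combination (6 + 2 * a - 2 * b) * hab | linear_combination (-2 + 2 * a + 2 * b) * hab | linear_combination (2 + 2 * a + 2 * b) * hab | linear_combination (6 - 2 * a + 2 * b) * hab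

end Explicit

end Cfsg.Agent.Helper73.QuatMat
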