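import Mathlib
import Cfsg.Agent.Lib.Helper73.QuatMat
import Cfsg.Agent.Lib.Helper73.PullbackSys
import Cfsg.Agent.Lib.Helper73.SylowTransfer

set_option autoImplicit false

/-!
# Non-normal saturated fusion systems from a quaternion configuration

A finite group containing elements `i, j` in a Sylow `2`-subgroup `T` and an element `w` with
`w i w⁻¹ = j`, `w j w⁻¹ = i j`, `w ^ 3` central and `i ≠ j` gives a saturated fusion system over
any `S ≅ T` in which `S` is not normal, provided `Aut(S)` is a `2`-group.  We also write such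
elements down in `SL₂(F)`, and choose primes by Dirichlet's theorem.
-/

namespace Cfsg.Agent.Helper73.DSQ

open Matrix Subgroup Cfsg

/-- a prime `q ≡ 3 mod 4` with prescribed `2`-part of `q + 1` -/
theorem exists_prime_v2 (m : ℕ) (hm : 2 ≤ m) :
    ∃ q : ℕ, q.Prime ∧ q % 4 = 3 ∧ (q + 1).factorization 2 = m := by
  have h4 : 4 ≤ 2 ^ m := by
    calc 4 = 2 ^ 2 := by norm_num
      _ ≤ 2 ^ m := Nat.pow_le_pow_right (by norm_num) hm
  have hcop : (2 ^ m - 1).Coprime (2 ^ (m + 1)) := by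
    apply Nat.Coprime.pow_right
    rw [Nat.coprime_two_right, Nat.odd_iff]
    have : 2 ∣ 2 ^ m := dvd_pow_self 2 (by omega)
    omega
  obtain ⟨q, -, hq, hmod⟩ := Nat.forall_exists_prime_gt_and_modEq 0
    (q := 2 ^ (m + 1)) (a := 2 ^ m - 1) (by positivity) hcop
  refine ⟨q, hq, ?_, ?_⟩
  · have h1 : q ≡ 2 ^ m - 1 [MOD 4] := by
      apply hmod.of_dvd
      calc 4 = 2 ^ 2 := by norm_num
        _ ∣ 2 ^ (m + 1) := pow_dvd_pow 2 (by omega)
    have h2 : (2 ^ m - 1) % 4 = 3 := by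
      have : 4 ∣ 2 ^ m := by
        calc 4 = 2 ^ 2 := by norm_num
          _ ∣ 2 ^ m := pow_dvd_pow 2 hm
      omega
    unfold Nat.ModEq at h1
    omega
  · have h1 : q + 1 ≡ 2 ^ m [MOD 2 ^ (m + 1)] := by
      have := hmod.add_right 1
      rwa [Nat.sub_add_cancel (by omega)] at this
    -- `q + 1 = 2 ^ m * (2 t + 1)`
    have h2 : 2 ^ m % 2 ^ (m + 1) = 2 ^ m := Nat.mod_eq_of_lt (Nat.pow_lt_pow_right (by norm_num) (by omega))
    unfold Nat.ModEq at h1
    rw [h2] at h1
    obtain ⟨t, ht⟩ : ∃ t, q + 1 = 2 ^ (m + 1) * t + 2 ^ m := ⟨(q + 1) / 2 ^ (m + 1), by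
      have := Nat.div_add_mod (q + 1) (2 ^ (m + 1))
      omega⟩
    have h3 : q + 1 = 2 ^ m * (2 * t + 1) := by rw [ht, pow_succ]; ring
    rw [h3, Nat.factorization_mul (by positivity) (by omega), Finsupp.add_apply,
      Nat.Prime.factorization_pow Nat.prime_two, Finsupp.single_eq_same,
      Nat.factorization_eq_zero_of_not_dvd (by omega), add_zero]

section Generic

variable {Ω : Type*} [Group Ω] {S : Subgroup Ω} {G : Type*} [Group G]

/-- the generic construction -/
theorem exists_of_conj [Finite S] [Finite G] (i j w : G) (hwi : w * i = j * w)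
    (hwj : w * j = i * j * w) (hw3 : ∀ g : G, w ^ 3 * g = g * w ^ 3) (hne : j ≠ i)
    (T : Sylow 2 G) (hiT : i ∈ T) (hjT : j ∈ T)
    (e : S ≃* (T : Subgroup G)) (hAut : IsPGroup 2 (MulAut S)) :
    ∃ F : FusionSystem S, F.IsSaturated 2 ∧ ¬ F.IsNormal S := by
  have h2 : Fact (Nat.Prime 2) := ⟨Nat.prime_two⟩
  have hwi' : w * i * w⁻¹ = j := by rw [hwi, mul_inv_cancel_right]
  have hwj' : w * j * w⁻¹ = i * j := by rw [hwj, mul_inv_cancel_right]
  set R : Subgroup G := zpowers i ⊔ zpowers j with hR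
  have hiR : i ∈ R := (le_sup_left : zpowers i ≤ R) (mem_zpowers i)
  have hjR : j ∈ R := (le_sup_right : zpowers j ≤ R) (mem_zpowers j)
  have hRT : R ≤ T := sup_le (zpowers_le.mpr hiT) (zpowers_le.mpr hjT)
  have hmap : R.map (MulAut.conj w).toMonoidHom ≤ R := by
    rw [hR, Subgroup.map_sup, MonoidHom.map_zpowers, MonoidHom.map_zpowers]
    apply sup_le
    · rw [zpowers_le]
      change MulAut.conj w i ∈ R
      rw [MulAut.conj_apply, hwi']
      exact hjR
    · rw [zpowers_le]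
      change MulAut.conj w j ∈ R
      rw [MulAut.conj_apply, hwj']
      exact R.mul_mem hiR hjR
  refine PullbackSys.exists_saturated_not_normal T e hAut R hRT w 3 (by norm_num) ?_ ?_ i hiR ?_
  · intro r hr
    apply hmap
    exact ⟨r, hr, by simp [MulAut.conj_apply]⟩
  · intro r _
    rw [hw3 r, mul_inv_cancel_right]
  · rw [hwi']
    exact hne

/-- centrality passes to surjective images -/
theorem central_of_surjective {H : Type*} [Group H] (f : G →* H) (hf : Function.Surjective f)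
    (c : G) (hc : ∀ g : G, c * g = g * c) : ∀ h : H, f c * h = h * f c := by
  intro h
  obtain ⟨g, rfl⟩ := hf h
  rw [← map_mul, ← map_mul, hc g]

/-- centrality passes to injective preimages -/
theorem central_of_injective {H : Type*} [Group H] (f : H →* G) (hf : Function.Injective f)
    (c : H) (hc : ∀ g : G, f c * g = g * f c) : ∀ h : H, c * h = h * c := by
  intro h
  apply hf
  rw [map_mul, map_mul, hc]

end Generic

section Elements

variable {F : Type*} [Field F]

/-- the element `i` of `SL₂` -/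
def iS : SpecialLinearGroup (Fin 2) F := ⟨QuatMat.I₀, QuatMat.det_I₀⟩

/-- the element `j` of `SL₂` -/
def jS {a b : F} (hab : a * a + b * b = -1) : SpecialLinearGroup (Fin 2) F :=
  ⟨QuatMat.J₀ a b, QuatMat.det_J₀ hab⟩

/-- the element `w` of `SL₂` -/
def wS {a b : F} (h2 : (2 : F) ≠ 0) (hab : a * a + b * b = -1) : SpecialLinearGroup (Fin 2) F :=
  ⟨QuatMat.W₀ a b, QuatMat.det_W₀ h2 hab⟩

variable {a b : F} (h2 : (2 : F) ≠ 0) (hab : a * a + b * b = -1)

theorem wS_iS : wS h2 hab * iS = jS hab * wS h2 hab := by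
  apply Subtype.ext
  exact QuatMat.W₀_mul_I₀ h2 hab

theorem wS_jS : wS h2 hab * jS hab = iS * jS hab * wS h2 hab := by
  apply Subtype.ext
  exact QuatMat.W₀_mul_J₀ h2 hab

theorem jS_iS : jS hab * iS = iS ^ 3 * jS hab := by
  apply Subtype.ext
  change QuatMat.J₀ a b * QuatMat.I₀ = (QuatMat.I₀ : Matrix (Fin 2) (Fin 2) F) ^ 3 * QuatMat.J₀ a b
  rw [QuatMat.J₀_mul_I₀, pow_succ, pow_two, QuatMat.I₀_mul_self]
  simp

theorem iS_sq_val : ((iS : SpecialLinearGroup (Fin 2) F) ^ 2 : SpecialLinearGroup (Fin 2) F).1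
    = -1 := by
  change (QuatMat.I₀ : Matrix (Fin 2) (Fin 2) F) ^ 2 = -1
  rw [pow_two, QuatMat.I₀_mul_self]

theorem jS_sq : (jS hab) ^ 2 = (iS : SpecialLinearGroup (Fin 2) F) ^ 2 := by
  apply Subtype.ext
  change (QuatMat.J₀ a b) ^ 2 = (QuatMat.I₀ : Matrix (Fin 2) (Fin 2) F) ^ 2
  rw [pow_two, pow_two, QuatMat.I₀_mul_self, QuatMat.J₀_mul_self hab]

include h2 in
theorem iS_sq_ne : (iS : SpecialLinearGroup (Fin 2) F) ^ 2 ≠ 1 := by
  intro h
  have h1 := congrArg Subtype.val h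
  rw [iS_sq_val] at h1
  have h3 := congrFun (congrFun h1 0) 0
  simp at h3
  apply h2
  linear_combination -h3

theorem iS_four : (iS : SpecialLinearGroup (Fin 2) F) ^ 4 = 1 := by
  apply Subtype.ext
  change (QuatMat.I₀ : Matrix (Fin 2) (Fin 2) F) ^ 4 = 1
  have : (QuatMat.I₀ : Matrix (Fin 2) (Fin 2) F) ^ 4 = (QuatMat.I₀ * QuatMat.I₀) * (QuatMat.I₀ * QuatMat.I₀) := by
    noncomm_ring
  rw [this, QuatMat.I₀_mul_self]
  simp

theorem wS_cube_val : ((wS h2 hab) ^ 3 : SpecialLinearGroup (Fin 2) F).1 = -1 := by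
  change (QuatMat.W₀ a b) ^ 3 = -1
  rw [pow_succ, pow_two, QuatMat.W₀_cube h2 hab]

/-- `w ^ 3` is central in `GL₂` -/
theorem wS_cube_central (g : GL (Fin 2) F) :
    (SpecialLinearGroup.toGL (wS h2 hab)) ^ 3 * g = g * (SpecialLinearGroup.toGL (wS h2 hab)) ^ 3 := by
  rw [← map_pow]
  apply Units.ext
  rw [Units.val_mul, Units.val_mul, SpecialLinearGroup.coe_GL_coe_matrix]
  change ((wS h2 hab) ^ 3 : SpecialLinearGroup (Fin 2) F).1 * _ = _ * ((wS h2 hab) ^ 3 : SpecialLinearGroup (Fin 2) F).1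
  rw [wS_cube_val]
  simp

end Elements

end Cfsg.Agent.Helper73.DSQ
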