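import Mathlib
import Cfsg.Agent.Lib.Helper73.DSQBase
import Cfsg.Agent.Lib.Helper53.UniqueInvol4
import Cfsg.Agent.Lib.Helper53.SL2Card

set_option autoImplicit false

/-!
# Generalized quaternion groups are not resistant

Using `SL₂(q)` for a prime `q ≡ 3 mod 4` with a prescribed `2`-part of `q + 1`.
-/

namespace Cfsg.Agent.Helper73.DSQ

open Matrix Subgroup Cfsg

section Orders

variable {G : Type*} [Group G] {i j : G}

theorem orderOf_four_of (hi2 : i ^ 2 ≠ 1) (hi4 : i ^ 4 = 1) : orderOf i = 2 ^ 2 := by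
  have h2 : Fact (Nat.Prime 2) := ⟨Nat.prime_two⟩
  have := orderOf_eq_prime_pow (x := i) (p := 2) (n := 1) (by simpa using hi2) (by simpa using hi4)
  simpa using this

theorem conj_of_rel (hji : j * i = i ^ 3 * j) : j * i * j⁻¹ = i ^ 3 := by
  rw [hji, mul_inv_cancel_right]

theorem not_comm_of_rel (hi2 : i ^ 2 ≠ 1) (hji : j * i = i ^ 3 * j) : i * j ≠ j * i := by
  intro h
  rw [hji] at h
  have h1 : i = i ^ 3 := mul_right_cancel h
  apply hi2
  have h2 : i * 1 = i * i ^ 2 := by
    rw [mul_one, ← pow_succ']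
    exact h1
  exact (mul_left_cancel h2).symm

end Orders

/-- number-theoretic input over `ZMod q` -/
theorem zmod_setup (q : ℕ) [Fact q.Prime] (hq : q % 4 = 3) :
    (∀ c : ZMod q, c * c ≠ -1) ∧ ∃ a b : ZMod q, a * a + b * b = -1 := by
  constructor
  · intro c hc
    have h1 : IsSquare (-1 : ZMod q) := ⟨c, hc.symm⟩
    rw [ZMod.exists_sq_eq_neg_one_iff] at h1
    exact h1 hq
  · obtain ⟨a, b, hab⟩ := ZMod.sq_add_sq q (-1)
    exact ⟨a, b, by rw [← hab]; ring⟩

theorem v2_card_SL2 (q : ℕ) (hq : q % 4 = 3) :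
    ((q - 1) * q * (q + 1)).factorization 2 = (q + 1).factorization 2 + 1 := by
  obtain ⟨s, rfl⟩ : ∃ s, q = 4 * s + 3 := ⟨q / 4, by omega⟩
  have h1 : 4 * s + 3 - 1 = 2 * (2 * s + 1) := by omega
  rw [h1, Nat.factorization_mul (by positivity) (by omega),
    Nat.factorization_mul (by omega) (by omega), Nat.factorization_mul (by omega) (by omega)]
  simp only [Finsupp.add_apply]
  rw [Nat.Prime.factorization_self Nat.prime_two,
    Nat.factorization_eq_zero_of_not_dvd (n := 2 * s + 1) (by omega),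
    Nat.factorization_eq_zero_of_not_dvd (n := 4 * s + 3) (by omega)]
  omega

variable {Ω : Type*} [Group Ω] {S : Subgroup Ω}

/-- the group `SL₂(q)` -/
local notation "G" q => Matrix.SpecialLinearGroup (Fin 2) (ZMod q)

/-- generalized quaternion groups of order at least `16` carry a saturated fusion system in which
they are not normal -/
theorem quat_case [Finite S] (k : ℕ) (hk : 2 ≤ k) (e : S ≃* QuaternionGroup (2 ^ k))
    (hAut : IsPGroup 2 (MulAut S)) :
    ∃ F : FusionSystem S, F.IsSaturated 2 ∧ ¬ F.IsNormal S := by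
  have hf2 : Fact (Nat.Prime 2) := ⟨Nat.prime_two⟩
  obtain ⟨q, hqp, hq4, hqv⟩ := exists_prime_v2 (k + 1) (by omega)
  have : Fact q.Prime := ⟨hqp⟩
  obtain ⟨hns, a, b, hab⟩ := zmod_setup q hq4
  have h2 : (2 : ZMod q) ≠ 0 := QuatMat.two_ne_zero_of_not_sq hns
  set i : G q := iS with hi
  set j : G q := jS hab with hj
  set w : G q := wS h2 hab with hw
  have hi2 : i ^ 2 ≠ 1 := iS_sq_ne h2
  have hi4 : i ^ 4 = 1 := iS_four
  have hj2 : j ^ 2 = i ^ 2 := jS_sq hab
  have hji : j * i = i ^ 3 * j := jS_iS hab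
  have hj2' : j ^ 2 ≠ 1 := by rw [hj2]; exact hi2
  have hj4 : j ^ 4 = 1 := by
    have : j ^ 4 = (j ^ 2) ^ 2 := by rw [← pow_mul]
    rw [this, hj2, ← pow_mul]; exact hi4
  have hR2 : IsPGroup 2 ↥(zpowers i ⊔ zpowers j) :=
    isPGroup_zpowers_sup_zpowers i j 2 2 3 (orderOf_four_of hi2 hi4) (orderOf_four_of hj2' hj4)
      (conj_of_rel hji)
  obtain ⟨T, hT⟩ := hR2.exists_le_sylow
  have hiT : i ∈ T := hT ((le_sup_left : zpowers i ≤ _) (mem_zpowers i))
  have hjT : j ∈ T := hT ((le_sup_right : zpowers j ≤ _) (mem_zpowers j))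
  -- structure of `T`
  have hTp : IsPGroup 2 ↥(T : Subgroup (G q)) := T.2
  have huniq : ∀ x y : ↥(T : Subgroup (G q)), orderOf x = 2 → orderOf y = 2 → x = y := by
    have key : ∀ x : ↥(T : Subgroup (G q)), orderOf x = 2 → (x : G q).1 = -1 := by
      intro x hx
      have h1 : x ^ orderOf x = 1 := pow_orderOf_eq_one x
      rw [hx] at h1
      have h3 : x ≠ 1 := by
        intro h; rw [h, orderOf_one] at hx; omega
      have h4 : (x : G q).1 * (x : G q).1 = 1 := by
        have h6 : (x : G q) * (x : G q) = 1 := by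
          have := congrArg Subtype.val h1
          simpa [pow_two] using this
        have h7 := congrArg Subtype.val h6
        exact h7
      rcases QuatMat.eq_one_or_neg_one_of_det_one hns (x : G q).1 (x : G q).2 h4 with h5 | h5
      · exfalso
        apply h3
        apply Subtype.ext
        apply Subtype.ext
        rw [h5]; rfl
      · exact h5
    intro x y hx hy
    apply Subtype.ext
    apply Subtype.ext
    rw [key x hx, key y hy]
  have hnc : ¬ IsCyclic ↥(T : Subgroup (G q)) := by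
    intro hc
    have hcomm := (IsCyclic.commGroup (α := ↥(T : Subgroup (G q)))).mul_comm ⟨i, hiT⟩ ⟨j, hjT⟩
    exact not_comm_of_rel hi2 hji (congrArg Subtype.val hcomm)
  rcases Cfsg.Agent.Helper53.isCyclic_or_quaternion_of_unique_invol hTp huniq with hc | ⟨n, hn, ⟨eT⟩⟩
  · exact absurd hc hnc
  -- compare orders
  have hcardG : Nat.card (G q) = (q - 1) * q * (q + 1) := by
    have hq1 : 1 ≤ q := hqp.one_lt.le
    have := Cfsg.Agent.Helper53.card_SL2_succ (F := ZMod q) (q - 1)
      (by rw [ZMod.card]; omega)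
    rw [this]
    have h1 : q - 1 + 1 = q := by omega
    have h2 : q - 1 + 2 = q + 1 := by omega
    rw [h1, h2]
  have hcardT : Nat.card ↥(T : Subgroup (G q)) = 2 ^ (k + 2) := by
    rw [T.card_eq_multiplicity, hcardG, v2_card_SL2 q hq4, hqv]
  have hcardT' : Nat.card ↥(T : Subgroup (G q)) = 4 * 2 ^ n := by
    rw [Nat.card_congr eT.toEquiv, Nat.card_eq_fintype_card, QuaternionGroup.card]
  have hnk : n = k := by
    have h1 : (2 : ℕ) ^ (k + 2) = 2 ^ (n + 2) := by
      rw [← hcardT, hcardT']; ring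
    have := Nat.pow_right_injective (le_refl 2) h1
    omega
  subst hnk
  exact exists_of_conj i j w (wS_iS h2 hab) (wS_jS h2 hab)
    (central_of_injective SpecialLinearGroup.toGL SpecialLinearGroup.toGL_injective (w ^ 3)
      (by rw [map_pow]; exact wS_cube_central h2 hab))
    (fun h => not_comm_of_rel hi2 hji (by rw [h])) T hiT hjT (e.trans eT.symm) hAut

end Cfsg.Agent.Helper73.DSQ
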