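import Mathlib
import Cfsg.Agent.Lib.Helper73.SylowTransfer

set_option autoImplicit false
open scoped MatrixGroups

namespace Cfsg.Agent.Helper73

/-- In the unit group of a finite field there is an element of every order dividing `|K| - 1`. -/
theorem exists_unit_orderOf {K : Type*} [Field K] [Finite K] (d : ℕ) (hd : d ∣ Nat.card K - 1) :
    ∃ ω : Kˣ, orderOf ω = d := by
  obtain ⟨g, hg⟩ := IsCyclic.exists_ofOrder_eq_natCard (α := Kˣ)
  rw [Nat.card_units] at hg
  have h0 : Nat.card K - 1 ≠ 0 := by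
    have : 1 < Nat.card K := Finite.one_lt_card
    omega
  refine ⟨g ^ (orderOf g / d), ?_⟩
  apply orderOf_pow_orderOf_div
  · rw [hg]; exact h0
  · rw [hg]; exact hd

lemma v2_odd (a : ℕ) (ha : a % 2 = 1) : a.factorization 2 = 0 :=
  Nat.factorization_eq_zero_of_not_dvd (by omega)

lemma v2_two_mul (a : ℕ) (ha : a ≠ 0) : (2 * a).factorization 2 = a.factorization 2 + 1 := by
  rw [Nat.factorization_mul (by norm_num) ha, Finsupp.add_apply,
    Nat.Prime.factorization_self Nat.prime_two, add_comm]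

lemma card_GL2_eq (r : ℕ) :
    (((r + 1) ^ 2 - 1) * ((r + 1) ^ 2 - (r + 1))) = r ^ 2 * (r + 1) * (r + 2) := by
  have h1 : (r + 1) ^ 2 - 1 = r * (r + 2) := by
    apply Nat.sub_eq_of_eq_add; ring
  have h2 : (r + 1) ^ 2 - (r + 1) = r * (r + 1) := by
    apply Nat.sub_eq_of_eq_add; ring
  rw [h1, h2]; ring

lemma v2_prod (r : ℕ) (hr : r ≠ 0) :
    (r ^ 2 * (r + 1) * (r + 2)).factorization 2 =
      2 * r.factorization 2 + (r + 1).factorization 2 + (r + 2).factorization 2 := by
  rw [Nat.factorization_mul (by positivity) (by omega),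
    Nat.factorization_mul (by positivity) (by omega), Nat.factorization_pow]
  simp

/-- The `2`-part of `|GL₂(q)|` for `q ≡ 1 mod 4`. -/
lemma v2_card_GL2_one (q : ℕ) (hq : q % 4 = 1) (hq1 : 1 < q) :
    ((q ^ 2 - 1) * (q ^ 2 - q)).factorization 2 = 2 * (q - 1).factorization 2 + 1 ∧
      2 ≤ (q - 1).factorization 2 := by
  obtain ⟨r, rfl⟩ : ∃ r, q = r + 1 := ⟨q - 1, by omega⟩
  obtain ⟨s, rfl⟩ : ∃ s, r = 2 * (2 * s) := ⟨r / 4, by omega⟩
  have hs : s ≠ 0 := by omega
  rw [card_GL2_eq, v2_prod _ (by omega), Nat.add_sub_cancel]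
  have h1 : (2 * (2 * s) + 1).factorization 2 = 0 := v2_odd _ (by omega)
  have h2 : (2 * (2 * s) + 2).factorization 2 = 1 := by
    have : 2 * (2 * s) + 2 = 2 * (2 * s + 1) := by ring
    rw [this, v2_two_mul _ (by omega), v2_odd _ (by omega)]
  have h3 : (2 * (2 * s)).factorization 2 = s.factorization 2 + 1 + 1 := by
    rw [v2_two_mul _ (by omega), v2_two_mul _ hs]
  rw [h1, h2, h3]
  constructor <;> omega

/-- The `2`-part of `|GL₂(q)|` for `q ≡ 3 mod 4`. -/
lemma v2_card_GL2_three (q : ℕ) (hq : q % 4 = 3) :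
    ((q ^ 2 - 1) * (q ^ 2 - q)).factorization 2 = (q + 1).factorization 2 + 2 ∧
      2 ≤ (q + 1).factorization 2 := by
  obtain ⟨r, rfl⟩ : ∃ r, q = r + 1 := ⟨q - 1, by omega⟩
  obtain ⟨s, rfl⟩ : ∃ s, r = 2 * (2 * s + 1) := ⟨r / 4, by omega⟩
  rw [card_GL2_eq, v2_prod _ (by omega)]
  have h1 : (2 * (2 * s + 1) + 1).factorization 2 = 0 := v2_odd _ (by omega)
  have h2 : (2 * (2 * s + 1)).factorization 2 = 1 := by
    rw [v2_two_mul _ (by omega), v2_odd _ (by omega)]
  have h3 : (2 * (2 * s + 1) + 2) = 2 * (2 * (s + 1)) := by ring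
  have h4 : (2 * (2 * (s + 1))).factorization 2 = (s + 1).factorization 2 + 1 + 1 := by
    rw [v2_two_mul _ (by omega), v2_two_mul _ (by omega)]
  have h5 : 2 * (2 * s + 1) + 1 + 1 = 2 * (2 * (s + 1)) := by ring
  rw [h1, h2, h5, h4]
  constructor <;> omega

section wreathed

variable {F : Type*} [Field F]

/-- `a ↦ diag(a, 1)` -/
def diagL : F →* Matrix (Fin 2) (Fin 2) F where
  toFun a := Matrix.diagonal ![a, 1]
  map_one' := by
    ext i j; fin_cases i <;> fin_cases j <;> simp
  map_mul' a b := by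
    rw [Matrix.diagonal_mul_diagonal]
    congr 1
    ext i; fin_cases i <;> simp

/-- `a ↦ diag(1, a)` -/
def diagR : F →* Matrix (Fin 2) (Fin 2) F where
  toFun a := Matrix.diagonal ![1, a]
  map_one' := by
    ext i j; fin_cases i <;> fin_cases j <;> simp
  map_mul' a b := by
    rw [Matrix.diagonal_mul_diagonal]
    congr 1
    ext i; fin_cases i <;> simp

lemma diagL_injective : Function.Injective (diagL (F := F)) := by
  intro a b h
  have := congrFun (congrFun h 0) 0
  simpa [diagL] using this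

lemma diagR_injective : Function.Injective (diagR (F := F)) := by
  intro a b h
  have := congrFun (congrFun h 1) 1
  simpa [diagR] using this

/-- the swap matrix -/
def swapMat : Matrix (Fin 2) (Fin 2) F := !![0, 1; 1, 0]

lemma swapMat_mul_self : (swapMat : Matrix (Fin 2) (Fin 2) F) * swapMat = 1 := by
  ext i j; fin_cases i <;> fin_cases j <;> simp [swapMat, Matrix.mul_apply, Fin.sum_univ_two]

/-- the swap matrix as an element of `GL₂` -/
def swapGL : GL (Fin 2) F := ⟨swapMat, swapMat, swapMat_mul_self, swapMat_mul_self⟩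

lemma swap_conj (a : F) : (swapMat : Matrix (Fin 2) (Fin 2) F) * diagL a * swapMat = diagR a := by
  ext i j; fin_cases i <;> fin_cases j <;>
    simp [swapMat, diagL, diagR, Matrix.mul_apply, Fin.sum_univ_two, Matrix.vecMul, dotProduct]

theorem wr_elements (n : ℕ) (ω : Fˣ) (hω : orderOf ω = 2 ^ n) :
    ∃ x y z : GL (Fin 2) F, orderOf x = 2 ^ n ∧ x * y = y * x ∧
      Subgroup.zpowers x ⊓ Subgroup.zpowers y = ⊥ ∧ orderOf z = 2 ∧ z * x * z⁻¹ = y := by
  refine ⟨Units.map diagL ω, Units.map diagR ω, swapGL, ?_, ?_, ?_, ?_, ?_⟩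
  · rw [orderOf_injective _ (Units.map_injective diagL_injective), hω]
  · apply Units.ext
    simp only [Units.val_mul, Units.coe_map, MonoidHom.coe_mk, OneHom.coe_mk, diagL, diagR]
    rw [Matrix.diagonal_mul_diagonal, Matrix.diagonal_mul_diagonal]
    congr 1
    ext i; fin_cases i <;> simp
  · rw [eq_bot_iff]
    rintro g ⟨h1, h2⟩
    obtain ⟨i, hi⟩ := Subgroup.mem_zpowers_iff.1 h1
    obtain ⟨j, hj⟩ := Subgroup.mem_zpowers_iff.1 h2
    rw [← map_zpow] at hi hj
    have h3 : ((Units.map diagL (ω ^ i) : GL (Fin 2) F) : Matrix (Fin 2) (Fin 2) F) =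
        ((Units.map diagR (ω ^ j) : GL (Fin 2) F) : Matrix (Fin 2) (Fin 2) F) := by
      rw [hi, hj]
    have h4 := congrFun (congrFun h3 0) 0
    simp only [Units.coe_map, MonoidHom.coe_mk, OneHom.coe_mk, diagL, diagR] at h4
    have h5 : ((ω ^ i : Fˣ) : F) = 1 := by simpa using h4
    have h6 : ω ^ i = 1 := Units.ext h5
    rw [Subgroup.mem_bot, ← hi, h6, map_one]
  · apply orderOf_eq_prime
    · apply Units.ext
      rw [pow_two]
      exact swapMat_mul_self
    · intro h
      have := congrArg (fun g : GL (Fin 2) F => (g : Matrix (Fin 2) (Fin 2) F) 0 0) h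
      simp [swapGL, swapMat] at this
  · apply Units.ext
    have : (swapGL : GL (Fin 2) F)⁻¹ = swapGL := rfl
    rw [this]
    simp only [Units.val_mul, Units.coe_map]
    exact swap_conj _

end wreathed

section qd

variable {F : Type*} [Field F] [Fintype F]

theorem qd_elements_end (L : Type*) [Field L] [Algebra F L] [Finite L] (hL : Module.finrank F L = 2)
    (m t : ℕ) (hm : 1 ≤ m) (hq : Fintype.card F + 1 = 2 ^ m * (2 * t + 1)) :
    ∃ X Y : (L →ₗ[F] L)ˣ, orderOf X = 2 ^ (m + 1) ∧ orderOf Y = 2 ∧ Y * X * Y⁻¹ = X ^ (2 ^ m - 1) := by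
  classical
  set q := Fintype.card F with hqdef
  have hcardL : Nat.card L = q ^ 2 := by
    rw [Module.natCard_eq_pow_finrank (K := F) (V := L), hL, Nat.card_eq_fintype_card]
  -- element of order 2^(m+1)
  have hdvd : 2 ^ (m + 1) ∣ Nat.card L - 1 := by
    rw [hcardL]
    obtain ⟨m', rfl⟩ : ∃ m', m = m' + 1 := ⟨m - 1, by omega⟩
    have hqodd : q % 2 = 1 := by
      have : (q + 1) % 2 = 0 := by
        rw [hq, pow_succ]; simp [Nat.mul_mod]
      omega
    obtain ⟨w, hw⟩ : ∃ w, q = 2 * w + 1 := ⟨q / 2, by omega⟩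
    have : q ^ 2 - 1 = (q - 1) * (q + 1) := by
      apply Nat.sub_eq_of_eq_add
      have h1 : 1 ≤ q := by omega
      zify [h1]; ring
    rw [this, hq, hw]
    refine ⟨w * (2 * t + 1), ?_⟩
    simp only [Nat.add_sub_cancel]
    ring
  obtain ⟨ω, hω⟩ := exists_unit_orderOf (K := L) (2 ^ (m + 1)) hdvd
  have : Algebra.IsAlgebraic F L := Algebra.IsAlgebraic.of_finite F L
  let σ : L ≃ₐ[F] L := FiniteField.frobeniusAlgEquivOfAlgebraic F L
  have hσ : ∀ v : L, σ v = v ^ q := fun v => rfl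
  have hσ2 : orderOf σ = 2 := by
    rw [FiniteField.orderOf_frobeniusAlgEquivOfAlgebraic, hL]
  have hσσ : ∀ v : L, σ (σ v) = v := by
    intro v
    have h := pow_orderOf_eq_one σ
    rw [hσ2, pow_two] at h
    have := congrArg (fun f : L ≃ₐ[F] L => f v) h
    simpa using this
  have hσsymm : ∀ v : L, σ.symm v = σ v := by
    intro v
    rw [AlgEquiv.symm_apply_eq, hσσ]
  let X : (L →ₗ[F] L)ˣ := Units.map (Algebra.lmul F L).toMonoidHom ω
  let Y : (L →ₗ[F] L)ˣ := ⟨σ.toLinearMap, σ.symm.toLinearMap,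
    by ext v; simp, by ext v; simp⟩
  have hXinj : Function.Injective (Units.map ((Algebra.lmul F L) : L →* (L →ₗ[F] L))) := by
    apply Units.map_injective
    intro a b hab
    have := congrArg (fun f : L →ₗ[F] L => f 1) hab
    simpa using this
  refine ⟨X, Y, ?_, ?_, ?_⟩
  · show orderOf (Units.map ((Algebra.lmul F L) : L →* (L →ₗ[F] L)) ω) = _
    rw [orderOf_injective _ hXinj, hω]
  · apply orderOf_eq_prime
    · apply Units.ext
      ext v
      simp only [pow_two, Y]
      simp [hσσ]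
    · intro h
      have h1 : ∀ v : L, σ v = v := by
        intro v
        have := congrArg (fun g : (L →ₗ[F] L)ˣ => (g : L →ₗ[F] L) v) h
        simpa [Y] using this
      have h2 : σ = 1 := by
        ext v; simpa using h1 v
      rw [h2, orderOf_one] at hσ2
      omega
  · apply Units.ext
    ext v
    have hωq : ((ω : L)) ^ q = (ω : L) ^ (2 ^ m - 1) := by
      have hq' : q = 2 ^ (m + 1) * t + (2 ^ m - 1) := by
        have h1 : 1 ≤ 2 ^ m := Nat.one_le_two_pow
        have : q + 1 = 2 ^ (m + 1) * t + (2 ^ m - 1) + 1 := by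
          rw [hq, pow_succ]
          have : 2 ^ m - 1 + 1 = 2 ^ m := by omega
          rw [add_assoc, this]; ring
        omega
      have hω1 : (ω : L) ^ (2 ^ (m + 1)) = 1 := by
        have := pow_orderOf_eq_one ω
        rw [hω] at this
        have := congrArg (fun u : Lˣ => (u : L)) this
        simpa using this
      rw [hq', pow_add, pow_mul, hω1, one_pow, one_mul]
    have hX : ∀ (k : ℕ) (w : L), ((X ^ k : (L →ₗ[F] L)ˣ) : L →ₗ[F] L) w = (ω : L) ^ k * w := by
      intro k w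
      have : (X ^ k : (L →ₗ[F] L)ˣ) = Units.map (Algebra.lmul F L).toMonoidHom (ω ^ k) := by
        rw [map_pow]
      rw [this]
      show (Algebra.lmul F L ((ω ^ k : Lˣ) : L)) w = _
      rw [Units.val_pow_eq_pow_val]
      rfl
    have hX1 : ∀ (w : L), ((X : (L →ₗ[F] L)ˣ) : L →ₗ[F] L) w = (ω : L) * w := by
      intro w
      have := hX 1 w
      simpa using this
    rw [hX]
    have : ((Y * X * Y⁻¹ : (L →ₗ[F] L)ˣ) : L →ₗ[F] L) v = σ ((ω : L) * σ.symm v) := by
      simp only [Units.val_mul, Module.End.mul_apply]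
      rw [hX1]
      rfl
    rw [this, map_mul, AlgEquiv.apply_symm_apply, hσ, hωq]

theorem qd_elements (m t : ℕ) (hm : 1 ≤ m) (hq : Fintype.card F + 1 = 2 ^ m * (2 * t + 1)) :
    ∃ x y : GL (Fin 2) F, orderOf x = 2 ^ (m + 1) ∧ orderOf y = 2 ∧
      y * x * y⁻¹ = x ^ (2 ^ m - 1) := by
  classical
  obtain ⟨p, hp⟩ := CharP.exists F
  have hpp : Fact p.Prime := ⟨CharP.char_is_prime F p⟩
  let L := FiniteField.Extension F p 2
  have hL : Module.finrank F L = 2 := FiniteField.finrank_extension F p 2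
  obtain ⟨X, Y, hX, hY, hXY⟩ := qd_elements_end (F := F) L hL m t hm hq
  let b : Module.Basis (Fin 2) F L := Module.finBasisOfFinrankEq F L hL
  let Φ : (L →ₗ[F] L)ˣ ≃* GL (Fin 2) F := Units.mapEquiv (LinearMap.toMatrixAlgEquiv b).toMulEquiv
  refine ⟨Φ X, Φ Y, ?_, ?_, ?_⟩
  · rw [MulEquiv.orderOf_eq, hX]
  · rw [MulEquiv.orderOf_eq, hY]
  · rw [← map_inv, ← map_mul, ← map_mul, ← map_pow, hXY]

end qd

end Cfsg.Agent.Helper73
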