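import Mathlib
import Cfsg.Agent.Lib.Helper73.DSQQuat
import Cfsg.Agent.Lib.Helper73.GL2Sylow
import Cfsg.Agent.Lib.Helper20.QD
import Cfsg.Agent.S1217
import Cfsg.Agent.S1349

set_option autoImplicit false

/-!
# Quasi-dihedral and dihedral groups are not resistant

Using `GL₂(q)` and `PGL₂(q)` for a prime `q ≡ 3 mod 4` with a prescribed `2`-part of `q + 1`.
-/

namespace Cfsg.Agent.Helper73.DSQ

open Matrix Subgroup Cfsg

/-- the data extracted from `GL₂(q)` -/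
structure GLData (q : ℕ) [Fact q.Prime] (m : ℕ) where
  /-- first generator of a quaternion subgroup -/
  i : GL (Fin 2) (ZMod q)
  /-- second generator of a quaternion subgroup -/
  j : GL (Fin 2) (ZMod q)
  /-- an element permuting `i, j, ij` -/
  w : GL (Fin 2) (ZMod q)
  /-- a Sylow subgroup containing `i, j` -/
  T : Sylow 2 (GL (Fin 2) (ZMod q))
  hns : ∀ c : ZMod q, c * c ≠ -1
  hiT : i ∈ T
  hjT : j ∈ T
  hwi : w * i = j * w
  hwj : w * j = i * j * w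
  hw3 : ∀ g, w ^ 3 * g = g * w ^ 3
  hi2 : i ^ 2 ≠ 1
  hji : j * i = i ^ 3 * j
  hqd : Cfsg.IsQuasiDihedral ↥(T : Subgroup (GL (Fin 2) (ZMod q)))
  hcard : Nat.card ↥(T : Subgroup (GL (Fin 2) (ZMod q))) = 2 ^ (m + 2)

theorem exists_glData (m : ℕ) (hm : 2 ≤ m) :
    ∃ (q : ℕ) (_ : Fact q.Prime), Nonempty (GLData q m) := by
  have hf2 : Fact (Nat.Prime 2) := ⟨Nat.prime_two⟩
  obtain ⟨q, hqp, hq4, hqv⟩ := exists_prime_v2 m hm
  have hfq : Fact q.Prime := ⟨hqp⟩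
  refine ⟨q, hfq, ?_⟩
  obtain ⟨hns, a, b, hab⟩ := zmod_setup q hq4
  have h2 : (2 : ZMod q) ≠ 0 := QuatMat.two_ne_zero_of_not_sq hns
  set ρ := (SpecialLinearGroup.toGL : SpecialLinearGroup (Fin 2) (ZMod q) →* GL (Fin 2) (ZMod q))
    with hρ
  have hρi : Function.Injective ρ := SpecialLinearGroup.toGL_injective
  set i := ρ iS with hi
  set j := ρ (jS hab) with hj
  set w := ρ (wS h2 hab) with hw
  have hi2 : i ^ 2 ≠ 1 := by
    rw [hi, ← map_pow]
    intro h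
    rw [← map_one ρ] at h
    exact iS_sq_ne h2 (hρi h)
  have hi4 : i ^ 4 = 1 := by rw [hi, ← map_pow, iS_four, map_one]
  have hj2 : j ^ 2 = i ^ 2 := by rw [hi, hj, ← map_pow, ← map_pow, jS_sq hab]
  have hji : j * i = i ^ 3 * j := by
    rw [hi, hj, ← map_pow, ← map_mul, ← map_mul, jS_iS hab]
  have hj2' : j ^ 2 ≠ 1 := by rw [hj2]; exact hi2
  have hj4 : j ^ 4 = 1 := by
    have : j ^ 4 = (j ^ 2) ^ 2 := by rw [← pow_mul]
    rw [this, hj2, ← pow_mul]; exact hi4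
  have hR2 : IsPGroup 2 ↥(zpowers i ⊔ zpowers j) :=
    isPGroup_zpowers_sup_zpowers i j 2 2 3 (orderOf_four_of hi2 hi4) (orderOf_four_of hj2' hj4)
      (conj_of_rel hji)
  obtain ⟨T, hT⟩ := hR2.exists_le_sylow
  have hiT : i ∈ T := hT ((le_sup_left : zpowers i ≤ _) (mem_zpowers i))
  have hjT : j ∈ T := hT ((le_sup_right : zpowers j ≤ _) (mem_zpowers j))
  have hcardF : Fintype.card (ZMod q) = q := ZMod.card q
  have hqd : Cfsg.IsQuasiDihedral ↥(T : Subgroup (GL (Fin 2) (ZMod q))) :=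
    (Cfsg.Agent.S1217.result T).1 (by rw [hcardF]; exact hq4)
  have hcard : Nat.card ↥(T : Subgroup (GL (Fin 2) (ZMod q))) = 2 ^ (m + 2) := by
    rw [T.card_eq_multiplicity, Cfsg.Agent.S1217.card_GL2, hcardF,
      (Cfsg.Agent.Helper73.v2_card_GL2_three q hq4).1, hqv]
  refine ⟨⟨i, j, w, T, hns, hiT, hjT, ?_, ?_, wS_cube_central h2 hab, hi2, hji, hqd, hcard⟩⟩
  · rw [hi, hj, hw, ← map_mul, ← map_mul, wS_iS h2 hab]
  · rw [hi, hj, hw, ← map_mul, ← map_mul, ← map_mul, wS_jS h2 hab]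

variable {Ω : Type*} [Group Ω] {S : Subgroup Ω}

/-- quasi-dihedral groups carry a saturated fusion system in which they are not normal -/
theorem semi_case [Finite S] (hS : Cfsg.IsQuasiDihedral ↥S) (hAut : IsPGroup 2 (MulAut S)) :
    ∃ F : FusionSystem S, F.IsSaturated 2 ∧ ¬ F.IsNormal S := by
  obtain ⟨k, hcardS, ⟨ψS⟩⟩ := Cfsg.Agent.Helper20.exists_iso_SD hS
  obtain ⟨q, hfq, ⟨D⟩⟩ := exists_glData (k + 2) (by omega)
  obtain ⟨k', hcardT, ⟨ψT⟩⟩ := Cfsg.Agent.Helper20.exists_iso_SD D.hqd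
  have hkk : k' = k := by
    have h1 : (2 : ℕ) ^ (k' + 4) = 2 ^ (k + 2 + 2) := by rw [← hcardT, D.hcard]
    have := Nat.pow_right_injective (le_refl 2) h1
    omega
  subst hkk
  exact exists_of_conj D.i D.j D.w D.hwi D.hwj D.hw3
    (fun h => not_comm_of_rel D.hi2 D.hji (by rw [h])) D.T D.hiT D.hjT (ψS.symm.trans ψT) hAut

end Cfsg.Agent.Helper73.DSQ
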