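import Mathlib
import Cfsg.Agent.Lib.Helper73.DSQSemi

set_option autoImplicit false

/-!
# Dihedral groups are not resistant

Using `PGL₂(q)` for a prime `q ≡ 3 mod 4` with a prescribed `2`-part of `q + 1`.
-/

namespace Cfsg.Agent.Helper73.DSQ

open Matrix Subgroup Cfsg

theorem sddata_top {T : Type*} [Group T] {k : ℕ} {x y : T}
    (D : Cfsg.Agent.Helper20.SDData T k x y) : zpowers x ⊔ zpowers y = ⊤ := by
  rw [eq_top_iff]
  intro t _
  obtain ⟨p, rfl⟩ := D.elt_bijective.2 t
  unfold Cfsg.Agent.Helper20.SDData.elt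
  apply mul_mem
  · exact (le_sup_left : zpowers x ≤ _) (Cfsg.Agent.Helper98.zpw_mem_zpowers _)
  · split_ifs
    · exact (le_sup_right : zpowers y ≤ _) (mem_zpowers y)
    · exact one_mem _

theorem four_le_two_pow (k : ℕ) : 4 ≤ 2 ^ (k + 2) := by
  calc 4 = 2 ^ 2 := by norm_num
    _ ≤ 2 ^ (k + 2) := Nat.pow_le_pow_right (by norm_num) (by omega)

theorem dihedral_quotient {T H : Type*} [Group T] [Group H] [Finite H] {k : ℕ} {x y : T}
    (D : Cfsg.Agent.Helper20.SDData T k x y) (f : T →* H) (hz : f (x ^ (2 ^ (k + 2))) = 1)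
    (hu : f (x ^ (2 ^ (k + 1))) ≠ 1) :
    Nonempty (↥f.range ≃* DihedralGroup (2 ^ (k + 2))) := by
  have hf2 : Fact (Nat.Prime 2) := ⟨Nat.prime_two⟩
  set l := f x with hl
  set b := f y with hbdef
  have hb : b ^ 2 = 1 := by rw [hbdef, ← map_pow, pow_two, D.y_sq, map_one]
  have hl1 : l ^ (2 ^ (k + 2)) = 1 := by rw [hl, ← map_pow]; exact hz
  have hol : orderOf l = 2 ^ (k + 2) :=
    orderOf_eq_prime_pow (by rw [hl, ← map_pow]; exact hu) hl1
  have h4 := four_le_two_pow k
  have hl2 : l ^ 2 ≠ 1 := by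
    intro h
    have h1 := orderOf_dvd_of_pow_eq_one h
    rw [hol] at h1
    have := Nat.le_of_dvd (by norm_num) h1
    omega
  have hinv : b * l * b⁻¹ = l⁻¹ := by
    rw [hl, hbdef, ← map_inv, ← map_mul, ← map_mul, D.conj, map_pow, ← hl]
    rw [eq_inv_iff_mul_eq_one, ← pow_succ, Nat.sub_add_cancel Nat.one_le_two_pow, hl1]
  obtain ⟨e⟩ := Cfsg.Agent.S1349.dihedral_of_inverts hb hl2 hinv
  rw [hol] at e
  have hrange : f.range = zpowers b ⊔ zpowers l := by
    rw [MonoidHom.range_eq_map, ← sddata_top D, Subgroup.map_sup, MonoidHom.map_zpowers,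
      MonoidHom.map_zpowers, sup_comm]
  exact ⟨(MulEquiv.subgroupCongr hrange).trans e⟩

variable {Ω : Type*} [Group Ω] {S : Subgroup Ω}

/-- the group `GL₂(q)` -/
local notation "G" q => GL (Fin 2) (ZMod q)

/-- dihedral groups of order at least `8` carry a saturated fusion system in which they are not
normal -/
theorem dihedral_case [Finite S] (k : ℕ) (hk : 2 ≤ k) (e : S ≃* DihedralGroup (2 ^ k))
    (hAut : IsPGroup 2 (MulAut S)) :
    ∃ F : FusionSystem S, F.IsSaturated 2 ∧ ¬ F.IsNormal S := by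
  have hf2 : Fact (Nat.Prime 2) := ⟨Nat.prime_two⟩
  obtain ⟨q, hfq, ⟨D⟩⟩ := exists_glData k hk
  obtain ⟨k', x, y, Dx⟩ := Cfsg.Agent.Helper20.exists_sdData D.hqd
  have hkk : k = k' + 2 := by
    have h1 : (2 : ℕ) ^ (k' + 4) = 2 ^ (k + 2) := by rw [← Dx.card, D.hcard]
    have := Nat.pow_right_injective (le_refl 2) h1
    omega
  subst hkk
  -- the central involution
  set X : G q := (x : G q) with hX
  have hoX : orderOf X = 2 ^ (k' + 3) := by rw [hX, Subgroup.orderOf_coe, Dx.ox]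
  set u : G q := X ^ (2 ^ (k' + 1)) with hu
  set zz : G q := X ^ (2 ^ (k' + 2)) with hzz
  have hzu : zz = u * u := by rw [hzz, hu, ← pow_add]; congr 1; ring
  have hzz1 : zz * zz = 1 := by
    rw [hzz, ← pow_add]
    have : 2 ^ (k' + 2) + 2 ^ (k' + 2) = 2 ^ (k' + 3) := by ring
    rw [this, ← hoX]; exact pow_orderOf_eq_one X
  have hzne : zz ≠ 1 := by
    intro h
    have h1 := orderOf_dvd_of_pow_eq_one h
    rw [hoX] at h1
    have h2 := Nat.le_of_dvd (by positivity) h1
    have h3 : (2 : ℕ) ^ (k' + 2) < 2 ^ (k' + 3) := Nat.pow_lt_pow_right (by norm_num) (by omega)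
    omega
  have hzval : zz.val = -1 := by
    apply QuatMat.eq_neg_one_of_sq_of_sq D.hns zz.val u.val
    · rw [hzu, Units.val_mul]
    · rw [← Units.val_mul, hzz1, Units.val_one]
    · intro h
      apply hzne
      exact Units.ext h
  have hzc : zz ∈ center (G q) := by
    rw [Matrix.GeneralLinearGroup.mem_center_iff_val_mem_range_scalar]
    exact ⟨-1, by rw [hzval, map_neg, map_one]⟩
  have huc : u ∉ center (G q) := by
    intro h
    rw [Matrix.GeneralLinearGroup.mem_center_iff_val_mem_range_scalar] at h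
    obtain ⟨c, hc⟩ := h
    apply QuatMat.scalar_sq_ne_neg_one D.hns c
    rw [hc, ← Units.val_mul, ← hzu, hzval]
  -- the quotient
  set π := QuotientGroup.mk' (center (G q)) with hπ
  have hπs : Function.Surjective π := QuotientGroup.mk'_surjective _
  set f : ↥(D.T : Subgroup (G q)) →* (G q) ⧸ center (G q) :=
    π.comp (D.T : Subgroup (G q)).subtype with hf
  obtain ⟨eD⟩ := dihedral_quotient Dx f
    (by
      change π ((x ^ 2 ^ (k' + 2) : ↥(D.T : Subgroup (G q))) : G q) = 1
      rw [Subgroup.coe_pow]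
      exact (QuotientGroup.eq_one_iff _).mpr hzc)
    (by
      change π ((x ^ 2 ^ (k' + 1) : ↥(D.T : Subgroup (G q))) : G q) ≠ 1
      rw [Subgroup.coe_pow]
      intro h
      exact huc ((QuotientGroup.eq_one_iff _).mp h))
  set Tb : Sylow 2 ((G q) ⧸ center (G q)) := D.T.mapSurjective hπs with hTb
  have hTbcoe : (Tb : Subgroup ((G q) ⧸ center (G q))) = (D.T : Subgroup (G q)).map π :=
    Sylow.coe_mapSurjective hπs D.T
  have hrange : f.range = (Tb : Subgroup ((G q) ⧸ center (G q))) := by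
    rw [hTbcoe, hf, MonoidHom.range_comp, Subgroup.range_subtype]
  have hne : π D.j ≠ π D.i := by
    intro h
    have h1 : D.j⁻¹ * D.i ∈ center (G q) := QuotientGroup.eq.mp h
    have h2 := Subgroup.mem_center_iff.mp h1 D.j
    apply not_comm_of_rel D.hi2 D.hji
    have h3 : D.j * (D.j⁻¹ * D.i) * D.j = D.i * D.j := by group
    rw [← h3, mul_assoc, ← h2]
    group
  refine exists_of_conj (π D.i) (π D.j) (π D.w) ?_ ?_ ?_ hne Tb ?_ ?_
    ((e.trans eD.symm).trans (MulEquiv.subgroupCongr hrange)) hAut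
  · rw [← map_mul, ← map_mul, D.hwi]
  · rw [← map_mul, ← map_mul, ← map_mul, D.hwj]
  · rw [← map_pow]
    exact central_of_surjective π hπs _ D.hw3
  · change π D.i ∈ (Tb : Subgroup ((G q) ⧸ center (G q)))
    rw [hTbcoe]
    exact Subgroup.mem_map_of_mem π D.hiT
  · change π D.j ∈ (Tb : Subgroup ((G q) ⧸ center (G q)))
    rw [hTbcoe]
    exact Subgroup.mem_map_of_mem π D.hjT

end Cfsg.Agent.Helper73.DSQ
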