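import Mathlib
import Cfsg.Prelude.Def_CaseTheorems

set_option autoImplicit false

/-!
# Small facts on dihedral, quasi-dihedral and quaternion groups
-/

namespace Cfsg.Agent.Helper73.DSQFacts

theorem dihedral_not_comm (n : ℕ) (hn : 3 ≤ n) : ¬ ∀ a b : DihedralGroup n, a * b = b * a := by
  intro h
  have h1 := h (DihedralGroup.r 1) (DihedralGroup.sr 0)
  rw [DihedralGroup.r_mul_sr, DihedralGroup.sr_mul_r] at h1
  have h2 : (0 - 1 : ZMod n) = 0 + 1 := DihedralGroup.sr.inj h1
  have h3 : ((2 : ℕ) : ZMod n) = 0 := by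
    push_cast
    linear_combination -h2
  rw [ZMod.natCast_eq_zero_iff] at h3
  have := Nat.le_of_dvd (by norm_num) h3
  omega

theorem quaternion_not_comm (n : ℕ) (hn : 2 ≤ n) :
    ¬ ∀ a b : QuaternionGroup n, a * b = b * a := by
  intro h
  have h1 := h (QuaternionGroup.a 1) (QuaternionGroup.xa 0)
  rw [QuaternionGroup.a_mul_xa, QuaternionGroup.xa_mul_a] at h1
  have h2 : (0 - 1 : ZMod (2 * n)) = 0 + 1 := QuaternionGroup.xa.inj h1
  have h3 : ((2 : ℕ) : ZMod (2 * n)) = 0 := by
    push_cast
    linear_combination -h2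
  rw [ZMod.natCast_eq_zero_iff] at h3
  have := Nat.le_of_dvd (by norm_num) h3
  omega

theorem qd_not_comm {S : Type*} [Group S] (h : Cfsg.IsQuasiDihedral S) :
    ¬ ∀ a b : S, a * b = b * a := by
  intro hc
  obtain ⟨n, hn, -, x, y, hx, -, hxy⟩ := h
  rw [hc y x, mul_inv_cancel_right] at hxy
  have h4 : 4 ≤ 2 ^ (n - 1) := by
    calc 4 = 2 ^ 2 := by norm_num
      _ ≤ 2 ^ (n - 1) := Nat.pow_le_pow_right (by norm_num) (by omega)
  have e : 2 ^ (n - 1) - 1 = (2 ^ (n - 1) - 2) + 1 := by omega
  rw [e, pow_succ] at hxy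
  have h2 : x ^ (2 ^ (n - 1) - 2) = 1 := by
    have := hxy.symm
    exact mul_eq_right.mp this
  have h3 := orderOf_dvd_of_pow_eq_one h2
  rw [hx] at h3
  have h5 := Nat.le_of_dvd (by omega) h3
  have h6 : 2 ^ n = 2 * 2 ^ (n - 1) := by
    rw [← pow_succ']; congr 1; omega
  omega

set_option maxRecDepth 100000 in
theorem dihedral_one_comm : ∀ a b : DihedralGroup 1, a * b = b * a := by decide

set_option maxRecDepth 100000 in
theorem dihedral_two_comm : ∀ a b : DihedralGroup 2, a * b = b * a := by decide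

set_option maxRecDepth 100000 in
theorem quaternion_one_comm : ∀ a b : QuaternionGroup 1, a * b = b * a := by decide

/-- a finite nonabelian group isomorphic to a dihedral group `D_n` has `n ≥ 3` -/
theorem three_le_of_dihedral {S : Type*} [Group S] [Finite S] (hna : ¬ ∀ a b : S, a * b = b * a)
    (n : ℕ) (e : S ≃* DihedralGroup n) : 3 ≤ n := by
  by_contra hlt
  have hcomm : ∀ a b : DihedralGroup n, a * b = b * a := by
    have hn : n = 0 ∨ n = 1 ∨ n = 2 := by omega
    rcases hn with rfl | rfl | rfl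
    · exfalso
      have h1 : Nat.card S = 0 := by rw [Nat.card_congr e.toEquiv, DihedralGroup.nat_card]
      have h2 : 0 < Nat.card S := Nat.card_pos
      omega
    · exact dihedral_one_comm
    · exact dihedral_two_comm
  apply hna
  intro a b
  apply e.injective
  rw [map_mul, map_mul, hcomm]

/-- a finite nonabelian group isomorphic to a quaternion group `Q_n` has `n ≥ 2` -/
theorem two_le_of_quaternion {S : Type*} [Group S] [Finite S] (hna : ¬ ∀ a b : S, a * b = b * a)
    (n : ℕ) (e : S ≃* QuaternionGroup n) : 2 ≤ n := by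
  by_contra hlt
  have hn : n = 0 ∨ n = 1 := by omega
  rcases hn with rfl | rfl
  · have hinf : Infinite (QuaternionGroup 0) := by
      apply Infinite.of_injective (fun k : ℤ => (QuaternionGroup.a (k : ZMod (2 * 0))))
      intro a b hab
      have h1 := QuaternionGroup.a.inj hab
      have h2 : ∀ c : ℤ, ((c : ZMod (2 * 0)) : ZMod (2 * 0)) = (c : ℤ) := fun c => by
        simp
      simpa using h1
    have : Infinite S := Infinite.of_injective e.symm e.symm.injective
    exact not_finite S
  · apply hna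
    intro a b
    apply e.injective
    rw [map_mul, map_mul, quaternion_one_comm]

theorem dihedral_two_pow {S : Type*} [Group S] [Finite S] (hS : IsPGroup 2 S) (n : ℕ)
    (e : S ≃* DihedralGroup n) : ∃ k, n = 2 ^ k := by
  have hf2 : Fact (Nat.Prime 2) := ⟨Nat.prime_two⟩
  obtain ⟨a, ha⟩ := IsPGroup.iff_card.mp hS
  rw [Nat.card_congr e.toEquiv, DihedralGroup.nat_card] at ha
  have hdvd : n ∣ 2 ^ a := by rw [← ha]; exact Dvd.intro_left _ rfl
  obtain ⟨k, -, hk⟩ := (Nat.dvd_prime_pow Nat.prime_two).mp hdvd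
  exact ⟨k, hk⟩

theorem quaternion_two_pow {S : Type*} [Group S] [Finite S] (hS : IsPGroup 2 S) (n : ℕ)
    (hn : n ≠ 0) (e : S ≃* QuaternionGroup n) : ∃ k, n = 2 ^ k := by
  have hf2 : Fact (Nat.Prime 2) := ⟨Nat.prime_two⟩
  have : NeZero n := ⟨hn⟩
  obtain ⟨a, ha⟩ := IsPGroup.iff_card.mp hS
  rw [Nat.card_congr e.toEquiv, Nat.card_eq_fintype_card, QuaternionGroup.card] at ha
  have hdvd : n ∣ 2 ^ a := by rw [← ha]; exact Dvd.intro_left _ rfl
  obtain ⟨k, -, hk⟩ := (Nat.dvd_prime_pow Nat.prime_two).mp hdvd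
  exact ⟨k, hk⟩

/-- the dihedral group of order four is the Klein four-group -/
theorem dihedral_two_equiv :
    Nonempty (DihedralGroup 2 ≃* Multiplicative (ZMod (2 ^ 1)) × Multiplicative (ZMod (2 ^ 1))) := by
  have h1 : IsKleinFour (DihedralGroup 2) := inferInstance
  have h2 : IsKleinFour (Multiplicative (ZMod (2 ^ 1)) × Multiplicative (ZMod (2 ^ 1))) :=
    { card_four := by
        rw [Nat.card_prod, Nat.card_eq_fintype_card, Fintype.card_multiplicative, ZMod.card]
        norm_num
      exponent_two := by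
        apply Nat.dvd_antisymm
        · apply Monoid.exponent_dvd_of_forall_pow_eq_one
          decide
        · by_contra hnd
          have h3 : Monoid.exponent (Multiplicative (ZMod (2 ^ 1)) × Multiplicative (ZMod (2 ^ 1))) = 1 := by
            have hd : Monoid.exponent (Multiplicative (ZMod (2 ^ 1)) × Multiplicative (ZMod (2 ^ 1))) ∣ 2 :=
              Monoid.exponent_dvd_of_forall_pow_eq_one (by decide)
            rcases (Nat.dvd_prime Nat.prime_two).mp hd with h | h
            · exact h
            · exact absurd (dvd_of_eq h.symm) hnd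
          have h4 := Monoid.pow_exponent_eq_one
            ((Multiplicative.ofAdd (1 : ZMod (2 ^ 1)), 1) :
              Multiplicative (ZMod (2 ^ 1)) × Multiplicative (ZMod (2 ^ 1)))
          rw [h3, pow_one] at h4
          revert h4
          decide }
  exact IsKleinFour.nonempty_mulEquiv

end Cfsg.Agent.Helper73.DSQFacts
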