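import Mathlib
import Cfsg.Prelude.Def_LieClassical
import Cfsg.Agent.Lib.Lead.UnitaryGroupCard
import Cfsg.Agent.Lib.Helper73.GL2Sylow

set_option autoImplicit false
set_option linter.unusedSectionVars false
open scoped MatrixGroups

namespace Cfsg.Agent.Helper73

open Matrix

section GU2

variable {F : Type*} [Field F] [Fintype F] {q : ℕ}

theorem mem_GU2 (hF : Fintype.card F = q ^ 2) (g : GL (Fin 2) F) (a b c d : F)
    (hg : (g : Matrix (Fin 2) (Fin 2) F) = !![a, b; c, d])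
    (h1 : a ^ (q + 1) + c ^ (q + 1) = 1) (h2 : b ^ (q + 1) + d ^ (q + 1) = 1)
    (h3 : a * b ^ q + c * d ^ q = 0) (h4 : b * a ^ q + d * c ^ q = 0) :
    g ∈ Cfsg.GU 2 F q := by
  rw [Cfsg.Agent.Lead.mem_GU_iff, hg]
  intro u v
  simp only [Cfsg.hermForm, Fin.sum_univ_two, Matrix.mulVec, dotProduct, Matrix.of_apply,
    Matrix.cons_val', Matrix.cons_val_zero, Matrix.cons_val_one, Matrix.cons_val_fin_one]
  rw [Cfsg.Agent.Lead.HermForm.herm_add_pow hF, Cfsg.Agent.Lead.HermForm.herm_add_pow hF,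
    mul_pow, mul_pow, mul_pow, mul_pow]
  linear_combination (u 0 * v 0 ^ q) * h1 + (u 1 * v 1 ^ q) * h2 + (u 0 * v 1 ^ q) * h3 +
    (u 1 * v 0 ^ q) * h4

/-- order of `GU₂(q)` -/
theorem card_GU2 (hF : Fintype.card F = q ^ 2) :
    Nat.card (Cfsg.GU 2 F q) = q * ((q + 1) * (q ^ 2 - 1)) := by
  rw [Cfsg.Agent.Lead.card_GU hF 2]
  simp [Finset.prod_range_succ]

lemma v2_card_GU2_one (q : ℕ) (hq : q % 4 = 1) (hq1 : 1 < q) :
    (q * ((q + 1) * (q ^ 2 - 1))).factorization 2 = (q - 1).factorization 2 + 2 ∧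
      2 ≤ (q - 1).factorization 2 := by
  obtain ⟨r, rfl⟩ : ∃ r, q = r + 1 := ⟨q - 1, by omega⟩
  obtain ⟨s, rfl⟩ : ∃ s, r = 2 * (2 * s) := ⟨r / 4, by omega⟩
  have hs : s ≠ 0 := by omega
  have h0 : (2 * (2 * s) + 1) ^ 2 - 1 = (2 * (2 * s)) * (2 * (2 * s + 1)) := by
    apply Nat.sub_eq_of_eq_add; ring
  have h1 : (2 * (2 * s) + 1).factorization 2 = 0 := v2_odd _ (by omega)
  have h2 : (2 * (2 * s) + 1 + 1).factorization 2 = 1 := by
    have : 2 * (2 * s) + 1 + 1 = 2 * (2 * s + 1) := by ring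
    rw [this, v2_two_mul _ (by omega), v2_odd _ (by omega)]
  have h2' : (2 * (2 * s + 1)).factorization 2 = 1 := by
    rw [v2_two_mul _ (by omega), v2_odd _ (by omega)]
  have h3 : (2 * (2 * s)).factorization 2 = s.factorization 2 + 1 + 1 := by
    rw [v2_two_mul _ (by omega), v2_two_mul _ hs]
  rw [h0, Nat.add_sub_cancel, Nat.factorization_mul (by omega) (by positivity),
    Nat.factorization_mul (by omega) (by positivity),
    Nat.factorization_mul (by omega) (by omega)]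
  simp only [Finsupp.add_apply]
  rw [h1, h2, h2', h3]
  constructor <;> omega

lemma v2_card_GU2_three (q : ℕ) (hq : q % 4 = 3) :
    (q * ((q + 1) * (q ^ 2 - 1))).factorization 2 = 2 * (q + 1).factorization 2 + 1 ∧
      2 ≤ (q + 1).factorization 2 := by
  obtain ⟨r, rfl⟩ : ∃ r, q = r + 1 := ⟨q - 1, by omega⟩
  obtain ⟨s, rfl⟩ : ∃ s, r = 2 * (2 * s + 1) := ⟨r / 4, by omega⟩
  have h0 : (2 * (2 * s + 1) + 1) ^ 2 - 1 = (2 * (2 * s + 1)) * (2 * (2 * s + 1) + 1 + 1) := by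
    apply Nat.sub_eq_of_eq_add; ring
  have h1 : (2 * (2 * s + 1) + 1).factorization 2 = 0 := v2_odd _ (by omega)
  have h2 : (2 * (2 * s + 1)).factorization 2 = 1 := by
    rw [v2_two_mul _ (by omega), v2_odd _ (by omega)]
  have h5 : 2 * (2 * s + 1) + 1 + 1 = 2 * (2 * (s + 1)) := by ring
  have h4 : (2 * (2 * (s + 1))).factorization 2 = (s + 1).factorization 2 + 1 + 1 := by
    rw [v2_two_mul _ (by omega), v2_two_mul _ (by omega)]
  rw [h0, Nat.factorization_mul (by omega) (by positivity),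
    Nat.factorization_mul (by omega) (by positivity),
    Nat.factorization_mul (by omega) (by omega)]
  simp only [Finsupp.add_apply]
  rw [h1, h2, h5, h4]
  constructor <;> omega

/-- transport of wreathed generators from a subgroup's ambient group -/
theorem wr_to_subgroup {G : Type*} [Group G] (H : Subgroup G) (x y z : G) (n : ℕ)
    (hxH : x ∈ H) (hyH : y ∈ H) (hzH : z ∈ H)
    (hx : orderOf x = 2 ^ n) (hxy : x * y = y * x)
    (hdisj : Subgroup.zpowers x ⊓ Subgroup.zpowers y = ⊥) (hz : orderOf z = 2)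
    (hzx : z * x * z⁻¹ = y) :
    ∃ x' y' z' : ↥H, orderOf x' = 2 ^ n ∧ x' * y' = y' * x' ∧
      Subgroup.zpowers x' ⊓ Subgroup.zpowers y' = ⊥ ∧ orderOf z' = 2 ∧ z' * x' * z'⁻¹ = y' := by
  refine ⟨⟨x, hxH⟩, ⟨y, hyH⟩, ⟨z, hzH⟩, ?_, ?_, ?_, ?_, ?_⟩
  · rw [← hx]; exact Subgroup.orderOf_mk x hxH
  · exact Subtype.ext hxy
  · rw [eq_bot_iff]
    rintro g ⟨h1, h2⟩
    have h3 : (g : G) ∈ Subgroup.zpowers x ⊓ Subgroup.zpowers y := by
      constructor
      · obtain ⟨i, hi⟩ := Subgroup.mem_zpowers_iff.1 h1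
        exact Subgroup.mem_zpowers_iff.2 ⟨i, by rw [← hi]; simp⟩
      · obtain ⟨i, hi⟩ := Subgroup.mem_zpowers_iff.1 h2
        exact Subgroup.mem_zpowers_iff.2 ⟨i, by rw [← hi]; simp⟩
    rw [hdisj, Subgroup.mem_bot] at h3
    rw [Subgroup.mem_bot]
    exact Subtype.ext h3
  · rw [← hz]; exact Subgroup.orderOf_mk z hzH
  · exact Subtype.ext hzx

/-- transport of quasi-dihedral generators from a subgroup's ambient group -/
theorem qd_to_subgroup {G : Type*} [Group G] (H : Subgroup G) (x y : G) (n k : ℕ)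
    (hxH : x ∈ H) (hyH : y ∈ H)
    (hx : orderOf x = 2 ^ n) (hy : orderOf y = 2) (hxy : y * x * y⁻¹ = x ^ k) :
    ∃ x' y' : ↥H, orderOf x' = 2 ^ n ∧ orderOf y' = 2 ∧ y' * x' * y'⁻¹ = x' ^ k := by
  refine ⟨⟨x, hxH⟩, ⟨y, hyH⟩, ?_, ?_, ?_⟩
  · rw [← hx]; exact Subgroup.orderOf_mk x hxH
  · rw [← hy]; exact Subgroup.orderOf_mk y hyH
  · exact Subtype.ext hxy

lemma swapGL_mem_GU (hF : Fintype.card F = q ^ 2) : (swapGL : GL (Fin 2) F) ∈ Cfsg.GU 2 F q := by
  have hq : q ≠ 0 := by have := Cfsg.Agent.Helper19.herm_two_le hF; omega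
  apply mem_GU2 hF swapGL 0 1 1 0 rfl <;> simp [hq]

theorem wr_elements_GU (hF : Fintype.card F = q ^ 2) (n : ℕ) (ω : Fˣ) (hω : orderOf ω = 2 ^ n)
    (hn : 2 ^ n ∣ q + 1) :
    ∃ x y z : GL (Fin 2) F, x ∈ Cfsg.GU 2 F q ∧ y ∈ Cfsg.GU 2 F q ∧ z ∈ Cfsg.GU 2 F q ∧
      orderOf x = 2 ^ n ∧ x * y = y * x ∧
      Subgroup.zpowers x ⊓ Subgroup.zpowers y = ⊥ ∧ orderOf z = 2 ∧ z * x * z⁻¹ = y := by
  have hωq : (ω : F) ^ (q + 1) = 1 := by
    obtain ⟨u, hu⟩ := hn
    have h1 : ω ^ (2 ^ n) = 1 := by rw [← hω]; exact pow_orderOf_eq_one ω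
    have h2 : ω ^ (q + 1) = 1 := by rw [hu, pow_mul, h1, one_pow]
    have := congrArg (fun u : Fˣ => (u : F)) h2
    simpa using this
  refine ⟨Units.map diagL ω, Units.map diagR ω, swapGL, ?_, ?_, swapGL_mem_GU hF, ?_, ?_, ?_, ?_, ?_⟩
  · apply Cfsg.Agent.Lead.diag_mem_GU ![(ω : F), 1] _ _ rfl
    intro i; fin_cases i <;> simp [hωq]
  · apply Cfsg.Agent.Lead.diag_mem_GU ![1, (ω : F)] _ _ rfl
    intro i; fin_cases i <;> simp [hωq]
  · rw [orderOf_injective _ (Units.map_injective diagL_injective), hω]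
  · apply Units.ext
    simp only [Units.val_mul, Units.coe_map, MonoidHom.coe_mk, OneHom.coe_mk, diagL, diagR]
    rw [Matrix.diagonal_mul_diagonal, Matrix.diagonal_mul_diagonal]
    congr 1
    ext i; fin_cases i <;> simp
  · rw [eq_bot_iff]
    rintro g ⟨h1, h2⟩
    obtain ⟨i, hi⟩ := Subgroup.mem_zpowers_iff.1 h1
    obtain ⟨j, hj⟩ := Subgroup.mem_zpowers_iff.1 h2
    rw [← map_zpow] at hi hj
    have h3 : ((Units.map diagL (ω ^ i) : GL (Fin 2) F) : Matrix (Fin 2) (Fin 2) F) =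
        ((Units.map diagR (ω ^ j) : GL (Fin 2) F) : Matrix (Fin 2) (Fin 2) F) := by
      rw [hi, hj]
    have h4 := congrFun (congrFun h3 0) 0
    simp only [Units.coe_map, MonoidHom.coe_mk, OneHom.coe_mk, diagL, diagR] at h4
    have h5 : ((ω ^ i : Fˣ) : F) = 1 := by simpa using h4
    have h6 : ω ^ i = 1 := Units.ext h5
    rw [Subgroup.mem_bot, ← hi, h6, map_one]
  · apply orderOf_eq_prime
    · apply Units.ext
      rw [pow_two]
      exact swapMat_mul_self
    · intro h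
      have := congrArg (fun g : GL (Fin 2) F => (g : Matrix (Fin 2) (Fin 2) F) 0 0) h
      simp [swapGL, swapMat] at this
  · apply Units.ext
    have : (swapGL : GL (Fin 2) F)⁻¹ = swapGL := rfl
    rw [this]
    simp only [Units.val_mul, Units.coe_map]
    exact swap_conj _

/-- the matrix of `l • P₊ + m • P₋` for the two idempotents attached to an isotropic pair -/
def torusMat (c C h l m : F) : Matrix (Fin 2) (Fin 2) F :=
  !![(l + m) * h, C * (m - l) * h; c * (l - m) * h, (l + m) * h]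

lemma torusMat_one (c C h : F) (hh : 2 * h = 1) : torusMat c C h 1 1 = 1 := by
  have h1 : (1 + 1) * h = 1 := by linear_combination hh
  ext i j; fin_cases i <;> fin_cases j <;> simp [torusMat, h1]

lemma torusMat_mul (c C h : F) (hh : 2 * h = 1) (hcC : c * C = -1) (l m l' m' : F) :
    torusMat c C h l m * torusMat c C h l' m' = torusMat c C h (l * l') (m * m') := by
  ext i j; fin_cases i <;> fin_cases j <;>
    simp only [torusMat, Matrix.mul_apply, Fin.sum_univ_two, Matrix.of_apply,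
      Matrix.cons_val', Matrix.cons_val_zero, Matrix.cons_val_one, Matrix.cons_val_fin_one,
      Fin.zero_eta, Fin.mk_one]
  · linear_combination ((m - l) * (l' - m') * h ^ 2) * hcC +
      ((l * l' + m * m') * h) * hh
  · linear_combination (C * (m * m' - l * l') * h) * hh
  · linear_combination (c * (l * l' - m * m') * h) * hh
  · linear_combination ((l - m) * (m' - l') * h ^ 2) * hcC +
      ((l * l' + m * m') * h) * hh

/-- the torus as a monoid hom from `F × F` -/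
def torusHom (c C h : F) (hh : 2 * h = 1) (hcC : c * C = -1) :
    F × F →* Matrix (Fin 2) (Fin 2) F where
  toFun p := torusMat c C h p.1 p.2
  map_one' := torusMat_one c C h hh
  map_mul' p p' := (torusMat_mul c C h hh hcC p.1 p.2 p'.1 p'.2).symm

lemma torusHom_injective (c C h : F) (hh : 2 * h = 1) (hcC : c * C = -1) :
    Function.Injective (torusHom c C h hh hcC) := by
  intro p p' hpp
  have h00 := congrFun (congrFun hpp 0) 0
  have h10 := congrFun (congrFun hpp 1) 0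
  simp only [torusHom, MonoidHom.coe_mk, OneHom.coe_mk, torusMat, Matrix.of_apply,
      Matrix.cons_val', Matrix.cons_val_zero, Matrix.cons_val_one, Matrix.cons_val_fin_one] at h00 h10
  have h1 : p.1 + p.2 = p'.1 + p'.2 := by
    linear_combination 2 * h00 - (p.1 + p.2 - p'.1 - p'.2) * hh
  have h2 : p.1 - p.2 = p'.1 - p'.2 := by
    linear_combination (-2 * C) * h10 - (p.1 - p.2 - p'.1 + p'.2) * hh +
      ((p.1 - p.2 - p'.1 + p'.2) * 2 * h) * hcC
  have h20 : (2 : F) ≠ 0 := by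
    intro h0; rw [h0, zero_mul] at hh; exact zero_ne_one hh
  apply Prod.ext
  · have : 2 * p.1 = 2 * p'.1 := by linear_combination h1 + h2
    exact mul_left_cancel₀ h20 this
  · have : 2 * p.2 = 2 * p'.2 := by linear_combination h1 - h2
    exact mul_left_cancel₀ h20 this

lemma torusMat_mem_GU (hF : Fintype.card F = q ^ 2) (c h l m : F) (hh : 2 * h = 1)
    (hcC : c * c ^ q = -1) (hlm : l * m ^ q = 1) (hml : m * l ^ q = 1)
    (g : GL (Fin 2) F) (hg : (g : Matrix (Fin 2) (Fin 2) F) = torusMat c (c ^ q) h l m) :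
    g ∈ Cfsg.GU 2 F q := by
  have hadd := Cfsg.Agent.Lead.HermForm.herm_add_pow hF
  have hsub := Cfsg.Agent.Helper19.herm_sub_pow hF
  have h2q : (2 : F) ^ q = 2 := by
    have := hadd 1 1
    rw [one_pow] at this
    have e : (1 : F) + 1 = 2 := by norm_num
    rwa [e] at this
  have h20 : (2 : F) ≠ 0 := by
    intro h0; rw [h0, zero_mul] at hh; exact zero_ne_one hh
  have hhq : h ^ q = h := by
    have := congrArg (· ^ q) hh
    simp only [mul_pow, one_pow, h2q] at this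
    exact mul_left_cancel₀ h20 (this.trans hh.symm)
  have hCq : (c ^ q) ^ q = c := by
    rw [← pow_mul, ← sq, ← hF]; exact FiniteField.pow_card c
  have haq : ((l + m) * h) ^ q = (l ^ q + m ^ q) * h := by rw [mul_pow, hadd, hhq]
  have hbq : (c ^ q * (m - l) * h) ^ q = c * (m ^ q - l ^ q) * h := by
    rw [mul_pow, mul_pow, hsub, hhq, hCq]
  have hcq : (c * (l - m) * h) ^ q = c ^ q * (l ^ q - m ^ q) * h := by
    rw [mul_pow, mul_pow, hsub, hhq]
  apply mem_GU2 hF g _ _ _ _ hg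
  · rw [pow_succ, pow_succ, haq, hcq]
    linear_combination (h ^ 2 * (l ^ q - m ^ q) * (l - m)) * hcC + (2 * h ^ 2) * hml +
      (2 * h ^ 2) * hlm + (2 * h + 1) * hh
  · rw [pow_succ, pow_succ, haq, hbq]
    linear_combination (h ^ 2 * (l ^ q - m ^ q) * (l - m)) * hcC + (2 * h ^ 2) * hml +
      (2 * h ^ 2) * hlm + (2 * h + 1) * hh
  · rw [haq, hbq]
    linear_combination (2 * c * h ^ 2) * hlm - (2 * c * h ^ 2) * hml
  · rw [haq, hcq]
    linear_combination (2 * c ^ q * h ^ 2) * hml - (2 * c ^ q * h ^ 2) * hlm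

lemma exists_norm_neg_one (hF : Fintype.card F = q ^ 2) (hq : Odd q) :
    ∃ c : F, c * c ^ q = -1 := by
  obtain ⟨g, hg⟩ := IsCyclic.exists_ofOrder_eq_natCard (α := Fˣ)
  rw [Nat.card_units, Nat.card_eq_fintype_card, hF] at hg
  obtain ⟨w, hw⟩ := hq
  have hq2 := Cfsg.Agent.Helper19.herm_two_le hF
  have hw1 : 1 ≤ w := by omega
  have hN : q ^ 2 - 1 = 2 * (w * (q + 1)) := by
    apply Nat.sub_eq_of_eq_add; rw [hw]; ring
  refine ⟨((g ^ w : Fˣ) : F), ?_⟩
  have h1 : ((g ^ w : Fˣ) : F) * ((g ^ w : Fˣ) : F) ^ q = ((g ^ (w * (q + 1)) : Fˣ) : F) := by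
    rw [pow_mul, pow_succ, Units.val_mul, Units.val_pow_eq_pow_val (g ^ w) q, mul_comm]
  rw [h1]
  have h2 : (g ^ (w * (q + 1))) * (g ^ (w * (q + 1))) = 1 := by
    rw [← pow_add, ← two_mul, ← hN, ← hg]; exact pow_orderOf_eq_one g
  have h3 : ((g ^ (w * (q + 1)) : Fˣ) : F) * ((g ^ (w * (q + 1)) : Fˣ) : F) = 1 := by
    rw [← Units.val_mul, h2, Units.val_one]
  rcases mul_self_eq_one_iff.1 h3 with h4 | h4
  · exfalso
    have h5 : g ^ (w * (q + 1)) = 1 := Units.ext h4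
    have h6 : w * (q + 1) < orderOf g := by
      rw [hg, hN]
      have : 0 < w * (q + 1) := by positivity
      omega
    exact pow_ne_one_of_lt_orderOf (by positivity) h6 h5
  · exact h4

theorem qd_elements_GU (hF : Fintype.card F = q ^ 2) (a t : ℕ) (ha : 1 ≤ a)
    (hq : q = 2 ^ a * (2 * t + 1) + 1) :
    ∃ x y : GL (Fin 2) F, x ∈ Cfsg.GU 2 F q ∧ y ∈ Cfsg.GU 2 F q ∧
      orderOf x = 2 ^ (a + 1) ∧ orderOf y = 2 ∧ y * x * y⁻¹ = x ^ (2 ^ a - 1) := by
  obtain ⟨a', rfl⟩ : ∃ a', a = a' + 1 := ⟨a - 1, by omega⟩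
  have hqodd : Odd q := ⟨2 ^ a' * (2 * t + 1), by rw [hq, pow_succ]; ring⟩
  obtain ⟨c, hcC⟩ := exists_norm_neg_one hF hqodd
  have h20 : (2 : F) ≠ 0 := by
    intro h0
    have h1 : ringChar F = 2 := CharP.ringChar_of_prime_eq_zero Nat.prime_two (by exact_mod_cast h0)
    have h2 := FiniteField.even_card_of_char_two h1
    rw [hF] at h2
    have h3 : Odd (q ^ 2) := hqodd.pow
    rw [Nat.odd_iff] at h3
    omega
  set h : F := (2 : F)⁻¹ with hdef
  have hh : 2 * h = 1 := mul_inv_cancel₀ h20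
  -- element of order 2^(a'+2)
  have hdvd : 2 ^ (a' + 1 + 1) ∣ Nat.card F - 1 := by
    rw [Nat.card_eq_fintype_card, hF]
    have : q ^ 2 - 1 = 2 ^ (a' + 1 + 1) * ((2 * t + 1) * (2 ^ a' * (2 * t + 1) + 1)) := by
      apply Nat.sub_eq_of_eq_add; rw [hq]; ring
    rw [this]; exact Dvd.intro _ rfl
  obtain ⟨ω, hω⟩ := exists_unit_orderOf (K := F) (2 ^ (a' + 1 + 1)) hdvd
  have hω1 : ω ^ (2 ^ (a' + 1 + 1)) = 1 := by rw [← hω]; exact pow_orderOf_eq_one ω
  set k := 2 ^ (a' + 1) - 1 with hk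
  have hk1 : k + 1 = 2 ^ (a' + 1) := by
    have : 1 ≤ 2 ^ (a' + 1) := Nat.one_le_two_pow
    omega
  -- ω^(k+q) = 1
  have hkq : ω ^ k * ω ^ q = 1 := by
    have : k + q = 2 ^ (a' + 1 + 1) * (t + 1) := by
      rw [hq]
      have : k + (2 ^ (a' + 1) * (2 * t + 1) + 1) = (k + 1) + 2 ^ (a' + 1) * (2 * t + 1) := by ring
      rw [this, hk1]; ring
    rw [← pow_add, this, pow_mul, hω1, one_pow]
  have hkk : (ω ^ k) ^ k = ω := by
    have : k * k = 2 ^ (a' + 1 + 1) * (2 ^ a' - 1) + 1 := by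
      have e1 : k = 2 * 2 ^ a' - 1 := by rw [hk, pow_succ]; ring_nf
      have e2 : 1 ≤ 2 ^ a' := Nat.one_le_two_pow
      obtain ⟨e, he⟩ : ∃ e, 2 ^ a' = e + 1 := ⟨2 ^ a' - 1, by omega⟩
      have e3 : k = 2 * e + 1 := by omega
      rw [e3, pow_succ, pow_succ, he, Nat.add_sub_cancel]; ring
    rw [← pow_mul, this, pow_succ, pow_mul, hω1, one_pow, one_mul]
  have hml : ((ω ^ k : Fˣ) : F) * (ω : F) ^ q = 1 := by
    have := congrArg (fun u : Fˣ => (u : F)) hkq
    simpa using this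
  have hlm : (ω : F) * ((ω ^ k : Fˣ) : F) ^ q = 1 := by
    have h1 := congrArg (· ^ q) hml
    simp only [mul_pow, one_pow] at h1
    have h2 : ((ω : F) ^ q) ^ q = ω := by
      rw [← pow_mul, ← sq, ← hF]; exact FiniteField.pow_card _
    rw [h2] at h1
    rw [mul_comm]; exact h1
  let ψ : Fˣ →* GL (Fin 2) F := (Units.map (torusHom c (c ^ q) h hh hcC)).comp
    (MulEquiv.prodUnits.symm.toMonoidHom.comp ((MonoidHom.id Fˣ).prod (powMonoidHom k)))
  have hψval : ∀ u : Fˣ, ((ψ u : GL (Fin 2) F) : Matrix (Fin 2) (Fin 2) F) =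
      torusMat c (c ^ q) h (u : F) ((u ^ k : Fˣ) : F) := fun u => rfl
  have hψinj : Function.Injective ψ := by
    intro u v huv
    have h1 : torusHom c (c ^ q) h hh hcC ((u : F), ((u ^ k : Fˣ) : F)) =
        torusHom c (c ^ q) h hh hcC ((v : F), ((v ^ k : Fˣ) : F)) := by
      have := congrArg (fun g : GL (Fin 2) F => (g : Matrix (Fin 2) (Fin 2) F)) huv
      exact this
    have h2 := torusHom_injective c (c ^ q) h hh hcC h1
    exact Units.ext (congrArg Prod.fst h2)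
  let y : GL (Fin 2) F := Units.map diagR (-1 : Fˣ)
  have hyval : (y : Matrix (Fin 2) (Fin 2) F) = Matrix.diagonal ![1, -1] := rfl
  have hyy : y * y = 1 := by
    rw [← map_mul]; simp
  have hyinv : y⁻¹ = y := by rw [inv_eq_iff_mul_eq_one, hyy]
  refine ⟨ψ ω, y, ?_, ?_, ?_, ?_, ?_⟩
  · exact torusMat_mem_GU hF c h _ _ hh hcC hlm hml _ (hψval ω)
  · apply Cfsg.Agent.Lead.diag_mem_GU ![1, -1] _ _ hyval
    intro i
    have : Even (q + 1) := hqodd.add_one
    fin_cases i <;> simp [this.neg_one_pow]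
  · rw [orderOf_injective ψ hψinj, hω]
  · apply orderOf_eq_prime
    · rw [pow_two, hyy]
    · intro h1
      have := congrArg (fun g : GL (Fin 2) F => (g : Matrix (Fin 2) (Fin 2) F) 1 1) h1
      simp only [hyval] at this
      have h3 : (-1 : F) = 1 := by simpa using this
      have : (2 : F) = 0 := by linear_combination -h3
      exact h20 this
  · rw [hyinv, ← map_pow]
    apply Units.ext
    rw [Units.val_mul, Units.val_mul, hψval, hψval, hyval, hkk]
    ext i j; fin_cases i <;> fin_cases j <;>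
      simp [torusMat, Matrix.mul_apply, Fin.sum_univ_two, add_comm] <;> ring

end GU2

end Cfsg.Agent.Helper73
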