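import Mathlib
import Cfsg.Prelude.Def_OddOrderLocal

set_option autoImplicit false

/-!
# Abelian metacyclic groups have rank at most two

In an abelian metacyclic group the equation `x ^ n = 1` has at most `n²` solutions; hence a
metacyclic abelian `p`-group of the shape `(C × C) × H` with `C` cyclic of order `p ^ n > 1`
has `H` trivial.
-/

namespace Cfsg.Agent.Helper73.MetaAb

open Subgroup

theorem card_pow_eq_one_le_of_cyclic {C : Type*} [Group C] [Finite C] [IsCyclic C] (n : ℕ)
    (hn : 0 < n) : Nat.card {a : C // a ^ n = 1} ≤ n := by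
  classical
  have := Fintype.ofFinite C
  rw [Nat.card_eq_fintype_card, Fintype.card_subtype]
  exact IsCyclic.card_pow_eq_one_le hn

theorem card_pow_eq_one_le_sq {A : Type*} [Group A] [Finite A] (hab : ∀ a b : A, a * b = b * a)
    (hm : Cfsg.IsMetacyclic A) (n : ℕ) (hn : 0 < n) :
    Nat.card {x : A // x ^ n = 1} ≤ n * n := by
  obtain ⟨N, hN, hNc, hQc⟩ := hm
  let K : Subgroup A :=
    { carrier := {x | x ^ n = 1}
      one_mem' := one_pow n
      mul_mem' := fun {a b} ha hb => by
        rw [Set.mem_ofPred_eq] at ha hb ⊢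
        rw [(show Commute a b from hab a b).mul_pow, ha, hb, one_mul]
      inv_mem' := fun {a} ha => by
        rw [Set.mem_ofPred_eq] at ha ⊢
        rw [inv_pow, ha, inv_one] }
  have hK : ∀ x, x ∈ K ↔ x ^ n = 1 := fun x => Iff.rfl
  set g : K →* A ⧸ N := (QuotientGroup.mk' N).comp K.subtype with hg
  have h1 : Nat.card K = Nat.card g.ker * Nat.card g.range := by
    rw [← Subgroup.index_ker, Subgroup.card_mul_index]
  have h2 : Nat.card g.ker ≤ n := by
    refine le_trans ?_ (card_pow_eq_one_le_of_cyclic (C := N) n hn)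
    have hmem : ∀ k : g.ker, (k.1.1 : A) ∈ N := by
      intro k
      have h := k.2
      rw [MonoidHom.mem_ker] at h
      exact (QuotientGroup.eq_one_iff _).mp h
    refine Nat.card_le_card_of_injective
      (fun k => (⟨⟨k.1.1, hmem k⟩, Subtype.ext ((hK _).mp k.1.2)⟩ : {a : N // a ^ n = 1})) ?_
    intro a b h
    have h3 : (a.1.1 : A) = b.1.1 := congrArg (fun t : {a : N // a ^ n = 1} => (t.1.1 : A)) h
    exact Subtype.ext (Subtype.ext h3)
  have h3 : Nat.card g.range ≤ n := by
    refine le_trans ?_ (card_pow_eq_one_le_of_cyclic (C := A ⧸ N) n hn)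
    have hmem : ∀ y : g.range, (y.1 : A ⧸ N) ^ n = 1 := by
      intro y
      obtain ⟨k, hk⟩ := y.2
      rw [← hk, ← map_pow]
      have : k ^ n = 1 := Subtype.ext ((hK _).mp k.2)
      rw [this, map_one]
    refine Nat.card_le_card_of_injective
      (fun y => (⟨y.1, hmem y⟩ : {a : A ⧸ N // a ^ n = 1})) ?_
    intro a b h
    exact Subtype.ext (congrArg (fun t : {a : A ⧸ N // a ^ n = 1} => t.1) h)
  have h4 : Nat.card {x : A // x ^ n = 1} = Nat.card K :=
    Nat.card_congr (Equiv.subtypeEquivRight (fun x => (hK x).symm))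
  rw [h4, h1]
  exact Nat.mul_le_mul h2 h3

theorem le_card_pow_eq_one {B : Type*} [Group B] [Finite B] {p : ℕ} [Fact p.Prime]
    (hp : p ∣ Nat.card B) : p ≤ Nat.card {x : B // x ^ p = 1} := by
  obtain ⟨g, hg⟩ := exists_prime_orderOf_dvd_card' p hp
  have h1 : Nat.card (zpowers g) = p := by rw [Nat.card_zpowers, hg]
  have hmem : ∀ z : zpowers g, (z.1 : B) ^ p = 1 := by
    intro z
    obtain ⟨k, hk⟩ := z.2
    rw [← hk, ← zpow_natCast, ← zpow_mul, mul_comm, zpow_mul, zpow_natCast, ← hg,
      pow_orderOf_eq_one, one_zpow]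
  calc p = Nat.card (zpowers g) := h1.symm
    _ ≤ _ := Nat.card_le_card_of_injective
      (fun z => (⟨z.1, hmem z⟩ : {x : B // x ^ p = 1}))
      (fun a b h => Subtype.ext (congrArg (fun t : {x : B // x ^ p = 1} => t.1) h))

theorem card_pow_eq_one_prod {B C : Type*} [Group B] [Group C] (n : ℕ) :
    Nat.card {x : B × C // x ^ n = 1} =
      Nat.card {b : B // b ^ n = 1} * Nat.card {c : C // c ^ n = 1} := by
  rw [← Nat.card_prod]
  apply Nat.card_congr
  refine (Equiv.subtypeEquivRight ?_).trans
    (Equiv.subtypeProdEquivProd (p := fun b : B => b ^ n = 1) (q := fun c : C => c ^ n = 1))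
  intro x
  rw [Prod.ext_iff]
  simp

/-- a metacyclic abelian `p`-group which is `(C × C) × H` with `C` nontrivial has `H` trivial -/
theorem card_eq_one_of_metacyclic_prod {S : Type*} [Group S] [Finite S] {p : ℕ} [hp : Fact p.Prime]
    (hS : IsPGroup p S) (hab : ∀ a b : S, a * b = b * a) (hm : Cfsg.IsMetacyclic S) (n : ℕ)
    (hn : 0 < n) (H : Type*) [Group H]
    (e : S ≃* (Multiplicative (ZMod (p ^ n)) × Multiplicative (ZMod (p ^ n))) × H) :
    Nat.card H = 1 := by
  have hne : NeZero (p ^ n) := ⟨pow_ne_zero _ hp.out.ne_zero⟩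
  have hfin : Finite ((Multiplicative (ZMod (p ^ n)) × Multiplicative (ZMod (p ^ n))) × H) :=
    Finite.of_equiv S e.toEquiv
  have hfinH : Finite H :=
    Finite.of_injective
      (fun h : H => (((1, h) : (Multiplicative (ZMod (p ^ n)) × Multiplicative (ZMod (p ^ n))) × H)))
      (fun a b h => (Prod.ext_iff.mp h).2)
  obtain ⟨a, ha⟩ := IsPGroup.iff_card.mp hS
  have hcard : Nat.card S = (p ^ n * p ^ n) * Nat.card H := by
    rw [Nat.card_congr e.toEquiv, Nat.card_prod, Nat.card_prod]
    have : Nat.card (Multiplicative (ZMod (p ^ n))) = p ^ n := by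
      rw [Nat.card_eq_fintype_card, Fintype.card_multiplicative, ZMod.card]
    rw [this]
  have hdvd : Nat.card H ∣ p ^ a := by rw [← ha, hcard]; exact Dvd.intro_left _ rfl
  obtain ⟨b, -, hb⟩ := (Nat.dvd_prime_pow hp.out).mp hdvd
  rcases Nat.eq_zero_or_pos b with hb0 | hb0
  · rw [hb, hb0, pow_zero]
  exfalso
  have hpH : p ∣ Nat.card H := by rw [hb]; exact dvd_pow_self p (by omega)
  have hpC : p ∣ Nat.card (Multiplicative (ZMod (p ^ n))) := by
    rw [Nat.card_eq_fintype_card, Fintype.card_multiplicative, ZMod.card]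
    exact dvd_pow_self p (by omega)
  have h1 := le_card_pow_eq_one hpH
  have h2 := le_card_pow_eq_one hpC
  have h3 := card_pow_eq_one_le_sq hab hm p hp.out.pos
  have h4 : Nat.card {x : S // x ^ p = 1} =
      Nat.card {x : (Multiplicative (ZMod (p ^ n)) × Multiplicative (ZMod (p ^ n))) × H //
        x ^ p = 1} := by
    apply Nat.card_congr
    refine e.toEquiv.subtypeEquiv ?_
    intro x
    constructor
    · intro h
      change e x ^ p = 1
      rw [← map_pow, h, map_one]
    · intro h
      change e x ^ p = 1 at h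
      rw [← map_pow] at h
      exact e.injective (h.trans (map_one e).symm)
  rw [h4, card_pow_eq_one_prod, card_pow_eq_one_prod] at h3
  have h5 : p * p * p ≤ p * p := by
    calc p * p * p ≤ _ := Nat.mul_le_mul (Nat.mul_le_mul h2 h2) h1
      _ ≤ p * p := h3
  have hp2 := hp.out.two_le
  nlinarith

end Cfsg.Agent.Helper73.MetaAb
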