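import Mathlib
import Cfsg.Prelude.Def_CaseTheorems
import Cfsg.Agent.S1896
import Cfsg.Agent.S1349
import Cfsg.Agent.Lib.Helper73.QuatRecog
import Cfsg.Agent.Lib.Helper73.TwoGroupA
import Cfsg.Agent.Lib.Helper63.PGroup

set_option autoImplicit false

namespace Cfsg.Agent.Helper73.MetaSelfCent

open Cfsg.Agent.Helper73

/-- elements of a cyclic subgroup commute -/
lemma comm_zpowers {X : Type*} [Group X] (a : X) (x y : X) (hx : x ∈ Subgroup.zpowers a)
    (hy : y ∈ Subgroup.zpowers a) : x * y = y * x := by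
  obtain ⟨i, rfl⟩ := Subgroup.mem_zpowers_iff.1 hx
  obtain ⟨j, rfl⟩ := Subgroup.mem_zpowers_iff.1 hy
  exact (Commute.zpow_zpow_self a i j).eq

/-- quasi-dihedral recognition -/
lemma quasi {X : Type*} [Group X] [Finite X] (a y : X) (m : ℕ) (hm : 3 ≤ m)
    (ha : orderOf a = 2 ^ m) (hcard : Nat.card X = 2 ^ (m + 1)) (hy1 : y ≠ 1) (hy2 : y ^ 2 = 1)
    (hconj : y * a * y⁻¹ = a ^ (2 ^ (m - 1)) * a⁻¹) : Cfsg.IsQuasiDihedral X := by
  refine ⟨m, hm, hcard, a, y, ha, ?_, ?_⟩
  · exact orderOf_eq_prime hy2 hy1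
  · rw [hconj, pow_sub a (Nat.one_le_two_pow), pow_one]

theorem core {X : Type*} [Group X] [Finite X] (hX : IsPGroup 2 X) (a u : X) (m : ℕ) (hm : 2 ≤ m)
    (ha : orderOf a = 2 ^ m) (hN : (Subgroup.zpowers a).Normal)
    (hcyc : IsCyclic (X ⧸ Subgroup.zpowers a))
    (hu : u ∉ Subgroup.zpowers a) (hu2 : u ^ 2 ∈ Subgroup.zpowers a)
    (hfix : ∀ x ∈ Subgroup.zpowers a, u * x = x * u → x ^ 2 = 1) :
    (∃ k, Nonempty (X ≃* DihedralGroup k)) ∨ Cfsg.IsQuasiDihedral X ∨
      (∃ k, Nonempty (X ≃* QuaternionGroup k)) := by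
  classical
  haveI : Fact (Nat.Prime 2) := ⟨Nat.prime_two⟩
  set A := Subgroup.zpowers a with hA
  set z := a ^ (2 ^ (m - 1)) with hz
  have haA : a ∈ A := Subgroup.mem_zpowers a
  have hzA : z ∈ A := Subgroup.pow_mem _ haA _
  have hcomm : ∀ x ∈ A, ∀ y ∈ A, x * y = y * x := fun x hx y hy => comm_zpowers a x y hx hy
  have hinv : ∀ x ∈ A, x ^ 2 = 1 → x = 1 ∨ x = z := by
    intro x hx hx2
    by_cases h1 : x = 1
    · left; exact h1
    · right; exact Cfsg.Agent.S1896.invol_of_cyclic a m (by omega) ha x hx hx2 h1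
  have hz1 : z ≠ 1 := by
    apply pow_ne_one_of_lt_orderOf (by positivity)
    rw [ha]
    exact Nat.pow_lt_pow_right (by norm_num) (by omega)
  have hz2 : z ^ 2 = 1 := by
    rw [hz, ← pow_mul, ← pow_succ, show m - 1 + 1 = m by omega, ← ha, pow_orderOf_eq_one]
  have hzz : z * z = 1 := by rw [← sq, hz2]
  have hconjA : ∀ (g : X) (x : X), x ∈ A → g * x * g⁻¹ ∈ A := fun g x hx => hN.conj_mem x hx g
  -- the action of u on a
  set s := u * a * u⁻¹ with hs
  have hsA : s ∈ A := hconjA u a haA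
  have hsa : s = a⁻¹ ∨ s = z * a⁻¹ := by
    have hyA : s * a ∈ A := A.mul_mem hsA haA
    have hfixy : u * (s * a) = (s * a) * u := by
      have h1 : u * s * u⁻¹ = a := by
        have h2 : u * s * u⁻¹ = (u * u) * a * (u * u)⁻¹ := by rw [hs]; group
        have huu : u * u ∈ A := by rw [← sq]; exact hu2
        rw [h2, hcomm _ huu _ haA]; group
      have h3 : u * (s * a) * u⁻¹ = s * a := by
        have : u * (s * a) * u⁻¹ = (u * s * u⁻¹) * (u * a * u⁻¹) := by group
        rw [this, h1, ← hs, hcomm _ haA _ hsA]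
      calc u * (s * a) = (u * (s * a) * u⁻¹) * u := by group
        _ = (s * a) * u := by rw [h3]
    rcases hinv _ hyA (hfix _ hyA hfixy) with h | h
    · left; exact eq_inv_of_mul_eq_one_left h
    · right; rw [← h]; group
  -- index two
  have hidx : A.index = 2 := by
    obtain ⟨l, hl⟩ : ∃ l, Nat.card (X ⧸ A) = 2 ^ l := by
      haveI : Finite (X ⧸ A) := inferInstance
      exact (IsPGroup.iff_card.1 (hX.to_quotient A))
    have hubar1 : (QuotientGroup.mk u : X ⧸ A) ≠ 1 := by
      intro h; exact hu ((QuotientGroup.eq_one_iff u).1 h)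
    have hubar2 : (QuotientGroup.mk u : X ⧸ A) ^ 2 = 1 := by
      rw [← QuotientGroup.mk_pow]; exact (QuotientGroup.eq_one_iff _).2 hu2
    rw [Subgroup.index_eq_card, hl]
    rcases Nat.lt_or_ge l 2 with hl2 | hl2
    · interval_cases l
      · exfalso
        have hsub : Subsingleton (X ⧸ A) := (Nat.card_eq_one_iff_unique.1 (by rw [hl]; rfl)).1
        exact hubar1 (Subsingleton.elim _ _)
      · rfl
    · exfalso
      obtain ⟨q, hq⟩ := hcyc.exists_generator
      have hoq : orderOf q = 2 ^ l := by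
        rw [← hl]; exact orderOf_eq_card_of_forall_mem_zpowers hq
      have h1 := Cfsg.Agent.S1896.invol_of_cyclic q l (by omega) hoq _ (hq _) hubar2 hubar1
      obtain ⟨g, hg⟩ := QuotientGroup.mk_surjective (q ^ (2 ^ (l - 2)))
      have hg2 : (QuotientGroup.mk (g ^ 2) : X ⧸ A) = QuotientGroup.mk u := by
        rw [QuotientGroup.mk_pow, hg, h1, ← pow_mul, ← pow_succ]
        congr 2; omega
      have hα : (g ^ 2)⁻¹ * u ∈ A := QuotientGroup.eq.1 hg2
      set b := a ^ (2 ^ (m - 2)) with hb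
      have hbA : b ∈ A := Subgroup.pow_mem _ haA _
      have hb2 : b ^ 2 = z := by
        rw [hb, hz, ← pow_mul, ← pow_succ]; congr 2; omega
      have hτz : g * z * g⁻¹ = z := by
        have h2 : (g * z * g⁻¹) ^ 2 = 1 := by rw [conj_pow, hz2]; group
        rcases hinv _ (hconjA g z hzA) h2 with h | h
        · exfalso; apply hz1
          have : z = g⁻¹ * (g * z * g⁻¹) * g := by group
          rw [this, h]; group
        · exact h
      have hτb : g * b * g⁻¹ = b ∨ g * b * g⁻¹ = z * b := by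
        have hτbA : g * b * g⁻¹ ∈ A := hconjA g b hbA
        have h2 : (g * b * g⁻¹ * b⁻¹) ^ 2 = 1 := by
          have hc : (g * b * g⁻¹) * b⁻¹ = b⁻¹ * (g * b * g⁻¹) := hcomm _ hτbA _ (A.inv_mem hbA)
          rw [sq]
          calc g * b * g⁻¹ * b⁻¹ * (g * b * g⁻¹ * b⁻¹)
              = g * b * g⁻¹ * (b⁻¹ * (g * b * g⁻¹)) * b⁻¹ := by group
            _ = g * b * g⁻¹ * ((g * b * g⁻¹) * b⁻¹) * b⁻¹ := by rw [hc]
            _ = (g * (b * b) * g⁻¹) * (b * b)⁻¹ := by group
            _ = 1 := by rw [← sq, hb2, hτz]; group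
        rcases hinv _ (A.mul_mem hτbA (A.inv_mem hbA)) h2 with h | h
        · left; exact mul_inv_eq_one.1 h
        · right; rw [← h]; group
      have hττb : g ^ 2 * b * (g ^ 2)⁻¹ = b := by
        have h0 : g ^ 2 * b * (g ^ 2)⁻¹ = g * (g * b * g⁻¹) * g⁻¹ := by rw [pow_two]; group
        rcases hτb with h | h
        · rw [h0, h, h]
        · rw [h0, h]
          have : g * (z * b) * g⁻¹ = (g * z * g⁻¹) * (g * b * g⁻¹) := by group
          rw [this, hτz, h, ← mul_assoc, hzz, one_mul]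
      have hub : u * b = b * u := by
        set α := (g ^ 2)⁻¹ * u with hαdef
        have hu' : u = g ^ 2 * α := by rw [hαdef]; group
        have h3 : u * b * u⁻¹ = b := by
          rw [hu']
          have : g ^ 2 * α * b * (g ^ 2 * α)⁻¹ = g ^ 2 * (α * b * α⁻¹) * (g ^ 2)⁻¹ := by group
          rw [this, hcomm _ hα _ hbA]
          have : g ^ 2 * (b * α * α⁻¹) * (g ^ 2)⁻¹ = g ^ 2 * b * (g ^ 2)⁻¹ := by group
          rw [this, hττb]
        calc u * b = (u * b * u⁻¹) * u := by group
          _ = b * u := by rw [h3]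
      have := hfix b hbA hub
      rw [hb2] at this
      exact hz1 this
  have hcard : Nat.card X = 2 ^ (m + 1) := by
    have h1 := A.card_mul_index
    rw [hidx, Nat.card_zpowers, ha] at h1
    rw [← h1, pow_succ]
  have hsup : A ⊔ Subgroup.zpowers u = ⊤ := sup_zpowers_eq_top_of_index_two A hidx u hu
  -- u ^ 2 is 1 or z
  have hu2' : u ^ 2 = 1 ∨ u ^ 2 = z := by
    apply hinv _ hu2
    apply hfix _ hu2
    group
  have hu1 : u ≠ 1 := fun h => hu (h ▸ A.one_mem)
  have ha2 : a ^ 2 ≠ 1 := by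
    apply pow_ne_one_of_lt_orderOf (by norm_num)
    rw [ha]
    calc 2 = 2 ^ 1 := by norm_num
      _ < 2 ^ m := Nat.pow_lt_pow_right (by norm_num) (by omega)
  -- in the twisted case m ≥ 3
  have hm3 : s = z * a⁻¹ → 3 ≤ m := by
    intro h
    by_contra hlt
    have hm2 : m = 2 := by omega
    apply ha2
    apply hfix a haA
    have hza : z = a ^ 2 := by rw [hz, hm2]; norm_num
    have : s = a := by rw [h, hza]; group
    calc u * a = (u * a * u⁻¹) * u := by group
      _ = a * u := by rw [← hs, this]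
  rcases hsa with hs1 | hs1
  · rcases hu2' with h | h
    · -- dihedral
      left
      obtain ⟨e⟩ := Cfsg.Agent.S1349.dihedral_of_inverts (b := u) (l := a) h ha2 (by rw [← hs, hs1])
      have htop : Subgroup.zpowers u ⊔ Subgroup.zpowers a = ⊤ := by rw [sup_comm]; exact hsup
      exact ⟨orderOf a, ⟨(Subgroup.topEquiv.symm.trans (MulEquiv.subgroupCongr htop.symm)).trans e⟩⟩
    · -- quaternion
      right; right
      have ha' : orderOf a = 2 * 2 ^ (m - 1) := by
        rw [ha, ← pow_succ']; congr 1; omega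
      haveI : NeZero (2 ^ (m - 1)) := ⟨by positivity⟩
      refine ⟨2 ^ (m - 1), quat_equiv ha' h (by rw [← hs, hs1]) hu ?_⟩
      rw [hcard, pow_succ, show m = m - 1 + 1 by omega, pow_succ]
      simp only [Nat.add_sub_cancel]
      ring
  · right; left
    have hm3' := hm3 hs1
    rcases hu2' with h | h
    · exact quasi a u m hm3' ha hcard hu1 h (by rw [← hs, hs1])
    · -- replace u by u * a
      have hy2 : (u * a) ^ 2 = 1 := by
        have : (u * a) ^ 2 = (u * a * u⁻¹) * (u * u) * a := by rw [pow_two]; group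
        rw [this, ← hs, hs1, ← sq, h]
        have h1 : z * a⁻¹ * z * a = z * z * (a⁻¹ * a) := by
          have := hcomm _ (A.inv_mem haA) _ hzA
          calc z * a⁻¹ * z * a = z * (a⁻¹ * z) * a := by group
            _ = z * (z * a⁻¹) * a := by rw [this]
            _ = z * z * (a⁻¹ * a) := by group
        rw [h1, hzz]; group
      have hy1 : u * a ≠ 1 := by
        intro h1
        apply hu
        have : u = a⁻¹ := eq_inv_of_mul_eq_one_left h1
        rw [this]; exact A.inv_mem haA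
      refine quasi a (u * a) m hm3' ha hcard hy1 hy2 ?_
      have : u * a * a * (u * a)⁻¹ = u * a * u⁻¹ := by group
      rw [this, ← hs, hs1]


/-- uniqueness of the involution in a cyclic 2-group -/
lemma cyc_invol_unique {C : Type*} [Group C] [Finite C] (hC : IsCyclic C) (hC2 : IsPGroup 2 C)
    (x y : C) (hx : x ^ 2 = 1) (hx1 : x ≠ 1) (hy : y ^ 2 = 1) (hy1 : y ≠ 1) : x = y := by
  haveI : Fact (Nat.Prime 2) := ⟨Nat.prime_two⟩
  obtain ⟨q, hq⟩ := hC.exists_generator
  obtain ⟨l, hl⟩ := IsPGroup.iff_card.1 hC2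
  have hoq : orderOf q = 2 ^ l := by rw [← hl]; exact orderOf_eq_card_of_forall_mem_zpowers hq
  have hl1 : 1 ≤ l := by
    by_contra h
    have hl0 : l = 0 := by omega
    subst hl0
    have hsub : Subsingleton C := (Nat.card_eq_one_iff_unique.1 (by rw [hl]; rfl)).1
    exact hx1 (Subsingleton.elim _ _)
  rw [Cfsg.Agent.S1896.invol_of_cyclic q l hl1 hoq x (hq x) hx hx1,
    Cfsg.Agent.S1896.invol_of_cyclic q l hl1 hoq y (hq y) hy hy1]

lemma cyc_comm {C : Type*} [Group C] (hC : IsCyclic C) (x y : C) : x * y = y * x := by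
  obtain ⟨q, hq⟩ := hC.exists_generator
  exact comm_zpowers q x y (hq x) (hq y)

set_option maxRecDepth 100000 in
theorem q8_fact1 : ∀ d u : QuaternionGroup 2, d ^ 2 ≠ 1 →
    (u ≠ 1 ∧ u ≠ d ∧ u ≠ d ^ 2 ∧ u ≠ d ^ 3) → u ^ 2 = d ^ 2 := by decide

set_option maxRecDepth 100000 in
theorem q8_fact2 : ∀ d u x : QuaternionGroup 2, d ^ 2 ≠ 1 →
    (u ≠ 1 ∧ u ≠ d ∧ u ≠ d ^ 2 ∧ u ≠ d ^ 3) →
    ((x = 1 ∨ x = d ∨ x = d ^ 2 ∨ x = d ^ 3) ∨
      (u⁻¹ * x = 1 ∨ u⁻¹ * x = d ∨ u⁻¹ * x = d ^ 2 ∨ u⁻¹ * x = d ^ 3)) := by decide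

set_option maxRecDepth 100000 in
theorem q8_fact3 : ∀ d u x : QuaternionGroup 2, d ^ 2 ≠ 1 →
    (u ≠ 1 ∧ u ≠ d ∧ u ≠ d ^ 2 ∧ u ≠ d ^ 3) →
    (x = 1 ∨ x = d ∨ x = d ^ 2 ∨ x = d ^ 3) → u * x = x * u → x ^ 2 = 1 := by decide

theorem q8_fact4 : ((QuaternionGroup.a 1 : QuaternionGroup 2)) ^ 2 ≠ 1 ∧
    (QuaternionGroup.xa 0 : QuaternionGroup 2) ^ 2 ≠ 1 ∧
    ((QuaternionGroup.a 1 : QuaternionGroup 2)⁻¹ * QuaternionGroup.xa 0) ^ 2 ≠ 1 ∧
    (QuaternionGroup.a 1 : QuaternionGroup 2) * QuaternionGroup.xa 0 ≠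
      QuaternionGroup.xa 0 * QuaternionGroup.a 1 := by decide

theorem q8_fact5 : ∀ x : QuaternionGroup 2, (x ^ 2) ^ 2 = 1 := by decide

theorem q8_fact6 : (QuaternionGroup.a 1 : QuaternionGroup 2) ^ 2 =
      QuaternionGroup.a 1 * QuaternionGroup.xa 0 * (QuaternionGroup.a 1)⁻¹ *
        (QuaternionGroup.xa 0)⁻¹ ∧
    (QuaternionGroup.xa 0 : QuaternionGroup 2) ^ 2 =
      QuaternionGroup.a 1 * QuaternionGroup.xa 0 * (QuaternionGroup.a 1)⁻¹ *
        (QuaternionGroup.xa 0)⁻¹ := by decide

/-- A metacyclic 2-group with a proper self-centralizing subgroup that is a four-group or a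
quaternion group of order 8 is dihedral, semidihedral or generalized quaternion. -/
theorem selfcent {X : Type*} [Group X] [Finite X] (hX : IsPGroup 2 X) (hm : Cfsg.IsMetacyclic X)
    (E : Subgroup X) (hE : E ≠ ⊤) (hC : Subgroup.centralizer (E : Set X) ≤ E)
    (hcase : Nonempty (E ≃* QuaternionGroup 2) ∨ ((∀ x ∈ E, x ^ 2 = 1) ∧ 2 < Nat.card E)) :
    (∃ k, Nonempty (X ≃* DihedralGroup k)) ∨ Cfsg.IsQuasiDihedral X ∨
      (∃ k, Nonempty (X ≃* QuaternionGroup k)) := by
  classical
  haveI : Fact (Nat.Prime 2) := ⟨Nat.prime_two⟩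
  obtain ⟨N, hNn, hNc, hQc⟩ := hm
  have hN2 : IsPGroup 2 N := hX.to_subgroup N
  have hQ2 : IsPGroup 2 (X ⧸ N) := hX.to_quotient N
  have finish : ∀ u : X, u ∈ E → u ∉ N → u ^ 2 ∈ N → (∀ x ∈ E, x ∈ N ∨ u⁻¹ * x ∈ N) →
      (∀ x ∈ E, x ∈ N → u * x = x * u → x ^ 2 = 1) →
      ((∃ k, Nonempty (X ≃* DihedralGroup k)) ∨ Cfsg.IsQuasiDihedral X ∨
        (∃ k, Nonempty (X ≃* QuaternionGroup k))) := by
    intro u huE huN hu2 hcos hsq
    obtain ⟨a0, ha0⟩ := hNc.exists_generator
    obtain ⟨a, haN, hNa⟩ : ∃ a : X, a ∈ N ∧ N = Subgroup.zpowers a := by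
      refine ⟨(a0 : X), a0.2, le_antisymm ?_ ?_⟩
      · intro x hx
        obtain ⟨k, hk⟩ := Subgroup.mem_zpowers_iff.1 (ha0 ⟨x, hx⟩)
        refine Subgroup.mem_zpowers_iff.2 ⟨k, ?_⟩
        have := congrArg Subtype.val hk
        simpa using this
      · exact Subgroup.zpowers_le.2 a0.2
    obtain ⟨m, hm⟩ := (IsPGroup.iff_orderOf.1 hX) a
    have hNcomm : ∀ x ∈ N, ∀ y ∈ N, x * y = y * x := by
      rw [hNa]; exact fun x hx y hy => comm_zpowers a x y hx hy
    have hfix : ∀ x ∈ N, u * x = x * u → x ^ 2 = 1 := by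
      intro x hxN hux
      apply hsq x ?_ hxN hux
      apply hC
      rw [Subgroup.mem_centralizer_iff]
      intro y hy
      rcases hcos y hy with h | h
      · exact hNcomm y h x hxN
      · have hy' : y = u * (u⁻¹ * y) := by group
        rw [hy']
        calc u * (u⁻¹ * y) * x = u * ((u⁻¹ * y) * x) := by group
          _ = u * (x * (u⁻¹ * y)) := by rw [hNcomm _ h x hxN]
          _ = (u * x) * (u⁻¹ * y) := by group
          _ = x * u * (u⁻¹ * y) := by rw [hux]
          _ = x * (u * (u⁻¹ * y)) := by group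
    have hm2 : 2 ≤ m := by
      by_contra hlt
      apply hE
      have hle : N ≤ Subgroup.center X := by
        have hm01 : m = 0 ∨ m = 1 := by omega
        rcases hm01 with h0 | h1
        · rw [h0, pow_zero, orderOf_eq_one_iff] at hm
          rw [hNa, hm, Subgroup.zpowers_one_eq_bot]
          exact bot_le
        · have hcardN : Nat.card N = 2 := by
            rw [hNa, Nat.card_zpowers, hm, h1, pow_one]
          exact Cfsg.Agent.Helper63.normal_card_prime_le_center hX N hcardN
      have hab : ∀ x y : X, x * y = y * x :=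
        commutative_of_cyclic_center_quotient (QuotientGroup.mk' N)
          (by rw [QuotientGroup.ker_mk']; exact hle)
      rw [eq_top_iff]
      intro x _
      apply hC
      rw [Subgroup.mem_centralizer_iff]
      intro y _
      exact hab y x
    subst hNa
    exact core hX a u m hm2 hm hNn hQc huN hu2 hfix
  rcases hcase with ⟨⟨e⟩⟩ | ⟨hE2, hE4⟩
  · -- quaternion case
    set i : E := e.symm (QuaternionGroup.a 1) with hi
    set j : E := e.symm (QuaternionGroup.xa 0) with hj
    obtain ⟨f1, f2, f3, f4⟩ := q8_fact4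
    have hei : e i = QuaternionGroup.a 1 := by rw [hi, MulEquiv.apply_symm_apply]
    have hej : e j = QuaternionGroup.xa 0 := by rw [hj, MulEquiv.apply_symm_apply]
    -- squares of elements of E lie in N
    have hcomN : ∀ x y : X, x * y * x⁻¹ * y⁻¹ ∈ N := by
      intro x y
      rw [← QuotientGroup.eq_one_iff]
      simp only [QuotientGroup.mk_mul, QuotientGroup.mk_inv]
      rw [cyc_comm hQc (x : X ⧸ N) (y : X ⧸ N)]
      group
    -- an element d of E ∩ N with d^2 ≠ 1
    obtain ⟨d, hdN, hd2⟩ : ∃ d : E, (d : X) ∈ N ∧ d ^ 2 ≠ 1 := by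
      by_cases hiN : (i : X) ∈ N
      · refine ⟨i, hiN, ?_⟩
        intro h
        apply f1
        rw [← hei, ← map_pow, h, map_one]
      by_cases hjN : (j : X) ∈ N
      · refine ⟨j, hjN, ?_⟩
        intro h
        apply f2
        rw [← hej, ← map_pow, h, map_one]
      · -- both outside N: i⁻¹ j ∈ N
        have hsqN : ∀ x : E, ((x : X) ^ 2) ^ 2 = 1 := by
          intro x
          have h1 : (e x ^ 2) ^ 2 = 1 := q8_fact5 (e x)
          have h2 : (x ^ 2) ^ 2 = 1 := by
            apply e.injective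
            rw [map_pow, map_pow, h1, map_one]
          have := congrArg Subtype.val h2
          simpa using this
        obtain ⟨g1, g2⟩ := q8_fact6
        have hi2 : ((i : X)) ^ 2 = (i : X) * j * (i : X)⁻¹ * (j : X)⁻¹ := by
          have h1 : i ^ 2 = i * j * i⁻¹ * j⁻¹ := by
            apply e.injective
            simp only [map_pow, map_mul, map_inv, hei, hej]
            exact g1
          have := congrArg Subtype.val h1
          simpa using this
        have hj2 : ((j : X)) ^ 2 = (i : X) * j * (i : X)⁻¹ * (j : X)⁻¹ := by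
          have h1 : j ^ 2 = i * j * i⁻¹ * j⁻¹ := by
            apply e.injective
            simp only [map_pow, map_mul, map_inv, hei, hej]
            exact g2
          have := congrArg Subtype.val h1
          simpa using this
        have hib1 : (QuotientGroup.mk (i : X) : X ⧸ N) ≠ 1 := fun h =>
          hiN ((QuotientGroup.eq_one_iff _).1 h)
        have hjb1 : (QuotientGroup.mk (j : X) : X ⧸ N) ≠ 1 := fun h =>
          hjN ((QuotientGroup.eq_one_iff _).1 h)
        have hib2 : (QuotientGroup.mk (i : X) : X ⧸ N) ^ 2 = 1 := by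
          rw [← QuotientGroup.mk_pow, hi2]; exact (QuotientGroup.eq_one_iff _).2 (hcomN _ _)
        have hjb2 : (QuotientGroup.mk (j : X) : X ⧸ N) ^ 2 = 1 := by
          rw [← QuotientGroup.mk_pow, hj2]; exact (QuotientGroup.eq_one_iff _).2 (hcomN _ _)
        have hij := cyc_invol_unique hQc hQ2 _ _ hib2 hib1 hjb2 hjb1
        have hijN : (i : X)⁻¹ * j ∈ N := QuotientGroup.eq.1 hij
        refine ⟨i⁻¹ * j, by simpa using hijN, ?_⟩
        intro h
        apply f3
        rw [← hei, ← hej, ← map_inv, ← map_mul, ← map_pow, h, map_one]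
    have hNab : ∀ x ∈ N, ∀ y ∈ N, x * y = y * x := by
      intro x hx y hy
      have := cyc_comm hNc (⟨x, hx⟩ : N) ⟨y, hy⟩
      exact congrArg Subtype.val this
    have hpowN : ∀ x : E, (e x = 1 ∨ e x = e d ∨ e x = (e d) ^ 2 ∨ e x = (e d) ^ 3) →
        (x : X) ∈ N := by
      intro x hx
      have hx' : x = 1 ∨ x = d ∨ x = d ^ 2 ∨ x = d ^ 3 := by
        rcases hx with h | h | h | h
        · left; apply e.injective; rw [h, map_one]
        · right; left; exact e.injective h
        · right; right; left; apply e.injective; rw [h, map_pow]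
        · right; right; right; apply e.injective; rw [h, map_pow]
      rcases hx' with h | h | h | h
      · rw [h]; exact N.one_mem
      · rw [h]; exact hdN
      · rw [h]; simpa using N.pow_mem hdN 2
      · rw [h]; simpa using N.pow_mem hdN 3
    obtain ⟨u, huN⟩ : ∃ u : E, (u : X) ∉ N := by
      by_contra hall
      push_neg at hall
      apply f4
      have h1 : i * j = j * i := Subtype.ext (hNab _ (hall i) _ (hall j))
      rw [← hei, ← hej, ← map_mul, h1, map_mul]
    have hD2 : (e d) ^ 2 ≠ 1 := by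
      intro h
      apply hd2
      apply e.injective
      rw [map_pow, h, map_one]
    have hU : e u ≠ 1 ∧ e u ≠ e d ∧ e u ≠ (e d) ^ 2 ∧ e u ≠ (e d) ^ 3 := by
      refine ⟨fun h => huN (hpowN u (Or.inl h)), fun h => huN (hpowN u (Or.inr (Or.inl h))),
        fun h => huN (hpowN u (Or.inr (Or.inr (Or.inl h)))),
        fun h => huN (hpowN u (Or.inr (Or.inr (Or.inr h))))⟩
    have hu2 : ((u : X)) ^ 2 ∈ N := by
      have h1 : u ^ 2 = d ^ 2 := by
        apply e.injective
        rw [map_pow, map_pow]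
        exact q8_fact1 (e d) (e u) hD2 hU
      have h2 := congrArg Subtype.val h1
      have h3 : ((u : X)) ^ 2 = (d : X) ^ 2 := by simpa using h2
      rw [h3]; exact N.pow_mem hdN 2
    have hcos : ∀ x ∈ E, x ∈ N ∨ (u : X)⁻¹ * x ∈ N := by
      intro x hx
      rcases q8_fact2 (e d) (e u) (e ⟨x, hx⟩) hD2 hU with h | h
      · left; exact hpowN ⟨x, hx⟩ h
      · right
        have := hpowN (u⁻¹ * ⟨x, hx⟩) (by simpa only [map_mul, map_inv] using h)
        simpa using this
    refine finish (u : X) u.2 huN hu2 hcos ?_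
    intro x hx hxN hux
    rcases q8_fact2 (e d) (e u) (e ⟨x, hx⟩) hD2 hU with h | h
    · have h1 : (⟨x, hx⟩ : E) ^ 2 = 1 := by
        apply e.injective
        rw [map_pow, map_one]
        apply q8_fact3 (e d) (e u) (e ⟨x, hx⟩) hD2 hU h
        rw [← map_mul, ← map_mul]
        congr 1
        exact Subtype.ext hux
      have := congrArg Subtype.val h1
      simpa using this
    · exfalso
      have h1 := hpowN (u⁻¹ * ⟨x, hx⟩) (by simpa only [map_mul, map_inv] using h)
      have h2 : (u : X)⁻¹ * x ∈ N := by simpa using h1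
      apply huN
      have : (u : X) = x * ((u : X)⁻¹ * x)⁻¹ := by group
      rw [this]
      exact N.mul_mem hxN (N.inv_mem h2)
  · -- four-group case
    obtain ⟨u, huE, huN⟩ : ∃ u : X, u ∈ E ∧ u ∉ N := by
      by_contra hall
      push_neg at hall
      haveI : Fintype E := Fintype.ofFinite E
      rw [Nat.card_eq_fintype_card, Fintype.two_lt_card_iff] at hE4
      obtain ⟨x, y, w, hxy, hxw, hyw⟩ := hE4
      have huniq : ∀ p q : E, p ≠ 1 → q ≠ 1 → p = q := by
        intro p q hp hq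
        have hp2 : (⟨(p : X), hall _ p.2⟩ : N) ^ 2 = 1 := by
          apply Subtype.ext
          simpa using hE2 _ p.2
        have hq2 : (⟨(q : X), hall _ q.2⟩ : N) ^ 2 = 1 := by
          apply Subtype.ext
          simpa using hE2 _ q.2
        have hp1 : (⟨(p : X), hall _ p.2⟩ : N) ≠ 1 := by
          intro h
          apply hp
          have := congrArg Subtype.val h
          exact Subtype.ext (by simpa using this)
        have hq1 : (⟨(q : X), hall _ q.2⟩ : N) ≠ 1 := by
          intro h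
          apply hq
          have := congrArg Subtype.val h
          exact Subtype.ext (by simpa using this)
        have := cyc_invol_unique hNc hN2 _ _ hp2 hp1 hq2 hq1
        have := congrArg Subtype.val this
        exact Subtype.ext (by simpa using this)
      by_cases hx1 : x = 1
      · have hy1 : y ≠ 1 := fun h => hxy (hx1.trans h.symm)
        have hw1 : w ≠ 1 := fun h => hxw (hx1.trans h.symm)
        exact hyw (huniq y w hy1 hw1)
      · by_cases hy1 : y = 1
        · have hw1 : w ≠ 1 := fun h => hyw (hy1.trans h.symm)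
          exact hxw (huniq x w hx1 hw1)
        · exact hxy (huniq x y hx1 hy1)
    have hu2 : u ^ 2 ∈ N := by rw [hE2 u huE]; exact N.one_mem
    have hub1 : (QuotientGroup.mk u : X ⧸ N) ≠ 1 := fun h =>
      huN ((QuotientGroup.eq_one_iff _).1 h)
    have hub2 : (QuotientGroup.mk u : X ⧸ N) ^ 2 = 1 := by
      rw [← QuotientGroup.mk_pow]; exact (QuotientGroup.eq_one_iff _).2 hu2
    refine finish u huE huN hu2 ?_ (fun x hx _ _ => hE2 x hx)
    intro x hx
    by_cases hxN : x ∈ N
    · left; exact hxN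
    · right
      have hxb1 : (QuotientGroup.mk x : X ⧸ N) ≠ 1 := fun h =>
        hxN ((QuotientGroup.eq_one_iff _).1 h)
      have hxb2 : (QuotientGroup.mk x : X ⧸ N) ^ 2 = 1 := by
        rw [← QuotientGroup.mk_pow, hE2 x hx]; rfl
      exact QuotientGroup.eq.1 (cyc_invol_unique hQc hQ2 _ _ hub2 hub1 hxb2 hxb1)

end Cfsg.Agent.Helper73.MetaSelfCent
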