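import Mathlib
import Cfsg.Prelude.Def_CaseTheorems
import Cfsg.Agent.Lib.Helper73.CyclicSylow
import Cfsg.Agent.Lib.Helper73.MetaSelfCent

set_option autoImplicit false

namespace Cfsg.Agent.Helper73.MetaEight

open Cfsg.Agent.Helper73 Cfsg.Agent.Helper73.MetaSelfCent

/-- involutions of a cyclic normal subgroup of a 2-group are central -/
lemma invol_central {X : Type*} [Group X] [Finite X] (hX : IsPGroup 2 X) (N : Subgroup X)
    (hNn : N.Normal) (hNc : IsCyclic N) (m : X) (hm : m ∈ N) (hm2 : m ^ 2 = 1) (u : X) :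
    u * m = m * u := by
  by_cases h1 : m = 1
  · rw [h1]; simp
  · have hN2 : IsPGroup 2 N := hX.to_subgroup N
    have hc : u * m * u⁻¹ ∈ N := hNn.conj_mem m hm u
    have hx2 : (⟨m, hm⟩ : N) ^ 2 = 1 := Subtype.ext (by simpa using hm2)
    have hx1 : (⟨m, hm⟩ : N) ≠ 1 := fun h => h1 (by simpa using congrArg Subtype.val h)
    have hy2 : (⟨u * m * u⁻¹, hc⟩ : N) ^ 2 = 1 := by
      apply Subtype.ext
      show (u * m * u⁻¹) ^ 2 = 1
      rw [conj_pow, hm2]; group
    have hy1 : (⟨u * m * u⁻¹, hc⟩ : N) ≠ 1 := by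
      intro h
      apply h1
      have h2 : u * m * u⁻¹ = 1 := by simpa using congrArg Subtype.val h
      calc m = u⁻¹ * (u * m * u⁻¹) * u := by group
        _ = 1 := by rw [h2]; group
    have h3 := cyc_invol_unique hNc hN2 _ _ hx2 hx1 hy2 hy1
    have h4 : m = u * m * u⁻¹ := congrArg Subtype.val h3
    calc u * m = (u * m * u⁻¹) * u := by group
      _ = m * u := by rw [← h4]

/-- A metacyclic 2-group in which some element outside the cyclic normal subgroup `N`, with square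
in `N`, fails to commute with an element of `N` of order dividing 4, is dihedral, semidihedral or
generalized quaternion. -/
theorem dsq_of_inverting {X : Type*} [Group X] [Finite X] (hX : IsPGroup 2 X) (N : Subgroup X)
    (hNn : N.Normal) (hNc : IsCyclic N) (hQc : IsCyclic (X ⧸ N)) (u d : X) (hu : u ∉ N)
    (hu2 : u ^ 2 ∈ N) (hd : d ∈ N) (hd4 : d ^ 4 = 1) (hud : u * d ≠ d * u) :
    (∃ k, Nonempty (X ≃* DihedralGroup k)) ∨ Cfsg.IsQuasiDihedral X ∨
      (∃ k, Nonempty (X ≃* QuaternionGroup k)) := by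
  classical
  haveI : Fact (Nat.Prime 2) := ⟨Nat.prime_two⟩
  obtain ⟨a0, ha0⟩ := hNc.exists_generator
  obtain ⟨a, haN, hNa⟩ : ∃ a : X, a ∈ N ∧ N = Subgroup.zpowers a := by
    refine ⟨(a0 : X), a0.2, le_antisymm ?_ ?_⟩
    · intro x hx
      obtain ⟨k, hk⟩ := Subgroup.mem_zpowers_iff.1 (ha0 ⟨x, hx⟩)
      refine Subgroup.mem_zpowers_iff.2 ⟨k, ?_⟩
      have := congrArg Subtype.val hk
      simpa using this
    · exact Subgroup.zpowers_le.2 a0.2
  obtain ⟨m, hm⟩ := (IsPGroup.iff_orderOf.1 hX) a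
  have hm2 : 2 ≤ m := by
    by_contra hlt
    apply hud
    have ha2 : a ^ 2 = 1 := by
      rw [← orderOf_dvd_iff_pow_eq_one, hm]
      have hm01 : m = 0 ∨ m = 1 := by omega
      rcases hm01 with h | h <;> rw [h] <;> norm_num
    have hd2 : d ^ 2 = 1 := by
      obtain ⟨i, rfl⟩ := Subgroup.mem_zpowers_iff.1 (hNa ▸ hd)
      rw [← zpow_natCast, ← zpow_mul, mul_comm, zpow_mul, zpow_natCast, ha2, one_zpow]
    exact invol_central hX N hNn hNc d hd hd2 u
  have hfix : ∀ x ∈ N, u * x = x * u → x ^ 2 = 1 := by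
    intro x hxN hux
    by_contra hx2
    apply hud
    obtain ⟨k, hk⟩ := (IsPGroup.iff_orderOf.1 hX) x
    have hk2 : 2 ≤ k := by
      by_contra hlt
      apply hx2
      rw [← orderOf_dvd_iff_pow_eq_one, hk]
      have hk01 : k = 0 ∨ k = 1 := by omega
      rcases hk01 with h | h <;> rw [h] <;> norm_num
    have hy : orderOf (x ^ (2 ^ (k - 2))) = 4 := by
      rw [orderOf_pow_of_dvd (by positivity) (by rw [hk]; exact pow_dvd_pow 2 (by omega)), hk,
        Nat.pow_div (by omega) (by norm_num)]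
      have : k - (k - 2) = 2 := by omega
      rw [this]
    haveI : IsCyclic N := hNc
    have hmem := mem_zpowers_of_cyclic (W := N) (by norm_num : 0 < 4)
      ⟨x ^ (2 ^ (k - 2)), N.pow_mem hxN _⟩ ⟨d, hd⟩ (by rw [Subgroup.orderOf_mk]; exact hy)
      (Subtype.ext (by simpa using hd4))
    obtain ⟨j, hj⟩ := Subgroup.mem_zpowers_iff.1 hmem
    have hdx : d = (x ^ (2 ^ (k - 2))) ^ j := by
      have := congrArg Subtype.val hj
      simpa using this.symm
    have hc : Commute u x := hux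
    rw [hdx]
    exact ((hc.pow_right _).zpow_right j).eq
  subst hNa
  exact core hX a u m hm2 hm hNn hQc hu hu2 hfix

/-- A metacyclic 2-group with a nonabelian subgroup of order 8 is dihedral, semidihedral or
generalized quaternion. -/
theorem dsq_of_nonabelian_eight {X : Type*} [Group X] [Finite X] (hX : IsPGroup 2 X)
    (hm : Cfsg.IsMetacyclic X) (D : Subgroup X) (hD : Nat.card D = 8)
    (hna : ∃ x ∈ D, ∃ y ∈ D, x * y ≠ y * x) :
    (∃ k, Nonempty (X ≃* DihedralGroup k)) ∨ Cfsg.IsQuasiDihedral X ∨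
      (∃ k, Nonempty (X ≃* QuaternionGroup k)) := by
  classical
  haveI : Fact (Nat.Prime 2) := ⟨Nat.prime_two⟩
  obtain ⟨N, hNn, hNc, hQc⟩ := hm
  have hQ2 : IsPGroup 2 (X ⧸ N) := hX.to_quotient N
  haveI : IsCyclic (X ⧸ N) := hQc
  obtain ⟨u, huD, m, hmD, hmN, hum⟩ : ∃ u ∈ D, ∃ m ∈ D, m ∈ N ∧ u * m ≠ m * u := by
    obtain ⟨x, hx, y, hy, hxy⟩ := hna
    obtain ⟨i, hi⟩ := (IsPGroup.iff_orderOf.1 hQ2) (QuotientGroup.mk x : X ⧸ N)
    obtain ⟨j, hj⟩ := (IsPGroup.iff_orderOf.1 hQ2) (QuotientGroup.mk y : X ⧸ N)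
    have key : ∀ x ∈ D, ∀ y ∈ D, x * y ≠ y * x → ∀ i j : ℕ,
        orderOf (QuotientGroup.mk x : X ⧸ N) = 2 ^ i → orderOf (QuotientGroup.mk y : X ⧸ N) = 2 ^ j →
        j ≤ i → ∃ u ∈ D, ∃ m ∈ D, m ∈ N ∧ u * m ≠ m * u := by
      intro x hx y hy hxy i j hi hj hji
      have hyb : (QuotientGroup.mk y : X ⧸ N) ^ (2 ^ i) = 1 := by
        rw [← orderOf_dvd_iff_pow_eq_one, hj]; exact pow_dvd_pow 2 hji
      have hmem := mem_zpowers_of_cyclic (by positivity) _ _ hi hyb
      obtain ⟨k, hk⟩ := Subgroup.mem_zpowers_iff.1 hmem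
      have hk' : (QuotientGroup.mk (x ^ k) : X ⧸ N) = QuotientGroup.mk y := by
        rw [QuotientGroup.mk_zpow]; exact hk
      have hmN : (x ^ k)⁻¹ * y ∈ N := QuotientGroup.eq.1 hk'
      refine ⟨x, hx, (x ^ k)⁻¹ * y, D.mul_mem (D.inv_mem (D.zpow_mem hx k)) hy, hmN, ?_⟩
      intro h
      apply hxy
      have hy' : y = x ^ k * ((x ^ k)⁻¹ * y) := by group
      have hc : x * x ^ k = x ^ k * x := ((Commute.refl x).zpow_right k).eq
      rw [hy']
      calc x * (x ^ k * ((x ^ k)⁻¹ * y)) = (x * x ^ k) * ((x ^ k)⁻¹ * y) := by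
            rw [mul_assoc]
        _ = x ^ k * (x * ((x ^ k)⁻¹ * y)) := by rw [hc, mul_assoc]
        _ = x ^ k * (((x ^ k)⁻¹ * y) * x) := by rw [h]
        _ = x ^ k * ((x ^ k)⁻¹ * y) * x := (mul_assoc _ _ _).symm
    rcases Nat.le_total j i with h | h
    · exact key x hx y hy hxy i j hi hj h
    · exact key y hy x hx (fun h' => hxy h'.symm) j i hj hi h
  have hNab : ∀ x ∈ N, ∀ y ∈ N, x * y = y * x := by
    intro x hx y hy
    have := cyc_comm hNc (⟨x, hx⟩ : N) ⟨y, hy⟩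
    exact congrArg Subtype.val this
  have hu : u ∉ N := fun h => hum (hNab u h m hmN)
  have hm2 : m ^ 2 ≠ 1 := fun h => hum (invol_central hX N hNn hNc m hmN h u)
  -- the order of m in D is 4
  have hdvd : orderOf (⟨m, hmD⟩ : D) ∣ 2 ^ 3 := by
    have := orderOf_dvd_natCard (⟨m, hmD⟩ : D)
    rw [hD] at this
    exact this
  obtain ⟨k, hk3, hk⟩ := (Nat.dvd_prime_pow Nat.prime_two).1 hdvd
  have hk2 : k = 2 := by
    have h1 : k ≠ 3 := by
      intro h
      rw [h] at hk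
      have hcyc : IsCyclic D := isCyclic_of_orderOf_eq_card (⟨m, hmD⟩ : D) (by rw [hk, hD]; norm_num)
      apply hum
      have := cyc_comm hcyc (⟨u, huD⟩ : D) ⟨m, hmD⟩
      exact congrArg Subtype.val this
    have h2 : ¬ k ≤ 1 := by
      intro h
      apply hm2
      have h3 : (⟨m, hmD⟩ : D) ^ 2 = 1 := by
        rw [← orderOf_dvd_iff_pow_eq_one, hk]
        have hk01 : k = 0 ∨ k = 1 := by omega
        rcases hk01 with h | h <;> rw [h] <;> norm_num
      simpa using congrArg Subtype.val h3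
    omega
  rw [hk2] at hk
  have hm4 : m ^ 4 = 1 := by
    have h3 : (⟨m, hmD⟩ : D) ^ 4 = 1 := by
      rw [← orderOf_dvd_iff_pow_eq_one, hk]; norm_num
    simpa using congrArg Subtype.val h3
  have hidx : (Subgroup.zpowers (⟨m, hmD⟩ : D)).index = 2 := by
    have h1 := (Subgroup.zpowers (⟨m, hmD⟩ : D)).card_mul_index
    rw [Nat.card_zpowers, hk, hD] at h1
    omega
  have hu2 : u ^ 2 ∈ N := by
    have h1 := Subgroup.sq_mem_of_index_two hidx (⟨u, huD⟩ : D)
    obtain ⟨l, hl⟩ := Subgroup.mem_zpowers_iff.1 h1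
    have h2 : m ^ l = u ^ 2 := by simpa using congrArg Subtype.val hl
    rw [← h2]
    exact N.zpow_mem hmN l
  exact dsq_of_inverting hX N hNn hNc hQc u m hu hu2 hmN hm4 hum

/-- A metacyclic 2-group containing an elementary abelian subgroup `V` acted on nontrivially by an
element `t` normalizing `V` with `t² ∈ V` is dihedral, semidihedral or generalized quaternion. -/
theorem dsq_of_four_group {X : Type*} [Group X] [Finite X] (hX : IsPGroup 2 X)
    (hm : Cfsg.IsMetacyclic X) (V : Subgroup X) (hV2 : ∀ x ∈ V, x ^ 2 = 1) (t : X)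
    (htV : ∀ x ∈ V, t * x * t⁻¹ ∈ V) (ht2 : t ^ 2 ∈ V) (v : X) (hv : v ∈ V)
    (htv : t * v ≠ v * t) :
    (∃ k, Nonempty (X ≃* DihedralGroup k)) ∨ Cfsg.IsQuasiDihedral X ∨
      (∃ k, Nonempty (X ≃* QuaternionGroup k)) := by
  classical
  haveI : Fact (Nat.Prime 2) := ⟨Nat.prime_two⟩
  obtain ⟨N, hNn, hNc, hQc⟩ := hm
  have hN2 : IsPGroup 2 N := hX.to_subgroup N
  have hQ2 : IsPGroup 2 (X ⧸ N) := hX.to_quotient N
  have hinv : ∀ x ∈ V, x⁻¹ = x := by
    intro x hx
    have := hV2 x hx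
    rw [pow_two] at this
    exact inv_eq_of_mul_eq_one_left this
  have hVab : ∀ x ∈ V, ∀ y ∈ V, x * y = y * x := by
    intro x hx y hy
    have h1 := hV2 (x * y) (V.mul_mem hx hy)
    rw [pow_two] at h1
    have h2 : x * y = (x * y)⁻¹ := (inv_eq_of_mul_eq_one_left h1).symm
    rw [h2, mul_inv_rev, hinv x hx, hinv y hy]
  have hv2V : t * v * t⁻¹ ∈ V := htV v hv
  have hv1 : v ≠ 1 := by
    intro h; apply htv; rw [h]; simp
  -- v3 = v * (t v t⁻¹) lies in N
  have hv3N : v * (t * v * t⁻¹) ∈ N := by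
    have h1 : v * (t * v * t⁻¹) = v * t * v⁻¹ * t⁻¹ := by rw [hinv v hv]; group
    rw [h1, ← QuotientGroup.eq_one_iff]
    simp only [QuotientGroup.mk_mul, QuotientGroup.mk_inv]
    rw [cyc_comm hQc (v : X ⧸ N) (t : X ⧸ N)]
    group
  have hv3V : v * (t * v * t⁻¹) ∈ V := V.mul_mem hv hv2V
  have hv31 : v * (t * v * t⁻¹) ≠ 1 := by
    intro h
    apply htv
    have h1 : t * v * t⁻¹ = v⁻¹ := eq_inv_of_mul_eq_one_right h
    rw [hinv v hv] at h1
    calc t * v = (t * v * t⁻¹) * t := by group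
      _ = v * t := by rw [h1]
  -- involutions of N
  have hNinv : ∀ w ∈ N, w ^ 2 = 1 → w ≠ 1 → w = v * (t * v * t⁻¹) := by
    intro w hw hw2 hw1
    have h := cyc_invol_unique hNc hN2 (⟨w, hw⟩ : N) ⟨_, hv3N⟩ (Subtype.ext (by simpa using hw2))
      (fun h => hw1 (by simpa using congrArg Subtype.val h))
      (Subtype.ext (by simpa using hV2 _ hv3V))
      (fun h => hv31 (by simpa using congrArg Subtype.val h))
    exact congrArg Subtype.val h
  have hvN : v ∉ N := by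
    intro h
    have h1 := hNinv v h (hV2 v hv) hv1
    have h2 : t * v * t⁻¹ = 1 := by
      have : v * 1 = v * (t * v * t⁻¹) := by rw [mul_one]; exact h1
      exact (mul_left_cancel this).symm
    apply hv1
    calc v = t⁻¹ * (t * v * t⁻¹) * t := by group
      _ = 1 := by rw [h2]; group
  have hvb1 : (QuotientGroup.mk v : X ⧸ N) ≠ 1 := fun h => hvN ((QuotientGroup.eq_one_iff _).1 h)
  have hvb2 : (QuotientGroup.mk v : X ⧸ N) ^ 2 = 1 := by
    rw [← QuotientGroup.mk_pow, hV2 v hv]; rfl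
  -- conjugation by t² is trivial on V
  have htt : ∀ x ∈ V, t * (t * x * t⁻¹) * t⁻¹ = x := by
    intro x hx
    have : t * (t * x * t⁻¹) * t⁻¹ = t ^ 2 * x * (t ^ 2)⁻¹ := by rw [pow_two]; group
    rw [this, hVab _ ht2 _ hx]; group
  -- t² ∈ N
  have ht2N : t ^ 2 ∈ N := by
    by_contra hnot
    have hb1 : (QuotientGroup.mk (t ^ 2) : X ⧸ N) ≠ 1 := fun h =>
      hnot ((QuotientGroup.eq_one_iff _).1 h)
    have hb2 : (QuotientGroup.mk (t ^ 2) : X ⧸ N) ^ 2 = 1 := by
      rw [← QuotientGroup.mk_pow, hV2 _ ht2]; rfl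
    have heq := cyc_invol_unique hQc hQ2 _ _ hb2 hb1 hvb2 hvb1
    have hwN : (t ^ 2)⁻¹ * v ∈ N := QuotientGroup.eq.1 heq
    rw [hinv _ ht2] at hwN
    have hwV : t ^ 2 * v ∈ V := V.mul_mem ht2 hv
    by_cases hw1 : t ^ 2 * v = 1
    · -- v = t²
      apply htv
      have h1 : v = (t ^ 2)⁻¹ := eq_inv_of_mul_eq_one_right hw1
      rw [h1, pow_two]; group
    · have h1 := hNinv _ hwN (hV2 _ hwV) hw1
      -- t² * v = v * v2 = v2 * v
      rw [hVab v hv _ hv2V] at h1
      have h2 : t ^ 2 = t * v * t⁻¹ := mul_right_cancel h1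
      -- t commutes with t², so with t v t⁻¹
      apply htv
      have h3 : t * (t * v * t⁻¹) * t⁻¹ = t * v * t⁻¹ := by
        rw [← h2, pow_two]; group
      rw [htt v hv] at h3
      calc t * v = (t * v * t⁻¹) * t := by group
        _ = v * t := by rw [← h3]
  have htb2 : (QuotientGroup.mk t : X ⧸ N) ^ 2 = 1 := by
    rw [← QuotientGroup.mk_pow]; exact (QuotientGroup.eq_one_iff _).2 ht2N
  have ht4 : t ^ 4 = 1 := by
    have : t ^ 4 = (t ^ 2) ^ 2 := by rw [← pow_mul]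
    rw [this, hV2 _ ht2]
  by_cases htN : t ∈ N
  · exact dsq_of_inverting hX N hNn hNc hQc v t hvN (by rw [hV2 v hv]; exact N.one_mem) htN ht4
      (fun h => htv h.symm)
  · have htb1 : (QuotientGroup.mk t : X ⧸ N) ≠ 1 := fun h => htN ((QuotientGroup.eq_one_iff _).1 h)
    have heq := cyc_invol_unique hQc hQ2 _ _ htb2 htb1 hvb2 hvb1
    have hdN : t⁻¹ * v ∈ N := QuotientGroup.eq.1 heq
    have hd2V : (t⁻¹ * v) ^ 2 ∈ V := by
      have : (t⁻¹ * v) ^ 2 = (t ^ 2)⁻¹ * (t * v * t⁻¹) * v := by rw [pow_two, pow_two]; group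
      rw [this]
      exact V.mul_mem (V.mul_mem (V.inv_mem ht2) hv2V) hv
    have hd4 : (t⁻¹ * v) ^ 4 = 1 := by
      have : (t⁻¹ * v) ^ 4 = ((t⁻¹ * v) ^ 2) ^ 2 := by rw [← pow_mul]
      rw [this, hV2 _ hd2V]
    refine dsq_of_inverting hX N hNn hNc hQc v (t⁻¹ * v) hvN (by rw [hV2 v hv]; exact N.one_mem)
      hdN hd4 ?_
    intro h
    apply htv
    have h1 : v * t⁻¹ = t⁻¹ * v := by
      have : v * t⁻¹ * v = t⁻¹ * v * v := by rw [← mul_assoc] at h; exact h
      exact mul_right_cancel this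
    calc t * v = t * (v * t⁻¹) * t := by group
      _ = t * (t⁻¹ * v) * t := by rw [h1]
      _ = v * t := by group

end Cfsg.Agent.Helper73.MetaEight
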