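import Mathlib
import Cfsg.Prelude.Def_CaseTheorems
import Cfsg.Agent.Lib.Helper73.CyclicSylow
import Cfsg.Agent.Lib.Helper73.MetaSelfCent
import Cfsg.Agent.S2879
import Cfsg.Agent.S4207

set_option autoImplicit false

namespace Cfsg.Agent.Helper73.MetaWreath

open Cfsg.Agent.Helper73

/-- the homocyclic group of rank two -/
abbrev G0 (n : ℕ) := Multiplicative (ZMod (2 ^ n)) × Multiplicative (ZMod (2 ^ n))

abbrev V4 := Multiplicative (ZMod 2) × Multiplicative (ZMod 2)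

theorem v4_fact : ∀ u v w : V4, (u ≠ 1 ∧ v ≠ 1 ∧ u * v⁻¹ ≠ 1) →
    (w = 1 ∨ w = u ∨ w = v ∨ w = u * v) := by decide

lemma zmod_even_of_val (n : ℕ) (u : ZMod (2 ^ n)) (h : 2 ∣ u.val) : ∃ v : ZMod (2 ^ n), u = v + v := by
  haveI : NeZero (2 ^ n) := ⟨by positivity⟩
  obtain ⟨w, hw⟩ := h
  refine ⟨(w : ZMod (2 ^ n)), ?_⟩
  rw [← ZMod.natCast_zmod_val u, hw]
  push_cast
  ring

lemma zmod_even_of_cast (n : ℕ) (hn : 1 ≤ n) (u : ZMod (2 ^ n))
    (h : (ZMod.castHom (dvd_pow_self 2 (by omega : n ≠ 0)) (ZMod 2)) u = 0) :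
    ∃ v : ZMod (2 ^ n), u = v + v := by
  apply zmod_even_of_val
  rw [ZMod.castHom_apply, ← ZMod.natCast_val, ZMod.natCast_eq_zero_iff] at h
  exact h

lemma zmod_even_of_smul (n : ℕ) (hn : 1 ≤ n) (u : ZMod (2 ^ n)) (h : (2 ^ (n - 1)) • u = 0) :
    ∃ v : ZMod (2 ^ n), u = v + v := by
  haveI : NeZero (2 ^ n) := ⟨by positivity⟩
  apply zmod_even_of_val
  rw [← ZMod.natCast_zmod_val u, nsmul_eq_mul, ← Nat.cast_mul, ZMod.natCast_eq_zero_iff] at h
  have h2 : (2 : ℕ) ^ n = 2 ^ (n - 1) * 2 := by rw [← pow_succ]; congr 1; omega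
  have h3 : 2 ^ (n - 1) * 2 ∣ 2 ^ (n - 1) * u.val := (dvd_of_eq h2.symm).trans h
  exact Nat.dvd_of_mul_dvd_mul_left (by positivity) h3

/-- the parity homomorphism -/
noncomputable def parity (n : ℕ) (hn : 1 ≤ n) : G0 n →* V4 :=
  MonoidHom.prodMap
    (AddMonoidHom.toMultiplicative
      (ZMod.castHom (dvd_pow_self 2 (by omega : n ≠ 0)) (ZMod 2)).toAddMonoidHom)
    (AddMonoidHom.toMultiplicative
      (ZMod.castHom (dvd_pow_self 2 (by omega : n ≠ 0)) (ZMod 2)).toAddMonoidHom)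

lemma sq_of_parity (n : ℕ) (hn : 1 ≤ n) (x : G0 n) (h : parity n hn x = 1) : ∃ y : G0 n, x = y ^ 2 := by
  have h1 : (ZMod.castHom (dvd_pow_self 2 (by omega : n ≠ 0)) (ZMod 2)) (Multiplicative.toAdd x.1) = 0 := by
    have := congrArg Prod.fst h
    exact congrArg Multiplicative.toAdd this
  have h2 : (ZMod.castHom (dvd_pow_self 2 (by omega : n ≠ 0)) (ZMod 2)) (Multiplicative.toAdd x.2) = 0 := by
    have := congrArg Prod.snd h
    exact congrArg Multiplicative.toAdd this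
  obtain ⟨v1, hv1⟩ := zmod_even_of_cast n hn _ h1
  obtain ⟨v2, hv2⟩ := zmod_even_of_cast n hn _ h2
  refine ⟨(Multiplicative.ofAdd v1, Multiplicative.ofAdd v2), ?_⟩
  rw [pow_two]
  apply Prod.ext
  · show x.1 = Multiplicative.ofAdd v1 * Multiplicative.ofAdd v1
    rw [← ofAdd_add, ← hv1]; rfl
  · show x.2 = Multiplicative.ofAdd v2 * Multiplicative.ofAdd v2
    rw [← ofAdd_add, ← hv2]; rfl

theorem Z1 (n : ℕ) (x : G0 n) : x ^ (2 ^ n) = 1 := by
  haveI : NeZero (2 ^ n) := ⟨by positivity⟩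
  have hc : Nat.card (Multiplicative (ZMod (2 ^ n))) = 2 ^ n := by
    rw [Nat.card_eq_fintype_card, Fintype.card_multiplicative, ZMod.card]
  apply Prod.ext
  · show x.1 ^ (2 ^ n) = 1
    have h := pow_card_eq_one' (G := Multiplicative (ZMod (2 ^ n))) (x := x.1)
    rw [hc] at h; exact h
  · show x.2 ^ (2 ^ n) = 1
    have h := pow_card_eq_one' (G := Multiplicative (ZMod (2 ^ n))) (x := x.2)
    rw [hc] at h; exact h

theorem Z2 (n : ℕ) (hn : 1 ≤ n) (x : G0 n) (h : x ^ (2 ^ (n - 1)) = 1) : ∃ y : G0 n, x = y ^ 2 := by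
  have h1 : (2 ^ (n - 1)) • (Multiplicative.toAdd x.1) = 0 := by
    have := congrArg Prod.fst h
    exact congrArg Multiplicative.toAdd this
  have h2 : (2 ^ (n - 1)) • (Multiplicative.toAdd x.2) = 0 := by
    have := congrArg Prod.snd h
    exact congrArg Multiplicative.toAdd this
  obtain ⟨v1, hv1⟩ := zmod_even_of_smul n hn _ h1
  obtain ⟨v2, hv2⟩ := zmod_even_of_smul n hn _ h2
  refine ⟨(Multiplicative.ofAdd v1, Multiplicative.ofAdd v2), ?_⟩
  rw [pow_two]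
  apply Prod.ext
  · show x.1 = Multiplicative.ofAdd v1 * Multiplicative.ofAdd v1
    rw [← ofAdd_add, ← hv1]; rfl
  · show x.2 = Multiplicative.ofAdd v2 * Multiplicative.ofAdd v2
    rw [← ofAdd_add, ← hv2]; rfl

theorem Z3 (n : ℕ) (hn : 1 ≤ n) (u v : G0 n) (hu : ∀ y, u ≠ y ^ 2) (hv : ∀ y, v ≠ y ^ 2)
    (huv : ∀ y, u * v⁻¹ ≠ y ^ 2) (x : G0 n) :
    ∃ y, x = y ^ 2 ∨ x = y ^ 2 * u ∨ x = y ^ 2 * v ∨ x = y ^ 2 * (u * v) := by
  have hπu : parity n hn u ≠ 1 := fun h => by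
    obtain ⟨y, hy⟩ := sq_of_parity n hn u h
    exact hu y hy
  have hπv : parity n hn v ≠ 1 := fun h => by
    obtain ⟨y, hy⟩ := sq_of_parity n hn v h
    exact hv y hy
  have hπuv : parity n hn u * (parity n hn v)⁻¹ ≠ 1 := fun h => by
    rw [← map_inv, ← map_mul] at h
    obtain ⟨y, hy⟩ := sq_of_parity n hn _ h
    exact huv y hy
  rcases v4_fact _ _ (parity n hn x) ⟨hπu, hπv, hπuv⟩ with h | h | h | h
  · obtain ⟨y, hy⟩ := sq_of_parity n hn x h
    exact ⟨y, Or.inl hy⟩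
  · have h' : parity n hn (x * u⁻¹) = 1 := by rw [map_mul, map_inv, h, mul_inv_cancel]
    obtain ⟨y, hy⟩ := sq_of_parity n hn _ h'
    refine ⟨y, Or.inr (Or.inl ?_)⟩
    rw [← hy]; group
  · have h' : parity n hn (x * v⁻¹) = 1 := by rw [map_mul, map_inv, h, mul_inv_cancel]
    obtain ⟨y, hy⟩ := sq_of_parity n hn _ h'
    refine ⟨y, Or.inr (Or.inr (Or.inl ?_))⟩
    rw [← hy]; group
  · have h' : parity n hn (x * (u * v)⁻¹) = 1 := by
      rw [map_mul, map_inv, map_mul, h, mul_inv_cancel]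
    obtain ⟨y, hy⟩ := sq_of_parity n hn _ h'
    refine ⟨y, Or.inr (Or.inr (Or.inr ?_))⟩
    rw [← hy]; group

/-- elements of the form `y² dᵏ` -/
def InSq {G : Type*} [CommGroup G] (d x : G) : Prop := ∃ (y : G) (k : ℤ), x = y ^ 2 * d ^ k

lemma inSq_mul {G : Type*} [CommGroup G] (d x x' : G) (h : InSq d x) (h' : InSq d x') :
    InSq d (x * x') := by
  obtain ⟨y, k, rfl⟩ := h
  obtain ⟨y', k', rfl⟩ := h'
  refine ⟨y * y', k + k', ?_⟩
  rw [mul_pow, zpow_add]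
  exact mul_mul_mul_comm _ _ _ _

lemma inSq_zpow {G : Type*} [CommGroup G] (d : G) (k : ℤ) : InSq d (d ^ k) := ⟨1, k, by simp⟩

theorem W {G : Type*} [CommGroup G] (τ : G →* G) (hτ : ∀ x, τ (τ x) = x) (a : G)
    (hd : ∀ y, τ a * a⁻¹ ≠ y ^ 2)
    (h4 : ∀ u v : G, (∀ y, u ≠ y ^ 2) → (∀ y, v ≠ y ^ 2) → (∀ y, u * v⁻¹ ≠ y ^ 2) →
       ∀ x, ∃ y, x = y ^ 2 ∨ x = y ^ 2 * u ∨ x = y ^ 2 * v ∨ x = y ^ 2 * (u * v)) :
    (∀ x, τ x = x → InSq (τ a * a⁻¹) x) ∧ ¬ InSq (τ a * a⁻¹) a := by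
  have hna : ∀ y, a ≠ y ^ 2 := by
    intro y h
    apply hd (τ y * y⁻¹)
    rw [h, map_pow, mul_pow, inv_pow]
  have hnb : ∀ y, τ a ≠ y ^ 2 := by
    intro y h
    apply hna (τ y)
    rw [← map_pow, ← h, hτ]
  have hnab : ∀ y, a * (τ a)⁻¹ ≠ y ^ 2 := by
    intro y h
    apply hd y⁻¹
    rw [inv_pow, ← h, mul_inv_rev, inv_inv]
  constructor
  · intro x hx
    obtain ⟨y, h | h | h | h⟩ := h4 a (τ a) hna hnb hnab x
    · exact ⟨y, 0, by rw [zpow_zero, mul_one]; exact h⟩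
    · exfalso
      have h1 : τ y ^ 2 * τ a = y ^ 2 * a := by
        rw [← map_pow, ← map_mul, ← h]; exact hx
      have h2 : τ a = (τ y ^ 2)⁻¹ * (y ^ 2 * a) := eq_inv_mul_iff_mul_eq.2 h1
      have h3 : τ a * a⁻¹ = (y * (τ y)⁻¹) ^ 2 := by
        rw [h2]
        apply Additive.ofMul.injective
        simp only [ofMul_mul, ofMul_inv, ofMul_pow]
        abel
      exact hd _ h3
    · exfalso
      have h0 : τ x = τ y ^ 2 * a := by rw [h, map_mul, map_pow, hτ]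
      have h1 : y ^ 2 * τ a = τ y ^ 2 * a := by rw [← h0, hx]; exact h.symm
      have h2 : τ a = (y ^ 2)⁻¹ * (τ y ^ 2 * a) := eq_inv_mul_iff_mul_eq.2 h1
      have h3 : τ a * a⁻¹ = (τ y * y⁻¹) ^ 2 := by
        rw [h2]
        apply Additive.ofMul.injective
        simp only [ofMul_mul, ofMul_inv, ofMul_pow]
        abel
      exact hd _ h3
    · refine ⟨y * a, 1, ?_⟩
      rw [h, zpow_one]
      apply Additive.ofMul.injective
      simp only [ofMul_mul, ofMul_inv, ofMul_pow]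
      abel
  · rintro ⟨z, k, h⟩
    rcases Int.even_or_odd' k with ⟨i, rfl | rfl⟩
    · have h5 : (τ a * a⁻¹) ^ (2 * i) = ((τ a * a⁻¹) ^ i) ^ 2 := by
        rw [mul_comm 2 i, zpow_mul, zpow_ofNat]
      rw [h5] at h
      apply hna (z * (τ a * a⁻¹) ^ i)
      rw [mul_pow]
      exact h
    · have h5 : (τ a * a⁻¹) ^ (2 * i + 1) = ((τ a * a⁻¹) ^ i) ^ 2 * (τ a * a⁻¹) := by
        rw [zpow_add_one, mul_comm 2 i, zpow_mul, zpow_ofNat]
      rw [h5] at h
      generalize (τ a * a⁻¹) ^ i = c at h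
      have h6 : τ a = ((z * c) ^ 2)⁻¹ * a * a := by
        calc τ a = ((z * c) ^ 2)⁻¹ * (z ^ 2 * (c ^ 2 * (τ a * a⁻¹))) * a := by
              apply Additive.ofMul.injective
              simp only [ofMul_mul, ofMul_inv, ofMul_pow]
              abel
          _ = ((z * c) ^ 2)⁻¹ * a * a := by rw [← h]
      apply hnb (a * (z * c)⁻¹)
      rw [h6]
      apply Additive.ofMul.injective
      simp only [ofMul_mul, ofMul_inv, ofMul_pow]
      abel

/-- A metacyclic 2-group has no subgroup `Z_{2^n} × Z_{2^n}` (`n ≥ 2`) normalized by an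
element `t` with `t² ∈ E` acting nontrivially modulo squares. -/
theorem no_wreath {X : Type*} [Group X] [Finite X] (hX : IsPGroup 2 X) (hm : Cfsg.IsMetacyclic X)
    (E : Subgroup X) (n : ℕ) (hn : 2 ≤ n) (e : E ≃* G0 n)
    (t : X) (htE : ∀ x ∈ E, t * x * t⁻¹ ∈ E) (ht2 : t ^ 2 ∈ E)
    (a : X) (ha : a ∈ E) (hd : ∀ y ∈ E, t * a * t⁻¹ * a⁻¹ ≠ y ^ 2) : False := by
  classical
  haveI : Fact (Nat.Prime 2) := ⟨Nat.prime_two⟩
  obtain ⟨A, hAn, hAc, hQc⟩ := hm
  have hQ2 : IsPGroup 2 (X ⧸ A) := hX.to_quotient A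
  -- E is abelian
  have hab : ∀ x ∈ E, ∀ y ∈ E, x * y = y * x := by
    intro x hx y hy
    have h1 : (⟨x, hx⟩ : E) * ⟨y, hy⟩ = ⟨y, hy⟩ * ⟨x, hx⟩ := by
      apply e.injective
      rw [map_mul, map_mul, mul_comm]
    exact congrArg Subtype.val h1
  have hAab : ∀ x ∈ A, ∀ y ∈ A, x * y = y * x := by
    intro x hx y hy
    have := MetaSelfCent.cyc_comm hAc (⟨x, hx⟩ : A) ⟨y, hy⟩
    exact congrArg Subtype.val this
  -- conjugation by t on E
  let φ : E →* E :=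
    { toFun := fun x => ⟨t * x * t⁻¹, htE x x.2⟩
      map_one' := by
        apply Subtype.ext
        show t * ((1 : E) : X) * t⁻¹ = 1
        simp
      map_mul' := by
        intro x y
        apply Subtype.ext
        show t * ((x * y : E) : X) * t⁻¹ = (t * x * t⁻¹) * (t * y * t⁻¹)
        rw [Subgroup.coe_mul]; group }
  have hφval : ∀ x : E, ((φ x : E) : X) = t * x * t⁻¹ := fun x => rfl
  let τ : G0 n →* G0 n := e.toMonoidHom.comp (φ.comp e.symm.toMonoidHom)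
  have hτe : ∀ x : E, τ (e x) = e (φ x) := by
    intro x
    show e (φ (e.symm (e x))) = e (φ x)
    rw [MulEquiv.symm_apply_apply]
  have hφφ : ∀ x : E, φ (φ x) = x := by
    intro x
    apply Subtype.ext
    rw [hφval, hφval]
    have : t * (t * (x : X) * t⁻¹) * t⁻¹ = t ^ 2 * x * (t ^ 2)⁻¹ := by rw [pow_two]; group
    rw [this, hab _ ht2 _ x.2]; group
  have hττ : ∀ x, τ (τ x) = x := by
    intro x
    obtain ⟨x', rfl⟩ := e.surjective x
    rw [hτe, hτe, hφφ]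
  obtain ⟨a', ha'⟩ : ∃ a' : E, (a' : X) = a := ⟨⟨a, ha⟩, rfl⟩
  obtain ⟨d', hd'⟩ : ∃ d' : E, d' = φ a' * a'⁻¹ := ⟨_, rfl⟩
  have hd'val : (d' : X) = t * a * t⁻¹ * a⁻¹ := by
    rw [hd', Subgroup.coe_mul, hφval, Subgroup.coe_inv, ha']
  obtain ⟨a0, ha0⟩ : ∃ a0, a0 = e a' := ⟨_, rfl⟩
  obtain ⟨d0, hd0⟩ : ∃ d0, d0 = τ a0 * a0⁻¹ := ⟨_, rfl⟩
  have hd0e : d0 = e d' := by
    rw [hd0, ha0, hτe, hd', map_mul, map_inv]
  have hd0sq : ∀ y, τ a0 * a0⁻¹ ≠ y ^ 2 := by
    intro y hy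
    obtain ⟨y', rfl⟩ := e.surjective y
    rw [← hd0, hd0e, ← map_pow] at hy
    have h1 := e.injective hy
    have h2 := congrArg Subtype.val h1
    rw [hd'val, Subgroup.coe_pow] at h2
    exact hd y' y'.2 h2
  obtain ⟨W1, W2⟩ := W τ hττ a0 hd0sq (fun u v hu hv huv x => Z3 n (by omega) u v hu hv huv x)
  rw [← hd0] at W1 W2
  -- the order of d
  have hord0 : orderOf d0 = 2 ^ n := by
    have h1 : ¬ d0 ^ (2 ^ (n - 1)) = 1 := by
      intro h
      obtain ⟨y, hy⟩ := Z2 n (by omega) d0 h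
      exact hd0sq y (hd0 ▸ hy)
    have h2 : d0 ^ (2 ^ (n - 1 + 1)) = 1 := by
      rw [show n - 1 + 1 = n by omega]; exact Z1 n d0
    rw [orderOf_eq_prime_pow h1 h2, show n - 1 + 1 = n by omega]
  obtain ⟨d, hdd⟩ : ∃ d : X, d = (d' : X) := ⟨_, rfl⟩
  have hdE : d ∈ E := hdd ▸ d'.2
  have hord : orderOf d = 2 ^ n := by
    rw [hdd, Subgroup.orderOf_coe, ← MulEquiv.orderOf_eq e d', ← hd0e, hord0]
  have hdsq : d ^ 2 ≠ 1 := by
    apply pow_ne_one_of_lt_orderOf (by norm_num)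
    rw [hord]
    calc 2 = 2 ^ 1 := by norm_num
      _ < 2 ^ n := Nat.pow_lt_pow_right (by norm_num) (by omega)
  have hdA : d ∈ A := by
    rw [hdd, hd'val, ← QuotientGroup.eq_one_iff]
    simp only [QuotientGroup.mk_mul, QuotientGroup.mk_inv]
    rw [MetaSelfCent.cyc_comm hQc (t : X ⧸ A) (a : X ⧸ A)]
    group
  have hτd : t * d * t⁻¹ = d⁻¹ := by
    have h1 : t * (t * a * t⁻¹) * t⁻¹ = a := by
      have := congrArg Subtype.val (hφφ a')
      rw [hφval, hφval, ha'] at this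
      exact this
    rw [hdd, hd'val]
    have : t * (t * a * t⁻¹ * a⁻¹) * t⁻¹ = (t * (t * a * t⁻¹) * t⁻¹) * (t * a * t⁻¹)⁻¹ := by group
    rw [this, h1]; group
  -- exponent of E
  have hexpE : ∀ x ∈ E, x ^ (2 ^ n) = 1 := by
    intro x hx
    have h1 : (⟨x, hx⟩ : E) ^ (2 ^ n) = 1 := by
      apply e.injective
      rw [map_pow, map_one]; exact Z1 n _
    have := congrArg Subtype.val h1
    simpa using this
  -- orders in the quotient
  obtain ⟨i, hi⟩ := (IsPGroup.iff_orderOf.1 hQ2) (QuotientGroup.mk t : X ⧸ A)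
  obtain ⟨j, hj⟩ := (IsPGroup.iff_orderOf.1 hQ2) (QuotientGroup.mk a : X ⧸ A)
  haveI : IsCyclic (X ⧸ A) := hQc
  haveI : IsCyclic A := hAc
  rcases Nat.lt_or_ge j i with hji | hij
  · -- a ∈ ⟨t²⟩ A
    have ho2 : orderOf ((QuotientGroup.mk t : X ⧸ A) ^ 2) = 2 ^ (i - 1) := by
      rw [orderOf_pow_of_dvd two_ne_zero (by rw [hi]; exact dvd_pow_self 2 (by omega)), hi]
      have : (2 : ℕ) ^ i = 2 ^ (i - 1) * 2 := by rw [← pow_succ]; congr 1; omega
      rw [this, Nat.mul_div_cancel _ (by norm_num)]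
    have hab1 : (QuotientGroup.mk a : X ⧸ A) ^ (2 ^ (i - 1)) = 1 := by
      rw [← orderOf_dvd_iff_pow_eq_one, hj]
      exact pow_dvd_pow 2 (by omega)
    have hmem := mem_zpowers_of_cyclic (by positivity) _ _ ho2 hab1
    obtain ⟨k, hk⟩ := Subgroup.mem_zpowers_iff.1 hmem
    have hk' : (QuotientGroup.mk ((t ^ 2) ^ k) : X ⧸ A) = QuotientGroup.mk a := by
      rw [QuotientGroup.mk_zpow, QuotientGroup.mk_pow]; exact hk
    have hαA : ((t ^ 2) ^ k)⁻¹ * a ∈ A := QuotientGroup.eq.1 hk'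
    have huE : (t ^ 2) ^ k ∈ E := E.zpow_mem ht2 k
    have hαE : ((t ^ 2) ^ k)⁻¹ * a ∈ E := E.mul_mem (E.inv_mem huE) ha
    -- α is a power of d
    have hmem2 := mem_zpowers_of_cyclic (W := A) (by positivity : 0 < 2 ^ n) ⟨d, hdA⟩
      ⟨((t ^ 2) ^ k)⁻¹ * a, hαA⟩ (by rw [Subgroup.orderOf_mk, hord])
      (by apply Subtype.ext; simpa using hexpE _ hαE)
    obtain ⟨l, hl⟩ := Subgroup.mem_zpowers_iff.1 hmem2
    have hl' : d ^ l = ((t ^ 2) ^ k)⁻¹ * a := by
      have := congrArg Subtype.val hl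
      simpa using this
    -- translate to G0
    have h1 : a' = ⟨(t ^ 2) ^ k, huE⟩ * d' ^ l := by
      apply Subtype.ext
      rw [Subgroup.coe_mul, Subgroup.coe_zpow, ← hdd, hl', ha']
      simp
    have h2 : InSq d0 (e ⟨(t ^ 2) ^ k, huE⟩) := by
      apply W1
      rw [hτe]
      congr 1
      apply Subtype.ext
      rw [hφval]
      show t * (t ^ 2) ^ k * t⁻¹ = (t ^ 2) ^ k
      have hc : Commute t ((t ^ 2) ^ k) := ((Commute.refl t).pow_right 2).zpow_right k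
      rw [hc.eq]; group
    have h3 : InSq d0 (e (d' ^ l)) := by
      rw [map_zpow, ← hd0e]; exact inSq_zpow d0 l
    apply W2
    rw [ha0, h1, map_mul]
    exact inSq_mul d0 _ _ h2 h3
  · -- t ∈ ⟨a⟩ A
    have htb1 : (QuotientGroup.mk t : X ⧸ A) ^ (2 ^ j) = 1 := by
      rw [← orderOf_dvd_iff_pow_eq_one, hi]
      exact pow_dvd_pow 2 hij
    have hmem := mem_zpowers_of_cyclic (by positivity) _ _ hj htb1
    obtain ⟨k, hk⟩ := Subgroup.mem_zpowers_iff.1 hmem
    have hk' : (QuotientGroup.mk (a ^ k) : X ⧸ A) = QuotientGroup.mk t := by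
      rw [QuotientGroup.mk_zpow]; exact hk
    have hαA : (a ^ k)⁻¹ * t ∈ A := QuotientGroup.eq.1 hk'
    have hakE : a ^ k ∈ E := E.zpow_mem ha k
    apply hdsq
    have h1 : t * d * t⁻¹ = d := by
      have ht : t = a ^ k * ((a ^ k)⁻¹ * t) := by group
      generalize (a ^ k)⁻¹ * t = α at hαA ht
      rw [ht]
      calc a ^ k * α * d * (a ^ k * α)⁻¹ = a ^ k * (α * d) * α⁻¹ * (a ^ k)⁻¹ := by group
        _ = a ^ k * (d * α) * α⁻¹ * (a ^ k)⁻¹ := by rw [hAab _ hαA _ hdA]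
        _ = (a ^ k * d) * (a ^ k)⁻¹ := by group
        _ = (d * a ^ k) * (a ^ k)⁻¹ := by rw [hab _ hakE _ hdE]
        _ = d := by group
    rw [hτd] at h1
    calc d ^ 2 = d * d := pow_two d
      _ = d * d⁻¹ := by rw [h1]
      _ = 1 := mul_inv_cancel d

theorem card_G0 (n : ℕ) : Nat.card (G0 n) = 2 ^ n * 2 ^ n := by
  haveI : NeZero (2 ^ n) := ⟨by positivity⟩
  have hc : Nat.card (Multiplicative (ZMod (2 ^ n))) = 2 ^ n := by
    rw [Nat.card_eq_fintype_card, Fintype.card_multiplicative, ZMod.card]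
  rw [Nat.card_prod, hc]

/-- the homocyclic group of rank two as a power -/
def finTwoEquiv (M : Type*) [AddGroup M] :
    Multiplicative M × Multiplicative M ≃* Multiplicative (Fin 2 → M) where
  toFun x := Multiplicative.ofAdd ![Multiplicative.toAdd x.1, Multiplicative.toAdd x.2]
  invFun g := (Multiplicative.ofAdd (Multiplicative.toAdd g 0),
    Multiplicative.ofAdd (Multiplicative.toAdd g 1))
  left_inv x := rfl
  right_inv g := by
    apply Multiplicative.toAdd.injective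
    funext i
    fin_cases i <;> rfl
  map_mul' x y := by
    apply Multiplicative.toAdd.injective
    funext i
    fin_cases i <;> rfl

/-- A proper self-centralizing subgroup with non-2-group automorphism group in a metacyclic
2-group which is not dihedral, semidihedral or quaternion is homocyclic of exponent at least 4. -/
theorem sub_homocyclic {X : Type*} [Group X] [Finite X] (hX : IsPGroup 2 X)
    (hm : Cfsg.IsMetacyclic X)
    (hd : ¬ ∃ m : ℕ, Nonempty (X ≃* DihedralGroup m))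
    (hq : ¬ ∃ m : ℕ, Nonempty (X ≃* QuaternionGroup m))
    (hsd : ¬ Cfsg.IsQuasiDihedral X)
    {Q : Type*} [Group Q] (f : Q →* X) (hf : Function.Injective f) (hE : f.range ≠ ⊤)
    (hC : Subgroup.centralizer (f.range : Set X) ≤ f.range) (hA : ¬ IsPGroup 2 (MulAut Q)) :
    ∃ n, 2 ≤ n ∧ Nonempty (Q ≃* G0 n) := by
  classical
  haveI : Finite Q := Finite.of_injective f hf
  have hQ2 : IsPGroup 2 Q := hX.of_injective f hf
  have hQm : Cfsg.IsMetacyclic Q := Cfsg.Agent.S2879.isMetacyclic_of_injective f hf hm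
  have key : (Nonempty (f.range ≃* QuaternionGroup 2) ∨
      ((∀ x ∈ f.range, x ^ 2 = 1) ∧ 2 < Nat.card f.range)) → False := by
    intro hcase
    rcases MetaSelfCent.selfcent hX hm f.range hE hC hcase with h | h | h
    · exact hd h
    · exact hsd h
    · exact hq h
  rcases Cfsg.Agent.S1896.result hQ2 hQm hA with ⟨⟨e⟩⟩ | ⟨n, ⟨e⟩⟩
  · exact (key (Or.inl ⟨(MonoidHom.ofInjective hf).symm.trans e⟩)).elim
  · rcases Nat.lt_or_ge n 2 with hn | hn
    · exfalso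
      have hcard : Nat.card Q = 2 ^ n * 2 ^ n := by
        rw [Nat.card_congr e.toEquiv]; exact card_G0 n
      interval_cases n
      · apply hA
        have hsub : Subsingleton Q := (Nat.card_eq_one_iff_unique.1 (by rw [hcard]; rfl)).1
        intro g
        refine ⟨0, ?_⟩
        ext x
        exact Subsingleton.elim _ _
      · apply key
        right
        constructor
        · rintro _ ⟨q, rfl⟩
          rw [← map_pow]
          have : q ^ 2 = 1 := by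
            apply e.injective
            rw [map_pow, map_one]
            exact Z1 1 (e q)
          rw [this, map_one]
        · rw [← Nat.card_congr (MonoidHom.ofInjective hf).toEquiv, hcard]
          norm_num
    · exact ⟨n, hn, ⟨e⟩⟩

end Cfsg.Agent.Helper73.MetaWreath
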