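import Mathlib
import Cfsg.Agent.Lib.Helper73.N4800Base
import Cfsg.Agent.Lib.Helper17.Burnside
import Cfsg.Agent.S1017
import Cfsg.Agent.Lib.Helper78.N4800FR
import Cfsg.Agent.Lib.Helper19.N4800F16
import Cfsg.Agent.Lib.Helper40.N4800BC
import Cfsg.Agent.Lib.Helper44.N4800F6

/-!
# Order 4800, case `n_5 = 96` is impossible (helper73, for the S0983 exercise order 4800)

`false_of_ninetysix`: a simple group of order `4800` does not have `96` Sylow `5`-subgroups.
Pieces: (FR) helper78, (F16) helper19, (BC) helper40, (F6) helper44; (CT), (CP), (Z0) and the assembly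
here.  `s(D) := #{Q ∈ Syl_5 : Q ≤ C(D)}`; `|C(D)| = s * |N(P) ∩ C(D)|` (S1017), `s ≡ 1 mod 5`.
-/

set_option autoImplicit false

namespace Cfsg.Agent.Helper73.N4800

open Cfsg.Agent.Helper17 MulAction
open Cfsg.Agent.Helper78.N4800 Cfsg.Agent.Helper19.N4800 Cfsg.Agent.Helper40.N4800
  Cfsg.Agent.Helper44.N4800

universe u

variable {G : Type u} [Group G] [Finite G]

/-- (CT) In a nonabelian simple group no nontrivial subgroup is central. -/
theorem centralizer_ne_top [IsSimpleGroup G] (hna : ¬ IsMulCommutative G) (D : Subgroup G)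
    (hD : D ≠ ⊥) : Subgroup.centralizer (D : Set G) ≠ ⊤ := by
  intro h
  rw [Subgroup.centralizer_eq_top_iff_subset] at h
  have hn : (Subgroup.center G).Normal := inferInstance
  rcases hn.eq_bot_or_eq_top with hb | ht
  · apply hD
    rw [eq_bot_iff]
    intro x hx
    have := h hx
    rw [SetLike.mem_coe, hb] at this
    exact this
  · apply hna
    refine ⟨⟨fun a b => ?_⟩⟩
    have hb : b ∈ Subgroup.center G := by rw [ht]; trivial
    exact (Subgroup.mem_center_iff.1 hb a)

/-- (CP) `C_G(P) = P`. -/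
theorem centralizer_eq [IsSimpleGroup G] (hG : Nat.card G = 4800)
    (h96 : Nat.card (Sylow 5 G) = 96) (P : Sylow 5 G) :
    Subgroup.centralizer ((P : Subgroup G) : Set G) = (P : Subgroup G) := by
  have hP25 := card_sylow_five hG P
  have hN50 := card_normalizer_five hG h96 P
  have hPC := sylow_five_le_centralizer hG P
  have hCN : Subgroup.centralizer ((P : Subgroup G) : Set G) ≤
      Subgroup.normalizer ((P : Subgroup G) : Set G) := Subgroup.centralizer_le_normalizer _
  have h1 : 25 ∣ Nat.card (Subgroup.centralizer ((P : Subgroup G) : Set G)) :=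
    hP25 ▸ Subgroup.card_dvd_of_le hPC
  have h2 : Nat.card (Subgroup.centralizer ((P : Subgroup G) : Set G)) ∣ 50 :=
    hN50 ▸ Subgroup.card_dvd_of_le hCN
  have hc : Nat.card (Subgroup.centralizer ((P : Subgroup G) : Set G)) = 25 ∨
      Nat.card (Subgroup.centralizer ((P : Subgroup G) : Set G)) = 50 := by
    have hle : Nat.card (Subgroup.centralizer ((P : Subgroup G) : Set G)) ≤ 50 :=
      Nat.le_of_dvd (by norm_num) h2
    obtain ⟨k, hk⟩ := h1
    have : k ≤ 2 := by omega
    interval_cases k
    · rw [hk] at h2; norm_num at h2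
    · left; omega
    · right; omega
  rcases hc with hc | hc
  · exact (Subgroup.eq_of_le_of_card_ge hPC (by rw [hc, hP25])).symm
  · exfalso
    have hNC : Subgroup.normalizer ((P : Subgroup G) : Set G) ≤
        Subgroup.centralizer ((P : Subgroup G) : Set G) := by
      have := Subgroup.eq_of_le_of_card_ge hCN (by rw [hc, hN50])
      rw [this]
    exact not_normalizer_le_centralizer P (by rw [hP25]; norm_num)
      (by rw [hP25, hG]; norm_num) hNC

/-- (Z0) At most one subgroup of order `5` of `P` is centralized by `N(P)`. -/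
theorem eq_of_normalizer_le_centralizer (P : Sylow 5 G) (hP : Nat.card (P : Subgroup G) = 25)
    (hC : Subgroup.centralizer ((P : Subgroup G) : Set G) = (P : Subgroup G))
    (hN : Nat.card (Subgroup.normalizer ((P : Subgroup G) : Set G)) = 50)
    (D₁ D₂ : Subgroup G) (h₁ : D₁ ≤ (P : Subgroup G)) (h₂ : D₂ ≤ (P : Subgroup G))
    (c₁ : Nat.card D₁ = 5) (c₂ : Nat.card D₂ = 5)
    (n₁ : Subgroup.normalizer ((P : Subgroup G) : Set G) ≤ Subgroup.centralizer (D₁ : Set G))
    (n₂ : Subgroup.normalizer ((P : Subgroup G) : Set G) ≤ Subgroup.centralizer (D₂ : Set G)) :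
    D₁ = D₂ := by
  by_contra hne
  have hsup : D₁ ⊔ D₂ ≤ (P : Subgroup G) := sup_le h₁ h₂
  have hcard : Nat.card (D₁ ⊔ D₂ : Subgroup G) = 25 := by
    have hd : Nat.card (D₁ ⊔ D₂ : Subgroup G) ∣ 5 ^ 2 := by
      have := Subgroup.card_dvd_of_le hsup
      rw [hP] at this
      simpa using this
    obtain ⟨k, hk, hkk⟩ := (Nat.dvd_prime_pow Nat.prime_five).1 hd
    have h5 : 5 ∣ Nat.card (D₁ ⊔ D₂ : Subgroup G) :=
      c₁ ▸ Subgroup.card_dvd_of_le (le_sup_left : D₁ ≤ D₁ ⊔ D₂)
    interval_cases k
    · rw [hkk] at h5; norm_num at h5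
    · exfalso
      have e1 : D₁ = D₁ ⊔ D₂ :=
        Subgroup.eq_of_le_of_card_ge le_sup_left (by rw [hkk, c₁]; norm_num)
      have e2 : D₂ = D₁ ⊔ D₂ :=
        Subgroup.eq_of_le_of_card_ge le_sup_right (by rw [hkk, c₂]; norm_num)
      exact hne (e1.trans e2.symm)
    · simpa using hkk
  have hsupP : D₁ ⊔ D₂ = (P : Subgroup G) :=
    Subgroup.eq_of_le_of_card_ge hsup (by rw [hcard, hP])
  have e1 : D₁ ≤ Subgroup.centralizer
      ((Subgroup.normalizer ((P : Subgroup G) : Set G) : Subgroup G) : Set G) :=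
    Subgroup.le_centralizer_iff.1 n₁
  have e2 : D₂ ≤ Subgroup.centralizer
      ((Subgroup.normalizer ((P : Subgroup G) : Set G) : Subgroup G) : Set G) :=
    Subgroup.le_centralizer_iff.1 n₂
  have e3 : (P : Subgroup G) ≤ Subgroup.centralizer
      ((Subgroup.normalizer ((P : Subgroup G) : Set G) : Subgroup G) : Set G) :=
    (le_of_eq hsupP.symm).trans (sup_le e1 e2)
  have e4 : Subgroup.normalizer ((P : Subgroup G) : Set G) ≤
      Subgroup.centralizer ((P : Subgroup G) : Set G) := Subgroup.le_centralizer_iff.1 e3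
  rw [hC] at e4
  have := Subgroup.card_le_of_le e4
  omega

/-- The number of Sylow `p`-subgroups of `G` inside a subgroup `H` containing one of them is
`≡ 1 mod p` (helper85's `O4320.card_sylow_le_mod` without its unused hypothesis). -/
theorem card_sylow_le_modEq (p : ℕ) [Fact p.Prime] (P : Sylow p G)
    (H : Subgroup G) (hPH : (P : Subgroup G) ≤ H) :
    Nat.card {Q : Sylow p G // (Q : Subgroup G) ≤ H} ≡ 1 [MOD p] := by
  classical
  let X : SubMulAction (P : Subgroup G) (Sylow p G) :=
    { carrier := {Q | (Q : Subgroup G) ≤ H}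
      smul_mem' := by
        rintro ⟨g, hg⟩ Q hQ
        show ((⟨g, hg⟩ : (P : Subgroup G)) • Q : Sylow p G).1 ≤ H
        intro x hx
        have hx' : x ∈ (g • Q : Sylow p G).1 := hx
        rw [Sylow.coe_subgroup_smul] at hx'
        obtain ⟨s, hs, rfl⟩ := (Subgroup.mem_smul_pointwise_iff_exists _ _ _).mp hx'
        have h1 : s ∈ H := hQ hs
        have hgH : g ∈ H := hPH hg
        have h3 : MulAut.conj g • s = g * s * g⁻¹ := rfl
        rw [h3]
        exact H.mul_mem (H.mul_mem hgH h1) (H.inv_mem hgH) }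
  have hmod := P.2.card_modEq_card_fixedPoints ↥X
  have e1 : Nat.card ↥X = Nat.card {Q : Sylow p G // (Q : Subgroup G) ≤ H} := rfl
  have hfix : ∀ x : ↥X, x ∈ fixedPoints (P : Subgroup G) ↥X ↔ x = ⟨P, hPH⟩ := by
    intro x
    constructor
    · intro hx
      have h1 : (x : Sylow p G) ∈ fixedPoints (P : Subgroup G) (Sylow p G) := by
        intro g
        have := hx g
        exact congrArg (fun t : ↥X => (t : Sylow p G)) this
      have h2 : (P : Subgroup G) ≤ (x : Sylow p G) := P.2.sylow_mem_fixedPoints_iff.mp h1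
      have h3 : ((x : Sylow p G) : Subgroup G) = P := P.3 (x : Sylow p G).2 h2
      apply Subtype.ext
      exact Sylow.ext h3
    · rintro rfl g
      apply Subtype.ext
      show g • P = P
      have : P ∈ fixedPoints (P : Subgroup G) (Sylow p G) :=
        P.2.sylow_mem_fixedPoints_iff.mpr le_rfl
      exact this g
  have e2 : Nat.card (fixedPoints (P : Subgroup G) ↥X) = 1 := by
    rw [Nat.card_eq_one_iff_unique]
    refine ⟨⟨?_⟩, ⟨⟨⟨P, hPH⟩, (hfix _).2 rfl⟩⟩⟩
    rintro ⟨a, ha⟩ ⟨b, hb⟩
    apply Subtype.ext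
    exact ((hfix a).1 ha).trans ((hfix b).1 hb).symm
  rw [e1, e2] at hmod
  exact hmod

/-- Analysis of one nontrivial intersection `D = P ⊓ R` of two Sylow `5`-subgroups. -/
theorem inter_analysis [IsSimpleGroup G] (hG : Nat.card G = 4800)
    (h96 : Nat.card (Sylow 5 G) = 96) (P R : Sylow 5 G) (hne : R ≠ P)
    (hD : (P : Subgroup G) ⊓ (R : Subgroup G) ≠ ⊥) :
    Nat.card ((P : Subgroup G) ⊓ (R : Subgroup G) : Subgroup G) = 5 ∧
    Subgroup.normalizer ((P : Subgroup G) : Set G) ≤
      Subgroup.centralizer (((P : Subgroup G) ⊓ (R : Subgroup G) : Subgroup G) : Set G) ∧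
    Nat.card {Q : Sylow 5 G // (Q : Subgroup G) ≤
      Subgroup.centralizer (((P : Subgroup G) ⊓ (R : Subgroup G) : Subgroup G) : Set G)} ≤ 9 := by
  set D : Subgroup G := (P : Subgroup G) ⊓ (R : Subgroup G) with hDdef
  have hP25 := card_sylow_five hG P
  have hR25 := card_sylow_five hG R
  have hN50 := card_normalizer_five hG h96 P
  have hDP : D ≤ (P : Subgroup G) := inf_le_left
  have hDR : D ≤ (R : Subgroup G) := inf_le_right
  -- |D| = 5
  have hD5 : Nat.card D = 5 := by
    have hdvd : Nat.card D ∣ 5 ^ 2 := by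
      have := Subgroup.card_dvd_of_le hDP
      rw [hP25] at this
      simpa using this
    obtain ⟨k, hk, hkk⟩ := (Nat.dvd_prime_pow Nat.prime_five).1 hdvd
    interval_cases k
    · exfalso
      apply hD
      rw [← Subgroup.card_eq_one]
      simpa using hkk
    · simpa using hkk
    · exfalso
      have hDP' : D = (P : Subgroup G) :=
        Subgroup.eq_of_le_of_card_ge hDP (by rw [hkk, hP25]; norm_num)
      have hPR : (P : Subgroup G) ≤ (R : Subgroup G) := hDP' ▸ hDR
      have : (R : Subgroup G) = (P : Subgroup G) := P.3 R.2 hPR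
      exact hne (Sylow.ext this)
  set C : Subgroup G := Subgroup.centralizer (D : Set G) with hCdef
  have hPC : (P : Subgroup G) ≤ C :=
    (sylow_five_le_centralizer hG P).trans (Subgroup.centralizer_le (by exact_mod_cast hDP))
  have hRC : (R : Subgroup G) ≤ C :=
    (sylow_five_le_centralizer hG R).trans (Subgroup.centralizer_le (by exact_mod_cast hDR))
  have hmul := Cfsg.Agent.S1017.card_eq_card_mul C P hPC
  have hmod := card_sylow_le_modEq 5 P C hPC
  set s := Nat.card {Q : Sylow 5 G // (Q : Subgroup G) ≤ C} with hs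
  have hs2 : 2 ≤ s := by
    have : Nontrivial {Q : Sylow 5 G // (Q : Subgroup G) ≤ C} :=
      ⟨⟨⟨P, hPC⟩, ⟨R, hRC⟩, fun h => hne (congrArg Subtype.val h).symm⟩⟩
    have := Finite.one_lt_card_iff_nontrivial.2 this
    omega
  have hCne : C ≠ ⊤ := centralizer_ne_top (not_comm hG) D hD
  have hC480 := card_le_of_ne_top hG C hCne
  have hCdvd : Nat.card C ∣ 4800 := hG ▸ Subgroup.card_subgroup_dvd_card C
  set NC : Subgroup G := Subgroup.normalizer ((P : Subgroup G) : Set G) ⊓ C with hNC
  have hPNC : (P : Subgroup G) ≤ NC := le_inf Subgroup.le_normalizer hPC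
  have hc1 : 25 ∣ Nat.card NC := hP25 ▸ Subgroup.card_dvd_of_le hPNC
  have hc2 : Nat.card NC ∣ 50 := hN50 ▸ Subgroup.card_dvd_of_le (inf_le_left : NC ≤ _)
  have hc : Nat.card NC = 25 ∨ Nat.card NC = 50 := by
    have hle : Nat.card NC ≤ 50 := Nat.le_of_dvd (by norm_num) hc2
    obtain ⟨k, hk⟩ := hc1
    have : k ≤ 2 := by omega
    interval_cases k
    · rw [hk] at hc2; norm_num at hc2
    · left; omega
    · right; omega
  rcases hc with hc | hc
  · -- Burnside case: impossible
    exfalso
    have hNCP : C ⊓ Subgroup.normalizer ((P : Subgroup G) : Set G) = (P : Subgroup G) := by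
      rw [inf_comm]
      exact (Subgroup.eq_of_le_of_card_ge hPNC (by rw [hc, hP25])).symm
    obtain ⟨L, hLC, hCL, hLcard⟩ :=
      exists_complement_in P C hPC (sylow_five_le_centralizer hG P) hNCP
    rw [hP25] at hLcard
    rw [hc] at hmul
    have hLs : Nat.card L = s := by omega
    have hs19 : s ≤ 19 := by omega
    have hmod' : s % 5 = 1 := hmod
    have hs' : s = 6 ∨ s = 16 := by
      have h11 : s ≠ 11 := by
        intro h
        rw [hmul, h] at hCdvd
        norm_num at hCdvd
      omega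
    rcases hs' with h6 | h16
    · exact false_of_six P hP25 (centralizer_eq hG h96 P) L (by rw [hLs, h6])
        (hPC.trans hCL)
    · exact false_of_sixteen hG L C (by rw [hLs, h16]) (by rw [hmul, h16]) hCL
  · refine ⟨hD5, ?_, ?_⟩
    · have : NC = Subgroup.normalizer ((P : Subgroup G) : Set G) :=
        Subgroup.eq_of_le_of_card_ge inf_le_left (by rw [hc, hN50])
      rw [← this]
      exact inf_le_right
    · rw [hc] at hmul
      omega

/-- **Order 4800, `n_5 = 96` is impossible.** -/
theorem false_of_ninetysix [IsSimpleGroup G] (hG : Nat.card G = 4800)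
    (h96 : Nat.card (Sylow 5 G) = 96) : False := by
  classical
  obtain ⟨P⟩ : Nonempty (Sylow 5 G) := inferInstance
  have hP25 := card_sylow_five hG P
  have hsplit : Nat.card (Sylow 5 G) =
      Nat.card {R : Sylow 5 G // (P : Subgroup G) ⊓ (R : Subgroup G) = ⊥} +
      Nat.card {R : Sylow 5 G // ¬ ((P : Subgroup G) ⊓ (R : Subgroup G) = ⊥)} := by
    rw [← Nat.card_sum]
    exact Nat.card_congr (Equiv.sumCompl _).symm
  have hY : 25 ∣ Nat.card {R : Sylow 5 G // (P : Subgroup G) ⊓ (R : Subgroup G) = ⊥} := by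
    have := card_trivial_inter_dvd P
    rwa [hP25] at this
  have hPP : ¬ ((P : Subgroup G) ⊓ (P : Subgroup G) = ⊥) := by
    rw [inf_idem]
    intro h
    have := Subgroup.card_eq_one.2 h
    omega
  have hZ1 : 1 ≤ Nat.card {R : Sylow 5 G // ¬ ((P : Subgroup G) ⊓ (R : Subgroup G) = ⊥)} := by
    have : Nonempty {R : Sylow 5 G // ¬ ((P : Subgroup G) ⊓ (R : Subgroup G) = ⊥)} :=
      ⟨⟨P, hPP⟩⟩
    exact Nat.card_pos
  have hZ9 : Nat.card {R : Sylow 5 G // ¬ ((P : Subgroup G) ⊓ (R : Subgroup G) = ⊥)} ≤ 9 := by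
    by_cases hex : ∃ R : Sylow 5 G, R ≠ P ∧ (P : Subgroup G) ⊓ (R : Subgroup G) ≠ ⊥
    · obtain ⟨R0, hne0, hD0⟩ := hex
      obtain ⟨h5, hNC, hs9⟩ := inter_analysis hG h96 P R0 hne0 hD0
      refine le_trans ?_ hs9
      have hPC0 : (P : Subgroup G) ≤ Subgroup.centralizer
          (((P : Subgroup G) ⊓ (R0 : Subgroup G) : Subgroup G) : Set G) :=
        (sylow_five_le_centralizer hG P).trans
          (Subgroup.centralizer_le (by exact_mod_cast (inf_le_left : _ ≤ (P : Subgroup G))))
      have key : ∀ R : {R : Sylow 5 G // ¬ ((P : Subgroup G) ⊓ (R : Subgroup G) = ⊥)},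
          ((R : Sylow 5 G) : Subgroup G) ≤ Subgroup.centralizer
            (((P : Subgroup G) ⊓ (R0 : Subgroup G) : Subgroup G) : Set G) := by
        rintro ⟨R, hR⟩
        by_cases hRP : R = P
        · subst hRP; exact hPC0
        · obtain ⟨h5', hNC', -⟩ := inter_analysis hG h96 P R hRP hR
          have heq := eq_of_normalizer_le_centralizer P hP25 (centralizer_eq hG h96 P)
            (card_normalizer_five hG h96 P) _ _ inf_le_left inf_le_left h5' h5 hNC' hNC
          show (R : Subgroup G) ≤ _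
          rw [← heq]
          exact (sylow_five_le_centralizer hG R).trans
            (Subgroup.centralizer_le (by exact_mod_cast (inf_le_right : _ ≤ (R : Subgroup G))))
      apply Nat.card_le_card_of_injective (fun R => (⟨R.1, key R⟩ : {Q : Sylow 5 G //
        (Q : Subgroup G) ≤ Subgroup.centralizer
          (((P : Subgroup G) ⊓ (R0 : Subgroup G) : Subgroup G) : Set G)}))
      intro a b hab
      apply Subtype.ext
      exact Subtype.mk.inj hab
    · push Not at hex
      have : Subsingleton {R : Sylow 5 G // ¬ ((P : Subgroup G) ⊓ (R : Subgroup G) = ⊥)} := by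
        refine ⟨fun a b => Subtype.ext ?_⟩
        have ha : a.1 = P := by
          by_contra h
          exact a.2 (hex a.1 h)
        have hb : b.1 = P := by
          by_contra h
          exact b.2 (hex b.1 h)
        rw [ha, hb]
      have := Finite.card_le_one_iff_subsingleton.2 this
      omega
  rw [h96] at hsplit
  omega

end Cfsg.Agent.Helper73.N4800
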