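import Mathlib
import Cfsg.Prelude.Def_Transfer
import Cfsg.Agent.S5395
import Cfsg.Agent.Lib.Helper89.ExtraCrit
import Cfsg.Agent.Lib.Helper87.Critical
import Cfsg.Agent.Lib.Helper89.FStarES

set_option autoImplicit false

namespace Cfsg.Agent.Helper73.OneInvol

open scoped commutatorElement

section PartOne

variable {W : Type*} [Group W]

/-- `y` is central modulo `{1, z}`. -/
def P2 (z : W) (y : W) : Prop := ∀ w : W, y * w * y⁻¹ * w⁻¹ = 1 ∨ y * w * y⁻¹ * w⁻¹ = z

theorem comm_of_P2 {z : W} (hzc : ∀ g : W, g * z = z * g) {y : W} (hy : P2 z y) (w : W) :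
    ∃ c : W, (c = 1 ∨ c = z) ∧ y * w = c * w * y ∧ ∀ g : W, g * c = c * g := by
  refine ⟨y * w * y⁻¹ * w⁻¹, hy w, by group, ?_⟩
  intro g
  rcases hy w with h | h
  · rw [h]; simp
  · rw [h]; exact hzc g

/-- The second centre (relative to `{1, z}`) as a subgroup. -/
def secondCenter (z : W) (hz2 : z * z = 1) (hzc : ∀ g : W, g * z = z * g) : Subgroup W where
  carrier := {y | P2 z y}
  one_mem' := by
    intro w
    left
    group
  mul_mem' := by
    intro a b ha hb w
    have e : a * b * w * (a * b)⁻¹ * w⁻¹ = a * (b * w * b⁻¹ * w⁻¹) * a⁻¹ * (a * w * a⁻¹ * w⁻¹) := by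
      group
    rw [e]
    rcases hb w with h1 | h1 <;> rcases ha w with h2 | h2
    · left; rw [h1, h2]; group
    · right; rw [h1, h2]; group
    · right; rw [h1, h2, hzc a]; group
    · left; rw [h1, h2, hzc a]
      have : z * a * a⁻¹ * z = z * z := by group
      rw [this, hz2]
  inv_mem' := by
    intro a ha w
    have e : a⁻¹ * w * a⁻¹⁻¹ * w⁻¹ = a⁻¹ * (a * w * a⁻¹ * w⁻¹)⁻¹ * a := by group
    rw [e]
    rcases ha w with h | h
    · left; rw [h]; group
    · right; rw [h]
      have hzi : z⁻¹ = z := inv_eq_of_mul_eq_one_left hz2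
      rw [hzi, hzc a⁻¹]; group

theorem mem_secondCenter {z : W} {hz2 : z * z = 1} {hzc : ∀ g : W, g * z = z * g} {y : W} :
    y ∈ secondCenter z hz2 hzc ↔ P2 z y := Iff.rfl

theorem mem_zp {z x : W} (hz2 : z * z = 1) : x ∈ Subgroup.zpowers z ↔ x = 1 ∨ x = z := by
  constructor
  · exact Cfsg.Agent.Helper89.mem_zpowers_of_sq hz2
  · rintro (rfl | rfl)
    · exact Subgroup.one_mem _
    · exact Subgroup.mem_zpowers _

/-- A finite `2`-group with centre `{1, z}` whose "second centre" has centre `{1, z}` is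
extraspecial (in the form `Good W z`). -/
theorem good_of_secondCenter [Finite W] (hW : IsPGroup 2 W) (z : W)
    (hz1 : z ≠ 1) (hz2 : z * z = 1) (hzc : ∀ g : W, g * z = z * g)
    (hcen : ∀ g : W, (∀ h : W, g * h = h * g) → g = 1 ∨ g = z)
    (hY : ∀ y : W, P2 z y → (∀ y' : W, P2 z y' → y * y' = y' * y) → y = 1 ∨ y = z)
    (hna : ∃ a b : W, a * b ≠ b * a) :
    Cfsg.Agent.Helper89.Good W z := by
  classical
  have : Fact (Nat.Prime 2) := ⟨Nat.prime_two⟩
  have hzi : z⁻¹ = z := inv_eq_of_mul_eq_one_left hz2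
  set Y := secondCenter z hz2 hzc with hYdef
  -- squares of P2-elements lie in {1,z}
  have hsq : ∀ y : W, P2 z y → y * y = 1 ∨ y * y = z := by
    intro y hy
    apply hcen
    intro w
    obtain ⟨c, hc, hyw, hcc⟩ := comm_of_P2 hzc hy w
    have hc2 : c * c = 1 := by
      rcases hc with rfl | rfl
      · simp
      · exact hz2
    calc y * y * w = y * (y * w) := by group
      _ = y * (c * w * y) := by rw [hyw]
      _ = (y * c) * w * y := by group
      _ = (c * y) * w * y := by rw [hcc y]
      _ = c * (y * w) * y := by group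
      _ = c * (c * w * y) * y := by rw [hyw]
      _ = (c * c) * w * y * y := by group
      _ = w * (y * y) := by rw [hc2]; group
  -- it suffices to show everything is P2
  suffices hall : ∀ y : W, P2 z y by
    exact
      { ne_one := hz1
        sq := hz2
        central := hzc
        sqs := fun g => hsq g (hall g)
        comm := fun g h => hall g h
        cent := hcen }
  -- Y is normal
  have hYn : Y.Normal := by
    constructor
    intro y hy g w
    have e : g * y * g⁻¹ * w * (g * y * g⁻¹)⁻¹ * w⁻¹ =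
        g * (y * (g⁻¹ * w * g) * y⁻¹ * (g⁻¹ * w * g)⁻¹) * g⁻¹ := by group
    rw [e]
    rcases hy (g⁻¹ * w * g) with h | h
    · left; rw [h]; group
    · right; rw [h, hzc g]; group
  have hzY : z ∈ Y := by
    intro w
    left
    rw [← hzc w]; group
  -- the subgroup {1,z}
  set K : Subgroup W := Subgroup.zpowers z with hK
  have hKY : K ≤ Y := by
    rw [hK, Subgroup.zpowers_le]; exact hzY
  have hKcent : ∀ x ∈ K, ∀ g : W, g * x = x * g := by
    intro x hx g
    rcases (mem_zp hz2).mp hx with rfl | rfl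
    · simp
    · exact hzc g
  -- K < ⊤
  have hKtop : K < ⊤ := by
    refine lt_of_le_of_ne le_top ?_
    intro h
    obtain ⟨a, b, hab⟩ := hna
    apply hab
    have ha : a ∈ K := by rw [h]; exact Subgroup.mem_top a
    exact (hKcent a ha b).symm
  -- membership in Y from commutators in K
  have hmemY : ∀ x : W, (∀ g : W, ⁅x, g⁆ ∈ K) → x ∈ Y := by
    intro x hx w
    have := (mem_zp hz2).mp (hx w)
    rwa [commutatorElement_def] at this
  obtain ⟨x0, -, hx0K, hx0c⟩ :=
    Cfsg.Agent.Helper87.exists_central_mod hW (K := K) (L := ⊤) inferInstance hKtop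
  have hx0Y : x0 ∈ Y := hmemY x0 hx0c
  -- Y is nonabelian
  have hnaY : ∃ g k : Y, g * k ≠ k * g := by
    by_contra hcon
    push Not at hcon
    apply hx0K
    rw [hK, mem_zp hz2]
    apply hY x0 hx0Y
    intro y' hy'
    exact congrArg Subtype.val (hcon ⟨x0, hx0Y⟩ ⟨y', hy'⟩)
  -- Good structure on Y
  have hGoodY : Cfsg.Agent.Helper89.Good Y ⟨z, hzY⟩ :=
    { ne_one := by
        intro h
        exact hz1 (congrArg Subtype.val h)
      sq := Subtype.ext hz2
      central := fun g => Subtype.ext (hzc g)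
      sqs := by
        intro g
        rcases hsq g g.2 with h | h
        · left; exact Subtype.ext h
        · right; exact Subtype.ext h
      comm := by
        intro g h
        rcases g.2 (h : W) with h1 | h1
        · left; exact Subtype.ext h1
        · right; exact Subtype.ext h1
      cent := by
        intro g hg
        rcases hY g g.2 (fun y' hy' => congrArg Subtype.val (hg ⟨y', hy'⟩)) with h | h
        · left; exact Subtype.ext h
        · right; exact Subtype.ext h }
  have hExt : Cfsg.IsExtraspecial 2 Y := hGoodY.isExtraspecial hnaY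
  -- centralizer of Y
  set D : Subgroup W := Subgroup.centralizer (Y : Set W) with hD
  have hDn : D.Normal := by rw [hD]; infer_instance
  have hKD : K ≤ D := by
    intro x hx
    rw [hD, Subgroup.mem_centralizer_iff]
    intro y _
    exact hKcent x hx y
  have hDK : D ≤ K := by
    by_contra hcon
    have hlt : K < D := lt_of_le_of_ne hKD (fun h => hcon (h ▸ le_refl _))
    obtain ⟨x, hxD, hxK, hxc⟩ := Cfsg.Agent.Helper87.exists_central_mod hW (K := K) (L := D) hDn hlt
    apply hxK
    rw [hK, mem_zp hz2]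
    apply hY x (hmemY x hxc)
    intro y' hy'
    rw [hD, Subgroup.mem_centralizer_iff] at hxD
    exact (hxD y' hy').symm
  -- every w is in Y
  intro w
  have hφ : ∀ x : Y, (MulAut.conjNormal w : MulAut Y) x * x⁻¹ ∈ Subgroup.center Y := by
    intro x
    have hval : (((MulAut.conjNormal w : MulAut Y) x * x⁻¹ : Y) : W) = w * x * w⁻¹ * (x : W)⁻¹ := by
      simp [MulAut.conjNormal_apply]
    have hinK : w * x * w⁻¹ * (x : W)⁻¹ ∈ K := by
      have e : w * x * w⁻¹ * (x : W)⁻¹ = ((x : W) * w * (x : W)⁻¹ * w⁻¹)⁻¹ := by group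
      rw [e]
      apply K.inv_mem
      rw [hK, mem_zp hz2]
      exact x.2 w
    rw [Subgroup.mem_center_iff]
    intro y
    apply Subtype.ext
    show (y : W) * (((MulAut.conjNormal w : MulAut Y) x * x⁻¹ : Y) : W) =
      (((MulAut.conjNormal w : MulAut Y) x * x⁻¹ : Y) : W) * (y : W)
    rw [hval]
    exact hKcent _ hinK y
  obtain ⟨a, ha⟩ := Cfsg.Agent.S5395.result hExt (MulAut.conjNormal w : MulAut Y) hφ
  have hmem : (a : W)⁻¹ * w ∈ D := by
    rw [hD, Subgroup.mem_centralizer_iff]
    intro x hx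
    have := congrArg (fun y : Y => (y : W)) (ha ⟨x, hx⟩)
    simp only [MulAut.conjNormal_apply, Subgroup.coe_mul, Subgroup.coe_inv] at this
    calc x * ((a : W)⁻¹ * w) = (a : W)⁻¹ * ((a : W) * x * (a : W)⁻¹) * w := by group
      _ = (a : W)⁻¹ * (w * x * w⁻¹) * w := by rw [this]
      _ = (a : W)⁻¹ * w * x := by group
  have hwY : w ∈ Y := by
    have h1 : (a : W)⁻¹ * w ∈ Y := hKY (hDK hmem)
    have := Y.mul_mem a.2 h1
    simpa using this
  exact hwY

end PartOne

section Cube

variable {G : Type*} [Group G]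

/-- A `3`-element normalizing a subgroup of order at most `8` has its cube centralizing it. -/
theorem cube_centralizes (T : Subgroup G) [Finite T] (hT : Nat.card T ≤ 8)
    (h : G) (hh : h ∈ Subgroup.normalizer (T : Set G)) (k : ℕ) (hk : h ^ (3 ^ k) = 1) :
    ∀ x ∈ T, h ^ 3 * x = x * h ^ 3 := by
  classical
  intro x hx
  haveI : Fintype T := Fintype.ofFinite T
  let f : T → T := fun y => ⟨h * (y : G) * h⁻¹, (Subgroup.mem_normalizer_iff.mp hh y).mp y.2⟩
  have hiter : ∀ (n : ℕ) (y : T), ((f^[n] y : T) : G) = h ^ n * (y : G) * (h ^ n)⁻¹ := by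
    intro n
    induction n with
    | zero => intro y; simp
    | succ n ih =>
      intro y
      rw [Function.iterate_succ_apply', ]
      show h * ((f^[n] y : T) : G) * h⁻¹ = _
      rw [ih y, pow_succ']
      group
  have hper : Function.IsPeriodicPt f (3 ^ k) ⟨x, hx⟩ := by
    apply Subtype.ext
    rw [hiter, hk]
    simp
  have hdvd : Function.minimalPeriod f ⟨x, hx⟩ ∣ 3 ^ k := hper.minimalPeriod_dvd
  obtain ⟨j, -, hj⟩ := (Nat.dvd_prime_pow Nat.prime_three).mp hdvd
  have hle : Function.minimalPeriod f ⟨x, hx⟩ ≤ 8 := by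
    have := Function.minimalPeriod_le_card (f := f) (x := ⟨x, hx⟩)
    rw [← Nat.card_eq_fintype_card] at this
    omega
  have hj1 : j ≤ 1 := by
    by_contra hcon
    have h2 : 2 ≤ j := by omega
    have : 3 ^ 2 ≤ 3 ^ j := Nat.pow_le_pow_right (by norm_num) h2
    rw [hj] at hle
    omega
  have hd3 : Function.minimalPeriod f ⟨x, hx⟩ ∣ 3 := by
    rw [hj]
    interval_cases j <;> norm_num
  have hp3 : Function.IsPeriodicPt f 3 ⟨x, hx⟩ := Function.isPeriodicPt_iff_minimalPeriod_dvd.mpr hd3
  have := congrArg (fun y : T => (y : G)) hp3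
  simp only [hiter] at this
  calc h ^ 3 * x = (h ^ 3 * x * (h ^ 3)⁻¹) * h ^ 3 := by group
    _ = x * h ^ 3 := by rw [this]

end Cube

end Cfsg.Agent.Helper73.OneInvol
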