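import Mathlib
import Cfsg.Prelude.Def_Transfer
import Cfsg.Agent.S0058
import Cfsg.Agent.S1324
import Cfsg.Agent.Lib.Helper73.OneInvolA
import Cfsg.Agent.Lib.Helper73.QuatAction
import Cfsg.Agent.Lib.Helper89.FixSub
import Cfsg.Agent.Lib.Helper63.Extraspecial

set_option autoImplicit false

namespace Cfsg.Agent.Helper73.OneInvol

section Internal

variable {G : Type*} [Group G]

/-- Hypotheses of the internal theorem. -/
structure Setup (W E : Subgroup G) (p : ℕ) : Prop where
  normal : W.Normal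
  hW : IsPGroup 2 W
  hp : p.Prime
  hp2 : p ≠ 2
  hE : IsPGroup p E
  comm : ∀ a ∈ E, ∀ b ∈ E, a * b = b * a
  ncyc : ¬ IsCyclic E
  faith : ∀ e ∈ E, (∀ w ∈ W, e * w = w * e) → e = 1
  fix : ∀ e ∈ E, e ≠ 1 → ∀ x ∈ W, ∀ y ∈ W, orderOf x = 2 → orderOf y = 2 →
    e * x = x * e → e * y = y * e → x = y

theorem mem_cent_single {x e : G} : x ∈ Subgroup.centralizer ({e} : Set G) ↔ e * x = x * e := by
  rw [Subgroup.mem_centralizer_singleton_iff]
  exact eq_comm

theorem le_normalizer_of_conj {H K : Subgroup G} (h : ∀ g ∈ K, ∀ x ∈ H, g * x * g⁻¹ ∈ H) :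
    K ≤ Subgroup.normalizer (H : Set G) := by
  intro g hg
  rw [Subgroup.mem_normalizer_iff]
  intro x
  constructor
  · exact h g hg x
  · intro hx
    have := h g⁻¹ (K.inv_mem hg) _ hx
    have e : g⁻¹ * (g * x * g⁻¹) * g⁻¹⁻¹ = x := by group
    rwa [e] at this

variable {W E : Subgroup G} {p : ℕ}

namespace Setup

theorem isMulComm (S : Setup W E p) : IsMulCommutative E :=
  ⟨⟨fun a b => Subtype.ext (S.comm a a.2 b b.2)⟩⟩

theorem isMulComm_of_le (S : Setup W E p) {B : Subgroup G} (hB : B ≤ E) : IsMulCommutative B :=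
  ⟨⟨fun a b => Subtype.ext (S.comm a (hB a.2) b (hB b.2))⟩⟩

theorem coprime [Finite G] (S : Setup W E p) {K B : Subgroup G} (hK : K ≤ W) (hB : B ≤ E) :
    (Nat.card B).Coprime (Nat.card K) := by
  have : Fact p.Prime := ⟨S.hp⟩
  have : Fact (Nat.Prime 2) := ⟨Nat.prime_two⟩
  obtain ⟨a, ha⟩ := IsPGroup.iff_card.mp (S.hW.to_le hK)
  obtain ⟨b, hb⟩ := IsPGroup.iff_card.mp (S.hE.to_le hB)
  rw [ha, hb]
  apply Nat.Coprime.pow
  exact (Nat.coprime_primes S.hp Nat.prime_two).mpr S.hp2

/-- conjugation by `E` preserves `W ⊓ C(S)` for `S ⊆ E`. -/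
theorem conj_mem_fix (S : Setup W E p) {g : G} (hg : g ∈ E) {Y : Subgroup G}
    (hY : E ≤ Subgroup.normalizer (Y : Set G)) {T : Set G} (hT : T ⊆ E) {x : G}
    (hx : x ∈ Y ⊓ Subgroup.centralizer T) : g * x * g⁻¹ ∈ Y ⊓ Subgroup.centralizer T := by
  refine ⟨(Subgroup.mem_normalizer_iff.mp (hY hg) x).mp hx.1, ?_⟩
  show g * x * g⁻¹ ∈ Subgroup.centralizer T
  rw [Subgroup.mem_centralizer_iff]
  intro s hs
  have h1 : s * x = x * s := (Subgroup.mem_centralizer_iff.mp hx.2) s hs
  have h2 : s * g = g * s := S.comm s (hT hs) g hg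
  have h3 : g⁻¹ * s = s * g⁻¹ := by
    calc g⁻¹ * s = g⁻¹ * (s * g) * g⁻¹ := by group
      _ = g⁻¹ * (g * s) * g⁻¹ := by rw [h2]
      _ = s * g⁻¹ := by group
  calc s * (g * x * g⁻¹) = (s * g) * x * g⁻¹ := by group
    _ = g * (s * x) * g⁻¹ := by rw [h2]; group
    _ = g * (x * s) * g⁻¹ := by rw [h1]
    _ = g * x * (s * g⁻¹) := by group
    _ = g * x * g⁻¹ * s := by rw [← h3]; group

theorem normalizer_fix (S : Setup W E p) {Y : Subgroup G}
    (hY : E ≤ Subgroup.normalizer (Y : Set G)) {T : Set G} (hT : T ⊆ E) :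
    E ≤ Subgroup.normalizer ((Y ⊓ Subgroup.centralizer T : Subgroup G) : Set G) :=
  le_normalizer_of_conj (fun _ hg _ hx => S.conj_mem_fix hg hY hT hx)

theorem normalizer_W (S : Setup W E p) : E ≤ Subgroup.normalizer (W : Set G) := by
  have := S.normal
  rw [Subgroup.normalizer_eq_top]
  exact le_top

theorem single_sub {e : G} (he : e ∈ E) : ({e} : Set G) ⊆ E := by
  intro x hx
  rw [Set.mem_singleton_iff] at hx
  rw [hx]; exact he

/-- at most one involution -/
theorem one_invol (S : Setup W E p) {e : G} (he : e ∈ E) (he1 : e ≠ 1) {T : Subgroup G}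
    (hT : T ≤ W ⊓ Subgroup.centralizer ({e} : Set G)) :
    ∀ x y : T, orderOf x = 2 → orderOf y = 2 → x = y := by
  intro x y hx hy
  apply Subtype.ext
  have hx' := hT x.2
  have hy' := hT y.2
  apply S.fix e he he1 x hx'.1 y hy'.1
  · rw [← hx]; exact (Subgroup.orderOf_coe x)
  · rw [← hy]; exact (Subgroup.orderOf_coe y)
  · exact mem_cent_single.mp hx'.2
  · exact mem_cent_single.mp hy'.2

/-- dichotomy for invariant subgroups of a fixed-point group -/
theorem dichotomy [Finite G] (S : Setup W E p) {e : G} (he : e ∈ E) (he1 : e ≠ 1) {T : Subgroup G}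
    (hT : T ≤ W ⊓ Subgroup.centralizer ({e} : Set G))
    (hTn : E ≤ Subgroup.normalizer (T : Set G)) :
    (∀ h ∈ E, ∀ x ∈ T, h * x = x * h) ∨ (p = 3 ∧ Nonempty (T ≃* QuaternionGroup 2)) := by
  by_cases hall : ∀ h ∈ E, h ∈ Subgroup.centralizer (T : Set G)
  · left
    intro h hh x hx
    exact ((Subgroup.mem_centralizer_iff.mp (hall h hh)) x hx).symm
  · right
    push Not at hall
    obtain ⟨h, hh, hhC⟩ := hall
    obtain ⟨k, hk⟩ := S.hE ⟨h, hh⟩
    have hk' : h ^ (p ^ k) = 1 := by
      have := congrArg Subtype.val hk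
      simpa using this
    exact odd_action_unique_invol T (S.hW.to_le (hT.trans inf_le_left))
      (S.one_invol he he1 hT) h (hTn hh) p k S.hp S.hp2 hk' hhC

/-- generation by centralizers -/
theorem generation [Finite G] (S : Setup W E p) {B : Subgroup G} (hB : B ≤ E) (hBnc : ¬ IsCyclic B)
    {K : Subgroup G} (hK : K ≤ W) (hKn : E ≤ Subgroup.normalizer (K : Set G)) :
    (⨆ a ∈ {a : G | a ∈ B ∧ a ≠ 1}, K ⊓ Subgroup.centralizer {a}) = K := by
  have := S.isMulComm_of_le hB
  exact Cfsg.Agent.S0058.result B K hBnc (hB.trans hKn) (S.coprime hK hB)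

end Setup

/-- What the first analysis produces. -/
structure Data (W E : Subgroup G) (z e0 : G) : Prop where
  he0 : e0 ∈ E
  he01 : e0 ≠ 1
  iso : Nonempty ((W ⊓ Subgroup.centralizer ({e0} : Set G) : Subgroup G) ≃* QuaternionGroup 2)
  hzW : z ∈ W
  hz1 : z ≠ 1
  hz2 : z * z = 1
  hzE : ∀ g ∈ E, g * z = z * g
  hZ0 : ∀ x ∈ W, (∀ g ∈ E, g * x = x * g) → x = 1 ∨ x = z

theorem card_quat_iso {T : Type*} [Group T] (h : Nonempty (T ≃* QuaternionGroup 2)) :
    Nat.card T = 8 := by
  obtain ⟨φ⟩ := h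
  rw [Nat.card_congr φ.toEquiv, Nat.card_eq_fintype_card, QuaternionGroup.card]

theorem Setup.exists_data [Finite G] (S : Setup W E p) : p = 3 ∧ ∃ z e0 : G, Data W E z e0 := by
  classical
  -- find e0 and h
  have hex : ∃ e0 ∈ E, e0 ≠ 1 ∧ ∃ h ∈ E,
      h ∉ Subgroup.centralizer ((W ⊓ Subgroup.centralizer ({e0} : Set G) : Subgroup G) : Set G) := by
    by_contra hcon
    push Not at hcon
    apply S.ncyc
    have hbot : ∀ h ∈ E, h = 1 := by
      intro h hh
      apply S.faith h hh
      have hgen := S.generation (le_refl E) S.ncyc (le_refl W) S.normalizer_W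
      have hle : W ≤ Subgroup.centralizer ({h} : Set G) := by
        rw [← hgen]
        apply iSup₂_le
        intro a ha x hx
        rw [mem_cent_single]
        have := hcon a ha.1 ha.2 h hh
        exact ((Subgroup.mem_centralizer_iff.mp this) x hx).symm
      intro w hw
      exact mem_cent_single.mp (hle hw)
    have hsub : Subsingleton E := by
      constructor
      intro a b
      apply Subtype.ext
      rw [hbot a a.2, hbot b b.2]
    exact isCyclic_of_subsingleton
  obtain ⟨e0, he0, he01, h, hh, hhC⟩ := hex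
  set X : Subgroup G := W ⊓ Subgroup.centralizer ({e0} : Set G) with hX
  have hXn : E ≤ Subgroup.normalizer (X : Set G) := S.normalizer_fix S.normalizer_W (Setup.single_sub he0)
  have hdich := S.dichotomy he0 he01 (le_refl X) hXn
  rcases hdich with hall | ⟨hp3, hiso⟩
  · exfalso
    apply hhC
    rw [Subgroup.mem_centralizer_iff]
    intro x hx
    exact (hall h hh x hx).symm
  refine ⟨hp3, ?_⟩
  subst hp3
  have : Fact (Nat.Prime 3) := ⟨Nat.prime_three⟩
  have hcard8 : Nat.card X = 8 := card_quat_iso hiso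
  -- fixed points of h
  set C : Subgroup G := X ⊓ Subgroup.centralizer ({h} : Set G) with hC
  have hmod := Cfsg.Agent.Helper89.card_modEq_card_inf_centralizer X h (hXn hh) 3
    (S.hE.to_le (Subgroup.zpowers_le.mpr hh))
  have hCX : C ≤ X := inf_le_left
  have hdvd : Nat.card C ∣ 8 := by
    rw [← hcard8]; exact Subgroup.card_dvd_of_le hCX
  have hne8 : Nat.card C ≠ 8 := by
    intro e
    have hEq : C = X := Subgroup.eq_of_le_of_card_ge hCX (by rw [e, hcard8])
    apply hhC
    rw [Subgroup.mem_centralizer_iff]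
    intro x hx
    have : x ∈ C := by rw [hEq]; exact hx
    exact (mem_cent_single.mp this.2).symm
  have hC2 : Nat.card C = 2 := by
    have hm : 8 % 3 = Nat.card C % 3 := by
      have := hmod
      rw [hcard8] at this
      exact this
    have hle : Nat.card C ≤ 8 := Nat.le_of_dvd (by norm_num) hdvd
    have hpos : 0 < Nat.card C := Nat.card_pos
    interval_cases hc : Nat.card C <;> simp_all
  -- an involution in X
  have h2dvd : 2 ∣ Nat.card X := by rw [hcard8]; norm_num
  have : Fact (Nat.Prime 2) := ⟨Nat.prime_two⟩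
  obtain ⟨x, hx⟩ := exists_prime_orderOf_dvd_card' 2 h2dvd
  set z : G := (x : G) with hz
  have hzo : orderOf z = 2 := by rw [hz, Subgroup.orderOf_coe]; exact hx
  have hzX : z ∈ X := x.2
  have hzW : z ∈ W := hzX.1
  have hz1 : z ≠ 1 := by
    intro e
    rw [e, orderOf_one] at hzo
    norm_num at hzo
  have hz2 : z * z = 1 := by
    rw [← pow_two, ← hzo, pow_orderOf_eq_one]
  have hzE : ∀ g ∈ E, g * z = z * g := by
    intro g hg
    have hmem : g * z * g⁻¹ ∈ X := (Subgroup.mem_normalizer_iff.mp (hXn hg) z).mp hzX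
    have hord : orderOf (g * z * g⁻¹) = 2 := by
      have := MulEquiv.orderOf_eq (MulAut.conj g) z
      rw [MulAut.conj_apply] at this
      rw [this, hzo]
    have heq : g * z * g⁻¹ = z :=
      S.fix e0 he0 he01 _ hmem.1 z hzW hord hzo (mem_cent_single.mp hmem.2)
        (mem_cent_single.mp hzX.2)
    calc g * z = (g * z * g⁻¹) * g := by group
      _ = z * g := by rw [heq]
  have hzC : z ∈ C := ⟨hzX, mem_cent_single.mpr (hzE h hh)⟩
  have hzC1 : (⟨z, hzC⟩ : C) ≠ 1 := by
    intro e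
    exact hz1 (congrArg Subtype.val e)
  refine ⟨z, e0, ⟨he0, he01, hiso, hzW, hz1, hz2, hzE, ?_⟩⟩
  intro y hyW hyE
  have hyC : y ∈ C := ⟨⟨hyW, mem_cent_single.mpr (hyE e0 he0)⟩, mem_cent_single.mpr (hyE h hh)⟩
  rcases Cfsg.Agent.Helper89.card_two_cases' hC2 ⟨z, hzC⟩ hzC1 ⟨y, hyC⟩ with e | e
  · left; exact congrArg Subtype.val e
  · right; exact congrArg Subtype.val e

theorem quat_noncomm : (QuaternionGroup.a 1 : QuaternionGroup 2) * QuaternionGroup.xa 0 ≠
    QuaternionGroup.xa 0 * QuaternionGroup.a 1 := by decide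

variable {z e0 : G}

theorem Setup.dich2 [Finite G] (S : Setup W E 3) (D : Data W E z e0) {e : G} (he : e ∈ E)
    (he1 : e ≠ 1) {T : Subgroup G} (hT : T ≤ W ⊓ Subgroup.centralizer ({e} : Set G))
    (hTn : E ≤ Subgroup.normalizer (T : Set G)) :
    (∀ x ∈ T, x = 1 ∨ x = z) ∨ Nonempty (T ≃* QuaternionGroup 2) := by
  rcases S.dichotomy he he1 hT hTn with hall | ⟨-, hiso⟩
  · left
    intro x hx
    exact D.hZ0 x (hT hx).1 (fun g hg => hall g hg x hx)
  · right; exact hiso

theorem Setup.abelian_inv [Finite G] (S : Setup W E 3) (D : Data W E z e0) {Y : Subgroup G}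
    (hY : Y ≤ W) (hYn : E ≤ Subgroup.normalizer (Y : Set G))
    (hab : ∀ a ∈ Y, ∀ b ∈ Y, a * b = b * a) : ∀ y ∈ Y, y = 1 ∨ y = z := by
  have hgen := S.generation (le_refl E) S.ncyc hY hYn
  have hle : Y ≤ Subgroup.zpowers z := by
    rw [← hgen]
    apply iSup₂_le
    intro a ha
    have hTW : Y ⊓ Subgroup.centralizer ({a} : Set G) ≤ W ⊓ Subgroup.centralizer ({a} : Set G) :=
      inf_le_inf_right _ hY
    have hTn := S.normalizer_fix hYn (Setup.single_sub ha.1)
    rcases S.dich2 D ha.1 ha.2 hTW hTn with h1 | ⟨⟨φ⟩⟩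
    · intro x hx
      exact (mem_zp D.hz2).mpr (h1 x hx)
    · exfalso
      apply quat_noncomm
      have h1 := hab _ (φ.symm (QuaternionGroup.a 1)).2.1 _ (φ.symm (QuaternionGroup.xa 0)).2.1
      have h2 : φ.symm (QuaternionGroup.a 1) * φ.symm (QuaternionGroup.xa 0) =
          φ.symm (QuaternionGroup.xa 0) * φ.symm (QuaternionGroup.a 1) := Subtype.ext h1
      rw [← map_mul, ← map_mul] at h2
      exact φ.symm.injective h2
  intro y hy
  exact (mem_zp D.hz2).mp (hle hy)

/-- `z` is central in `W` and the centre of `W` is `{1, z}`. -/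
theorem Setup.center_W [Finite G] (S : Setup W E 3) (D : Data W E z e0) :
    (∀ w ∈ W, w * z = z * w) ∧ ∀ x ∈ W, (∀ w ∈ W, w * x = x * w) → x = 1 ∨ x = z := by
  have := S.normal
  set ZW : Subgroup G := W ⊓ Subgroup.centralizer (W : Set G) with hZW
  have hZWn : E ≤ Subgroup.normalizer (ZW : Set G) := by
    apply le_normalizer_of_conj
    intro g hg x hx
    refine ⟨S.normal.conj_mem x hx.1 g, ?_⟩
    show g * x * g⁻¹ ∈ Subgroup.centralizer (W : Set G)
    rw [Subgroup.mem_centralizer_iff]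
    intro w hw
    have hw' : g⁻¹ * w * g ∈ W := by
      have := S.normal.conj_mem w hw g⁻¹
      simpa using this
    have hc : (g⁻¹ * w * g) * x = x * (g⁻¹ * w * g) :=
      (Subgroup.mem_centralizer_iff.mp hx.2) _ hw'
    calc w * (g * x * g⁻¹) = g * ((g⁻¹ * w * g) * x) * g⁻¹ := by group
      _ = g * (x * (g⁻¹ * w * g)) * g⁻¹ := by rw [hc]
      _ = g * x * g⁻¹ * w := by group
  have hZWab : ∀ a ∈ ZW, ∀ b ∈ ZW, a * b = b * a := by
    intro a ha b hb
    exact (Subgroup.mem_centralizer_iff.mp hb.2) a ha.1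
  have hZWz := S.abelian_inv D (inf_le_left : ZW ≤ W) hZWn hZWab
  have hcen : ∀ x ∈ W, (∀ w ∈ W, w * x = x * w) → x = 1 ∨ x = z := by
    intro x hx hxc
    apply hZWz x
    refine ⟨hx, ?_⟩
    show x ∈ Subgroup.centralizer (W : Set G)
    rw [Subgroup.mem_centralizer_iff]
    exact hxc
  refine ⟨?_, hcen⟩
  -- nontrivial centre
  have : Fact (Nat.Prime 2) := ⟨Nat.prime_two⟩
  have hnt : Nontrivial W := ⟨⟨⟨z, D.hzW⟩, 1, fun e => D.hz1 (congrArg Subtype.val e)⟩⟩
  have hcnt : Nontrivial (Subgroup.center W) := S.hW.center_nontrivial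
  obtain ⟨c, hc⟩ := exists_ne (1 : Subgroup.center W)
  have hcG : ((c : W) : G) = 1 ∨ ((c : W) : G) = z := by
    apply hcen _ (c : W).2
    intro w hw
    have := (Subgroup.mem_center_iff.mp c.2) ⟨w, hw⟩
    exact congrArg Subtype.val this
  have hcz : ((c : W) : G) = z := by
    rcases hcG with h | h
    · exfalso
      apply hc
      apply Subtype.ext
      apply Subtype.ext
      exact h
    · exact h
  intro w hw
  have := (Subgroup.mem_center_iff.mp c.2) ⟨w, hw⟩
  have h2 := congrArg Subtype.val this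
  simp only [Subgroup.coe_mul] at h2
  rw [hcz] at h2
  exact h2

/-- `y` is central in `W` modulo `{1, z}` (stated in the ambient group). -/
def PG (W : Subgroup G) (z y : G) : Prop :=
  ∀ w ∈ W, y * w * y⁻¹ * w⁻¹ = 1 ∨ y * w * y⁻¹ * w⁻¹ = z

theorem P2_iff_PG {hz : z ∈ W} (y : W) : P2 (⟨z, hz⟩ : W) y ↔ PG W z (y : G) := by
  constructor
  · intro h w hw
    rcases h ⟨w, hw⟩ with h1 | h1
    · left
      have := congrArg Subtype.val h1
      simpa using this
    · right
      have := congrArg Subtype.val h1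
      simpa using this
  · intro h w
    rcases h w w.2 with h1 | h1
    · left
      apply Subtype.ext
      simpa using h1
    · right
      apply Subtype.ext
      simpa using h1

theorem Setup.PG_conj (S : Setup W E 3) (D : Data W E z e0) {g : G} (hg : g ∈ E) {y : G}
    (hy : PG W z y) : PG W z (g * y * g⁻¹) := by
  intro w hw
  have hw' : g⁻¹ * w * g ∈ W := by
    have := S.normal.conj_mem w hw g⁻¹
    simpa using this
  have e : g * y * g⁻¹ * w * (g * y * g⁻¹)⁻¹ * w⁻¹ =
      g * (y * (g⁻¹ * w * g) * y⁻¹ * (g⁻¹ * w * g)⁻¹) * g⁻¹ := by group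
  rw [e]
  rcases hy _ hw' with h | h
  · left; rw [h]; group
  · right; rw [h, D.hzE g hg]; group

theorem Setup.good_W [Finite G] (S : Setup W E 3) (D : Data W E z e0) :
    Cfsg.Agent.Helper89.Good W ⟨z, D.hzW⟩ := by
  obtain ⟨hzc, hcen⟩ := S.center_W D
  -- the set of elements central in the second centre
  set S0 : Set G := {y : G | y ∈ W ∧ PG W z y ∧ ∀ y' ∈ W, PG W z y' → y * y' = y' * y} with hS0
  have hS0conj : ∀ g ∈ E, ∀ y ∈ S0, g * y * g⁻¹ ∈ S0 := by
    intro g hg y hy
    refine ⟨S.normal.conj_mem y hy.1 g, S.PG_conj D hg hy.2.1, ?_⟩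
    intro y' hy'W hy'
    have hy'' : PG W z (g⁻¹ * y' * g⁻¹⁻¹) := S.PG_conj D (E.inv_mem hg) hy'
    have hy''W : g⁻¹ * y' * g⁻¹⁻¹ ∈ W := S.normal.conj_mem y' hy'W g⁻¹
    have hc := hy.2.2 _ hy''W hy''
    calc g * y * g⁻¹ * y' = g * (y * (g⁻¹ * y' * g⁻¹⁻¹)) * g⁻¹ := by group
      _ = g * ((g⁻¹ * y' * g⁻¹⁻¹) * y) * g⁻¹ := by rw [hc]
      _ = y' * (g * y * g⁻¹) := by group
  set Y0 : Subgroup G := Subgroup.closure S0 with hY0
  have hY0W : Y0 ≤ W := by
    rw [hY0, Subgroup.closure_le]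
    intro y hy
    exact hy.1
  have hY0n : E ≤ Subgroup.normalizer (Y0 : Set G) := by
    apply le_normalizer_of_conj
    intro g hg x hx
    have hle : Y0 ≤ Y0.comap (MulAut.conj g).toMonoidHom := by
      rw [hY0, Subgroup.closure_le]
      intro y hy
      show (MulAut.conj g) y ∈ Subgroup.closure S0
      rw [MulAut.conj_apply]
      exact Subgroup.subset_closure (hS0conj g hg y hy)
    have := hle hx
    rw [Subgroup.mem_comap] at this
    simpa [MulAut.conj_apply] using this
  have hY0ab : ∀ a ∈ Y0, ∀ b ∈ Y0, a * b = b * a := by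
    have h1 : Y0 ≤ Subgroup.centralizer S0 := by
      rw [hY0, Subgroup.closure_le]
      intro y hy
      show y ∈ Subgroup.centralizer S0
      rw [Subgroup.mem_centralizer_iff]
      intro s hs
      exact hs.2.2 y hy.1 hy.2.1
    have h2 : Y0 ≤ Subgroup.centralizer (Subgroup.centralizer S0 : Set G) :=
      Subgroup.closure_le_centralizer_centralizer S0
    intro a ha b hb
    have := (Subgroup.mem_centralizer_iff.mp (h2 hb)) a (h1 ha)
    exact this
  have hY0z := S.abelian_inv D hY0W hY0n hY0ab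
  apply good_of_secondCenter S.hW
  · intro e
    exact D.hz1 (congrArg Subtype.val e)
  · exact Subtype.ext D.hz2
  · intro g
    exact Subtype.ext (hzc g g.2)
  · intro g hg
    rcases hcen g g.2 (fun w hw => (congrArg Subtype.val (hg ⟨w, hw⟩)).symm) with h | h
    · left; exact Subtype.ext h
    · right; exact Subtype.ext h
  · intro y hy hyc
    have hmem : (y : G) ∈ S0 := by
      refine ⟨y.2, (P2_iff_PG y).mp hy, ?_⟩
      intro y' hy'W hy'
      have := hyc ⟨y', hy'W⟩ ((P2_iff_PG (⟨y', hy'W⟩ : W)).mpr hy')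
      exact congrArg Subtype.val this
    rcases hY0z _ (Subgroup.subset_closure hmem) with h | h
    · left; exact Subtype.ext h
    · right; exact Subtype.ext h
  · obtain ⟨φ⟩ := D.iso
    refine ⟨⟨(φ.symm (QuaternionGroup.a 1) : G), (φ.symm (QuaternionGroup.a 1)).2.1⟩,
      ⟨(φ.symm (QuaternionGroup.xa 0) : G), (φ.symm (QuaternionGroup.xa 0)).2.1⟩, ?_⟩
    intro h
    apply quat_noncomm
    have h1 := congrArg Subtype.val h
    simp only [Subgroup.coe_mul] at h1
    have h2 : φ.symm (QuaternionGroup.a 1) * φ.symm (QuaternionGroup.xa 0) =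
        φ.symm (QuaternionGroup.xa 0) * φ.symm (QuaternionGroup.a 1) := Subtype.ext h1
    rw [← map_mul, ← map_mul] at h2
    exact φ.symm.injective h2

theorem Setup.W_eq_iSup [Finite G] (S : Setup W E p) :
    (⨆ a ∈ {a : G | a ∈ E ∧ a ≠ 1}, W ⊓ Subgroup.centralizer {a}) = W :=
  S.generation (le_refl E) S.ncyc (le_refl W) S.normalizer_W

theorem Setup.exp_three [Finite G] (S : Setup W E 3) (D : Data W E z e0) : ∀ h ∈ E, h ^ 3 = 1 := by
  intro h hh
  apply S.faith _ (E.pow_mem hh 3)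
  have hle : W ≤ Subgroup.centralizer ({h ^ 3} : Set G) := by
    refine le_trans (le_of_eq S.W_eq_iSup.symm) (iSup₂_le ?_)
    intro a ha x hx
    rw [mem_cent_single]
    have hXn := S.normalizer_fix S.normalizer_W (Setup.single_sub ha.1)
    rcases S.dich2 D ha.1 ha.2 (le_refl _) hXn with h1 | hiso
    · rcases h1 x hx with rfl | rfl
      · simp
      · exact D.hzE _ (E.pow_mem hh 3)
    · obtain ⟨k, hk⟩ := S.hE ⟨h, hh⟩
      have hk' : h ^ (3 ^ k) = 1 := by
        have := congrArg Subtype.val hk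
        simpa using this
      exact cube_centralizes _ (le_of_eq (card_quat_iso hiso)) h (hXn hh) k hk' x hx
  intro w hw
  exact mem_cent_single.mp (hle hw)

theorem card_mul_relIndex' [Finite G] {K L : Subgroup G} (hKL : K ≤ L) :
    Nat.card K * K.relIndex L = Nat.card L := by
  have := Subgroup.relIndex_mul_relIndex ⊥ K L bot_le hKL
  rwa [Subgroup.relIndex_bot_left, Subgroup.relIndex_bot_left] at this

/-- a cyclic group of exponent `3` has order at most `3` -/
theorem card_le_three_of_cyclic [Finite G] {B : Subgroup G} (hB : IsCyclic B) (h3 : ∀ b ∈ B, b ^ 3 = 1) :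
    Nat.card B ≤ 3 := by
  obtain ⟨g, hg⟩ := hB.exists_generator
  have h1 : orderOf g = Nat.card B := orderOf_eq_card_of_forall_mem_zpowers hg
  have h2 : g ^ 3 = 1 := Subtype.ext (by simpa using h3 g g.2)
  have h3' : orderOf g ∣ 3 := orderOf_dvd_of_pow_eq_one h2
  rw [← h1]
  exact Nat.le_of_dvd (by norm_num) h3'

theorem card_le_two_of_forall' {S : Subgroup G} {z : G} (hS : ∀ x ∈ S, x = 1 ∨ x = z) :
    Nat.card S ≤ 2 := by
  classical
  have hinj : Function.Injective (fun w : S => decide ((w : G) = 1)) := by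
    intro w w' hww
    apply Subtype.ext
    simp only [decide_eq_decide] at hww
    rcases hS w w.2 with e | e <;> rcases hS w' w'.2 with e' | e'
    · rw [e, e']
    · rw [e, hww.mp e]
    · rw [hww.mpr e', e']
    · rw [e, e']
  have := Nat.card_le_card_of_injective _ hinj
  simpa using this

theorem Setup.card_X_le [Finite G] (S : Setup W E 3) (D : Data W E z e0) {e : G} (he : e ∈ E)
    (he1 : e ≠ 1) : Nat.card (W ⊓ Subgroup.centralizer ({e} : Set G) : Subgroup G) ≤ 8 := by
  have hXn := S.normalizer_fix S.normalizer_W (Setup.single_sub he)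
  rcases S.dich2 D he he1 (le_refl _) hXn with h1 | hiso
  · have := card_le_two_of_forall' (z := z) h1
    omega
  · exact le_of_eq (card_quat_iso hiso)

theorem Setup.card_W_ge [Finite G] (_S : Setup W E 3) (D : Data W E z e0) : 8 ≤ Nat.card W := by
  rw [← card_quat_iso D.iso]
  exact Subgroup.card_le_of_le inf_le_left

theorem Setup.card_E [Finite G] (S : Setup W E 3) (D : Data W E z e0) : Nat.card E = 9 := by
  classical
  have : Fact (Nat.Prime 3) := ⟨Nat.prime_three⟩
  have hexp := S.exp_three D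
  obtain ⟨r, hr⟩ := IsPGroup.iff_card.mp S.hE
  have hr2 : 2 ≤ r := by
    by_contra hcon
    apply S.ncyc
    have hr' : r = 0 ∨ r = 1 := by omega
    rcases hr' with rfl | rfl
    · have : Subsingleton E := (Nat.card_eq_one_iff_unique.mp (by simpa using hr)).1
      exact isCyclic_of_subsingleton
    · exact isCyclic_of_prime_card (p := 3) (by simpa using hr)
  suffices hr3 : r ≤ 2 by
    have : r = 2 := by omega
    rw [hr, this]; norm_num
  by_contra hcon
  have hr3 : 3 ≤ r := by omega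
  have h27 : 27 ≤ Nat.card E := by
    rw [hr]
    calc 27 = 3 ^ 3 := by norm_num
      _ ≤ 3 ^ r := Nat.pow_le_pow_right (by norm_num) hr3
  have hEA : Cfsg.IsElementaryAbelian 3 E := ⟨S.isMulComm, hexp⟩
  have hnd : ¬ 3 ∣ Nat.card W := by
    have hco := S.coprime (le_refl W) (le_refl E)
    intro h3
    have h3E : 3 ∣ Nat.card E := by rw [hr]; exact dvd_pow_self 3 (by omega)
    have h1 := Nat.eq_one_of_dvd_coprimes hco h3E h3
    norm_num at h1
  have hgen := Cfsg.Agent.S1324.result 3 E W hEA (by omega) hnd S.normalizer_W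
  have hle : W ≤ Subgroup.zpowers z := by
    rw [hgen]
    apply iSup_le
    rintro ⟨B, hBE, hBi⟩
    show W ⊓ Subgroup.centralizer (B : Set G) ≤ Subgroup.zpowers z
    have hcardB : 9 ≤ Nat.card B := by
      have h1 := card_mul_relIndex' hBE
      have h2 : Nat.card E ≤ Nat.card B * 3 := by
        rw [← h1]; exact Nat.mul_le_mul_left _ hBi
      omega
    have hBnc : ¬ IsCyclic B := by
      intro hc
      have := card_le_three_of_cyclic hc (fun b hb => hexp b (hBE hb))
      omega
    have hBne : B ≠ ⊥ := by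
      intro e
      rw [e, Subgroup.card_bot] at hcardB
      omega
    obtain ⟨b, hb1⟩ := (Subgroup.ne_bot_iff_exists_ne_one).mp hBne
    have hb' : (b : G) ≠ 1 := fun e => hb1 (Subtype.ext e)
    set T : Subgroup G := W ⊓ Subgroup.centralizer (B : Set G) with hT
    have hTb : ∀ b' ∈ B, T ≤ W ⊓ Subgroup.centralizer ({b'} : Set G) := by
      intro b' hb'B
      apply inf_le_inf_left
      apply Subgroup.centralizer_le
      intro x hx
      rw [Set.mem_singleton_iff] at hx
      rw [hx]; exact hb'B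
    have hTn : E ≤ Subgroup.normalizer (T : Set G) := S.normalizer_fix S.normalizer_W hBE
    rcases S.dich2 D (hBE b.2) hb' (hTb b b.2) hTn with h1 | hiso
    · intro x hx
      exact (mem_zp D.hz2).mpr (h1 x hx)
    · exfalso
      have hT8 : Nat.card T = 8 := card_quat_iso hiso
      have hXeq : ∀ b' ∈ B, b' ≠ 1 → W ⊓ Subgroup.centralizer ({b'} : Set G) = T := by
        intro b' hb'B hb'1
        symm
        apply Subgroup.eq_of_le_of_card_ge (hTb b' hb'B)
        rw [hT8]
        exact S.card_X_le D (hBE hb'B) hb'1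
      have hgenB := S.generation hBE hBnc (le_refl W) S.normalizer_W
      have hWT : W ≤ T := by
        refine le_trans (le_of_eq hgenB.symm) (iSup₂_le ?_)
        intro a ha
        rw [hXeq a ha.1 ha.2]
      apply hb'
      apply S.faith _ (hBE b.2)
      intro w hw
      have := (hWT hw).2
      exact ((Subgroup.mem_centralizer_iff.mp this) b b.2)
  have h1 := S.card_W_ge D
  have h2 : Nat.card W ≤ Nat.card (Subgroup.zpowers z) := Subgroup.card_le_of_le hle
  have h3 : Nat.card (Subgroup.zpowers z) ≤ 2 :=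
    card_le_two_of_forall' (z := z) (fun x hx => (mem_zp D.hz2).mp hx)
  omega

theorem pow_three_reduce {a : G} (ha : a ^ 3 = 1) (i : ℕ) : a ^ i = a ^ (i % 3) := by
  conv_lhs => rw [← Nat.div_add_mod i 3]
  rw [pow_add, pow_mul, ha, one_pow, one_mul]

theorem Setup.enum [Finite G] (S : Setup W E 3) (D : Data W E z e0) :
    ∃ a b : G, a ∈ E ∧ b ∈ E ∧ a ≠ 1 ∧ b ≠ 1 ∧ a * b ≠ 1 ∧ a * b ^ 2 ≠ 1 ∧
      ∀ e ∈ E, e ≠ 1 → (e = a ∨ e = a ^ 2) ∨ (e = b ∨ e = b ^ 2) ∨
        (e = a * b ∨ e = (a * b) ^ 2) ∨ (e = a * b ^ 2 ∨ e = (a * b ^ 2) ^ 2) := by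
  classical
  have : Fact (Nat.Prime 3) := ⟨Nat.prime_three⟩
  have hE9 := S.card_E D
  have hexp := S.exp_three D
  have hEne : E ≠ ⊥ := by
    intro e
    rw [e, Subgroup.card_bot] at hE9
    omega
  obtain ⟨a', ha'1⟩ := (Subgroup.ne_bot_iff_exists_ne_one).mp hEne
  set a : G := (a' : G) with ha
  have haE : a ∈ E := a'.2
  have ha1 : a ≠ 1 := fun e => ha'1 (Subtype.ext e)
  have ha3 : a ^ 3 = 1 := hexp a haE
  have hoa : orderOf a = 3 := orderOf_eq_prime ha3 ha1
  have hca : Nat.card (Subgroup.zpowers a) = 3 := by rw [Nat.card_zpowers, hoa]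
  have hexb : ∃ b ∈ E, b ∉ Subgroup.zpowers a := by
    by_contra hcon
    push Not at hcon
    have hle : E ≤ Subgroup.zpowers a := hcon
    have := Subgroup.card_le_of_le hle
    omega
  obtain ⟨b, hbE, hbna⟩ := hexb
  have hb3 : b ^ 3 = 1 := hexp b hbE
  have hb1 : b ≠ 1 := by
    intro e
    apply hbna
    rw [e]; exact Subgroup.one_mem _
  have hab : a * b = b * a := S.comm a haE b hbE
  have hcomm : Commute a b := hab
  refine ⟨a, b, haE, hbE, ha1, hb1, ?_, ?_, ?_⟩
  · intro e
    apply hbna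
    have : b = a⁻¹ := by
      calc b = a⁻¹ * (a * b) := by group
        _ = a⁻¹ := by rw [e]; group
    rw [this]
    exact Subgroup.inv_mem _ (Subgroup.mem_zpowers a)
  · intro e
    apply hbna
    have h1 : b ^ 2 = a⁻¹ := by
      calc b ^ 2 = a⁻¹ * (a * b ^ 2) := by group
        _ = a⁻¹ := by rw [e]; group
    have h2 : b = (b ^ 2) ^ 2 := by
      calc b = b ^ 3 * b := by rw [hb3, one_mul]
        _ = (b ^ 2) ^ 2 := by group
    rw [h2, h1]
    exact Subgroup.pow_mem _ (Subgroup.inv_mem _ (Subgroup.mem_zpowers a)) 2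
  -- the subgroup generated by a and b is E
  set H : Subgroup G := Subgroup.closure ({a, b} : Set G) with hH
  have hHE : H ≤ E := by
    rw [hH, Subgroup.closure_le]
    intro x hx
    rcases hx with rfl | rfl
    · exact haE
    · exact hbE
  have haH : a ∈ H := Subgroup.subset_closure (by simp)
  have hbH : b ∈ H := Subgroup.subset_closure (by simp)
  have hzaH : Subgroup.zpowers a ≤ H := Subgroup.zpowers_le.mpr haH
  have hHcard : Nat.card H = 9 := by
    have h1 : Nat.card H ∣ 9 := hE9 ▸ Subgroup.card_dvd_of_le hHE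
    have h2 : 3 ∣ Nat.card H := hca ▸ Subgroup.card_dvd_of_le hzaH
    have h3 : Nat.card H ≠ 3 := by
      intro e
      apply hbna
      have : Subgroup.zpowers a = H := Subgroup.eq_of_le_of_card_ge hzaH (by rw [e, hca])
      rw [this]; exact hbH
    have hle : Nat.card H ≤ 9 := Nat.le_of_dvd (by norm_num) h1
    have hpos : 0 < Nat.card H := Nat.card_pos
    interval_cases hc : Nat.card H <;> omega
  have hHeq : H = E := Subgroup.eq_of_le_of_card_ge hHE (by rw [hHcard, hE9])
  have hform : ∀ e ∈ H, ∃ i j : ℕ, e = a ^ i * b ^ j := by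
    intro e he
    induction he using Subgroup.closure_induction with
    | mem x hx =>
      rcases hx with rfl | rfl
      · exact ⟨1, 0, by simp⟩
      · exact ⟨0, 1, by simp⟩
    | one => exact ⟨0, 0, by simp⟩
    | mul x y _ _ hx hy =>
      obtain ⟨i, j, rfl⟩ := hx
      obtain ⟨i', j', rfl⟩ := hy
      refine ⟨i + i', j + j', ?_⟩
      have h1 : b ^ j * a ^ i' = a ^ i' * b ^ j := ((hcomm.pow_pow i' j).eq).symm
      calc a ^ i * b ^ j * (a ^ i' * b ^ j') = a ^ i * (b ^ j * a ^ i') * b ^ j' := by group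
        _ = a ^ i * (a ^ i' * b ^ j) * b ^ j' := by rw [h1]
        _ = a ^ (i + i') * b ^ (j + j') := by rw [pow_add, pow_add]; group
    | inv x _ hx =>
      obtain ⟨i, j, rfl⟩ := hx
      refine ⟨2 * i, 2 * j, ?_⟩
      apply inv_eq_of_mul_eq_one_right
      have h1 : b ^ j * a ^ (2 * i) = a ^ (2 * i) * b ^ j := ((hcomm.pow_pow (2 * i) j).eq).symm
      calc a ^ i * b ^ j * (a ^ (2 * i) * b ^ (2 * j))
          = a ^ i * (b ^ j * a ^ (2 * i)) * b ^ (2 * j) := by group
        _ = a ^ i * (a ^ (2 * i) * b ^ j) * b ^ (2 * j) := by rw [h1]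
        _ = a ^ (3 * i) * b ^ (3 * j) := by
            have e1 : 3 * i = i + 2 * i := by ring
            have e2 : 3 * j = j + 2 * j := by ring
            rw [e1, e2, pow_add, pow_add]; group
        _ = 1 := by rw [pow_mul, pow_mul, ha3, hb3]; simp
  intro e heE he1
  obtain ⟨i, j, hij⟩ := hform e (hHeq ▸ heE)
  rw [pow_three_reduce ha3 i, pow_three_reduce hb3 j] at hij
  have hi : i % 3 < 3 := Nat.mod_lt _ (by norm_num)
  have hj : j % 3 < 3 := Nat.mod_lt _ (by norm_num)
  have hb4 : b ^ 4 = b := by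
    calc b ^ 4 = b ^ 3 * b := by group
      _ = b := by rw [hb3, one_mul]
  interval_cases hi' : i % 3 <;> interval_cases hj' : j % 3
  · exfalso; apply he1; rw [hij]; simp
  · right; left; left; rw [hij]; simp
  · right; left; right; rw [hij]; simp
  · left; left; rw [hij]; simp
  · right; right; left; left; rw [hij]; simp
  · right; right; right; left; rw [hij]; simp
  · left; right; rw [hij]; simp
  · right; right; right; right
    have h4 : (a * b ^ 2) ^ 2 = a ^ 2 * b := by
      rw [(hcomm.pow_right 2).mul_pow 2, ← pow_mul]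
      have : b ^ (2 * 2) = b ^ 4 := by norm_num
      rw [this, hb4]
    rw [hij, h4]; simp
  · right; right; left; right
    rw [hij]
    exact (hcomm.mul_pow 2).symm

theorem card_sup_mul_card_inf' {H : Type*} [Group H] [Finite H] (A K : Subgroup H) [K.Normal] :
    Nat.card (A ⊔ K : Subgroup H) * Nat.card (A ⊓ K : Subgroup H) = Nat.card A * Nat.card K := by
  have a := Subgroup.relIndex_sup_right (H := A) (K := K)
  have b : Nat.card K * K.relIndex (A ⊔ K) = Nat.card (A ⊔ K : Subgroup H) := by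
    have := Subgroup.relIndex_mul_relIndex (H := (⊥ : Subgroup H)) (K := K) (L := A ⊔ K)
      bot_le le_sup_right
    rwa [Subgroup.relIndex_bot_left, Subgroup.relIndex_bot_left] at this
  have c : (A ⊓ K).relIndex A = K.relIndex A := Subgroup.inf_relIndex_left A K
  have d : Nat.card (A ⊓ K : Subgroup H) * (A ⊓ K).relIndex A = Nat.card A := by
    have := Subgroup.relIndex_mul_relIndex (H := (⊥ : Subgroup H)) (K := A ⊓ K) (L := A)
      bot_le inf_le_left
    rwa [Subgroup.relIndex_bot_left, Subgroup.relIndex_bot_left] at this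
  rw [← b, ← d, a, c]; ring

theorem two_mul_card_sup_le {H : Type*} [Group H] [Finite H] (A K : Subgroup H) [K.Normal] (c : H)
    (hc1 : c ≠ 1) (hcA : c ∈ A) (hcK : c ∈ K) :
    2 * Nat.card (A ⊔ K : Subgroup H) ≤ Nat.card A * Nat.card K := by
  have h1 := card_sup_mul_card_inf' A K
  have h2 : 2 ≤ Nat.card (A ⊓ K : Subgroup H) := by
    have hne : (A ⊓ K : Subgroup H) ≠ ⊥ := by
      intro e
      apply hc1
      have : c ∈ (A ⊓ K : Subgroup H) := ⟨hcA, hcK⟩
      rw [e] at this
      exact Subgroup.mem_bot.mp this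
    have := (Subgroup.one_lt_card_iff_ne_bot (A ⊓ K)).mpr hne
    omega
  calc 2 * Nat.card (A ⊔ K : Subgroup H) = Nat.card (A ⊔ K : Subgroup H) * 2 := by ring
    _ ≤ Nat.card (A ⊔ K : Subgroup H) * Nat.card (A ⊓ K : Subgroup H) := Nat.mul_le_mul_left _ h2
    _ = Nat.card A * Nat.card K := h1

theorem fix_le_of_sq {W : Subgroup G} {e r : G} (hr : r ^ 3 = 1) (he : e = r ∨ e = r ^ 2) :
    W ⊓ Subgroup.centralizer ({e} : Set G) ≤ W ⊓ Subgroup.centralizer ({r} : Set G) := by
  rcases he with rfl | rfl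
  · exact le_refl _
  · apply inf_le_inf_left
    intro x hx
    rw [mem_cent_single] at hx ⊢
    have h4 : r = (r ^ 2) ^ 2 := by
      calc r = r ^ 3 * r := by rw [hr, one_mul]
        _ = (r ^ 2) ^ 2 := by group
    have hc : Commute (r ^ 2) x := hx
    have := (hc.pow_left 2).eq
    rw [← h4] at this
    exact this

theorem Setup.card_W_le [Finite G] (S : Setup W E 3) (D : Data W E z e0) : Nat.card W ≤ 512 := by
  classical
  obtain ⟨a, b, haE, hbE, ha1, hb1, hab1, hab21, henum⟩ := S.enum D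
  have hexp := S.exp_three D
  have hGood := S.good_W D
  have habE : a * b ∈ E := E.mul_mem haE hbE
  have hab2E : a * b ^ 2 ∈ E := E.mul_mem haE (E.pow_mem hbE 2)
  -- the four fixed-point subgroups
  let X : G → Subgroup G := fun r => W ⊓ Subgroup.centralizer ({r} : Set G)
  have hXW : ∀ r, X r ≤ W := fun r => inf_le_left
  let K : G → Subgroup W := fun r => (X r).subgroupOf W
  have hKn : ∀ r ∈ E, (K r).Normal := by
    intro r hr
    constructor
    intro n hn g
    have hn' : (n : G) ∈ X r := hn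
    show ((g * n * g⁻¹ : W) : G) ∈ X r
    have hzX : z ∈ X r := ⟨D.hzW, mem_cent_single.mpr (D.hzE r hr)⟩
    rcases hGood.comm g n with h | h
    · have h' := congrArg Subtype.val h
      simp only [Subgroup.coe_mul, Subgroup.coe_inv, Subgroup.coe_one] at h'
      have e : ((g * n * g⁻¹ : W) : G) = ((g : G) * n * (g : G)⁻¹ * (n : G)⁻¹) * n := by
        simp only [Subgroup.coe_mul, Subgroup.coe_inv]; group
      rw [e, h', one_mul]; exact hn'
    · have h' := congrArg Subtype.val h
      simp only [Subgroup.coe_mul, Subgroup.coe_inv] at h'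
      have e : ((g * n * g⁻¹ : W) : G) = ((g : G) * n * (g : G)⁻¹ * (n : G)⁻¹) * n := by
        simp only [Subgroup.coe_mul, Subgroup.coe_inv]; group
      rw [e, h']; exact (X r).mul_mem hzX hn'
  have hKcard : ∀ r ∈ E, r ≠ 1 → Nat.card (K r) ≤ 8 := by
    intro r hr hr1
    have := S.card_X_le D hr hr1
    rw [← Nat.card_congr (Subgroup.subgroupOfEquivOfLe (hXW r)).toEquiv] at this
    exact this
  have hzK : ∀ r ∈ E, (⟨z, D.hzW⟩ : W) ∈ K r := by
    intro r hr
    show z ∈ X r
    exact ⟨D.hzW, mem_cent_single.mpr (D.hzE r hr)⟩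
  have hz'1 : (⟨z, D.hzW⟩ : W) ≠ 1 := fun e => D.hz1 (congrArg Subtype.val e)
  -- W is generated by the four
  have hWJ : W ≤ X a ⊔ X b ⊔ X (a * b) ⊔ X (a * b ^ 2) := by
    refine le_trans (le_of_eq S.W_eq_iSup.symm) (iSup₂_le ?_)
    intro e he
    rcases henum e he.1 he.2 with h | h | h | h
    · exact le_trans (fix_le_of_sq (hexp a haE) h)
        (le_sup_of_le_left (le_sup_of_le_left le_sup_left))
    · exact le_trans (fix_le_of_sq (hexp b hbE) h)
        (le_sup_of_le_left (le_sup_of_le_left le_sup_right))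
    · exact le_trans (fix_le_of_sq (hexp _ habE) h) (le_sup_of_le_left le_sup_right)
    · exact le_trans (fix_le_of_sq (hexp _ hab2E) h) le_sup_right
  have hsub1 : (X a ⊔ X b).subgroupOf W = K a ⊔ K b := Subgroup.subgroupOf_sup (hXW a) (hXW b)
  have hsub2 : (X a ⊔ X b ⊔ X (a * b)).subgroupOf W = K a ⊔ K b ⊔ K (a * b) := by
    rw [Subgroup.subgroupOf_sup (sup_le (hXW a) (hXW b)) (hXW _), hsub1]
  have hsub3 : (X a ⊔ X b ⊔ X (a * b) ⊔ X (a * b ^ 2)).subgroupOf W =
      K a ⊔ K b ⊔ K (a * b) ⊔ K (a * b ^ 2) := by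
    rw [Subgroup.subgroupOf_sup (sup_le (sup_le (hXW a) (hXW b)) (hXW _)) (hXW _), hsub2]
  have htop : K a ⊔ K b ⊔ K (a * b) ⊔ K (a * b ^ 2) = ⊤ := by
    rw [← hsub3, Subgroup.subgroupOf_eq_top]
    exact hWJ
  have := hKn a haE
  have := hKn b hbE
  have := hKn _ habE
  have := hKn _ hab2E
  have c1 := two_mul_card_sup_le (K a) (K b) _ hz'1 (hzK a haE) (hzK b hbE)
  have c2 := two_mul_card_sup_le (K a ⊔ K b) (K (a * b)) _ hz'1
    (Subgroup.mem_sup_left (hzK a haE)) (hzK _ habE)
  have c3 := two_mul_card_sup_le (K a ⊔ K b ⊔ K (a * b)) (K (a * b ^ 2)) _ hz'1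
    (Subgroup.mem_sup_left (Subgroup.mem_sup_left (hzK a haE))) (hzK _ hab2E)
  rw [htop, Subgroup.card_top] at c3
  have k1 := hKcard a haE ha1
  have k2 := hKcard b hbE hb1
  have k3 := hKcard _ habE hab1
  have k4 := hKcard _ hab2E hab21
  have e1 : 2 * Nat.card (K a ⊔ K b : Subgroup W) ≤ 64 := by
    calc 2 * Nat.card (K a ⊔ K b : Subgroup W) ≤ Nat.card (K a) * Nat.card (K b) := c1
      _ ≤ 8 * 8 := Nat.mul_le_mul k1 k2
  have e2 : 2 * Nat.card (K a ⊔ K b ⊔ K (a * b) : Subgroup W) ≤ 32 * 8 := by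
    calc 2 * Nat.card (K a ⊔ K b ⊔ K (a * b) : Subgroup W)
        ≤ Nat.card (K a ⊔ K b : Subgroup W) * Nat.card (K (a * b)) := c2
      _ ≤ 32 * 8 := Nat.mul_le_mul (by omega) k3
  have e3 : 2 * Nat.card W ≤ 128 * 8 := by
    calc 2 * Nat.card W
        ≤ Nat.card (K a ⊔ K b ⊔ K (a * b) : Subgroup W) * Nat.card (K (a * b ^ 2)) := c3
      _ ≤ 128 * 8 := Nat.mul_le_mul (by omega) k4
  omega

theorem Setup.nonabelian_W (D : Data W E z e0) : ∃ g k : W, g * k ≠ k * g := by
  obtain ⟨φ⟩ := D.iso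
  refine ⟨⟨(φ.symm (QuaternionGroup.a 1) : G), (φ.symm (QuaternionGroup.a 1)).2.1⟩,
    ⟨(φ.symm (QuaternionGroup.xa 0) : G), (φ.symm (QuaternionGroup.xa 0)).2.1⟩, ?_⟩
  intro h
  apply quat_noncomm
  have h1 := congrArg Subtype.val h
  simp only [Subgroup.coe_mul] at h1
  have h2 : φ.symm (QuaternionGroup.a 1) * φ.symm (QuaternionGroup.xa 0) =
      φ.symm (QuaternionGroup.xa 0) * φ.symm (QuaternionGroup.a 1) := Subtype.ext h1
  rw [← map_mul, ← map_mul] at h2
  exact φ.symm.injective h2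

/-- **Internal form.**  `W ⊴ G` a `2`-group, `E ≤ G` a noncyclic abelian `p`-group (`p` odd) acting
faithfully on `W` such that every `C_W(e)`, `e ≠ 1`, has at most one involution. -/
theorem internal [Finite G] (S : Setup W E p) :
    Nat.card E = 9 ∧ Cfsg.IsExtraspecial 2 W ∧
    (Nat.card W = 2 ^ 5 ∨ Nat.card W = 2 ^ 7 ∨ Nat.card W = 2 ^ 9) ∧
    ∀ x ∈ W, (∀ e ∈ E, e * x = x * e) ↔ (∀ w ∈ W, w * x = x * w) := by
  obtain ⟨hp3, z, e0, D⟩ := S.exists_data
  subst hp3
  have : Fact (Nat.Prime 2) := ⟨Nat.prime_two⟩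
  have hGood := S.good_W D
  have hExt : Cfsg.IsExtraspecial 2 W := hGood.isExtraspecial (Setup.nonabelian_W D)
  obtain ⟨hzc, hcen⟩ := S.center_W D
  refine ⟨S.card_E D, hExt, ?_, ?_⟩
  · obtain ⟨n, hn1, hn⟩ := Cfsg.Agent.Helper63.extraspecial_card hExt
    have hle := S.card_W_le D
    have hne8 : Nat.card W ≠ 8 := by
      intro e
      apply D.he01
      apply S.faith e0 D.he0
      have hEq : (W ⊓ Subgroup.centralizer ({e0} : Set G) : Subgroup G) = W :=
        Subgroup.eq_of_le_of_card_ge inf_le_left (by rw [e, card_quat_iso D.iso])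
      intro w hw
      have : w ∈ (W ⊓ Subgroup.centralizer ({e0} : Set G) : Subgroup G) := by rw [hEq]; exact hw
      exact mem_cent_single.mp this.2
    have hn4 : n ≤ 4 := by
      by_contra hcon
      have h5 : 5 ≤ n := by omega
      have : 2 ^ (2 * 5 + 1) ≤ 2 ^ (2 * n + 1) := Nat.pow_le_pow_right (by norm_num) (by omega)
      rw [← hn] at this
      norm_num at this
      omega
    have hn2 : n ≠ 1 := by
      intro e
      apply hne8
      rw [hn, e]; norm_num
    have hcases : n = 2 ∨ n = 3 ∨ n = 4 := by omega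
    rcases hcases with rfl | rfl | rfl
    · left; rw [hn]
    · right; left; rw [hn]
    · right; right; rw [hn]
  · intro x hx
    constructor
    · intro h w hw
      rcases D.hZ0 x hx h with rfl | rfl
      · simp
      · exact hzc w hw
    · intro h e he
      rcases hcen x hx h with rfl | rfl
      · simp
      · exact D.hzE e he

end Internal

end Cfsg.Agent.Helper73.OneInvol
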