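import Mathlib
import Cfsg.Prelude.Def_Characters
import Cfsg.Prelude.Def_Blocks
import Cfsg.Agent.Lib.Helper80.RMKDefs
import Cfsg.Agent.Lib.Helper80.RMKBasic
import Cfsg.Agent.Lib.Helper42.RMKISO
import Cfsg.Agent.Lib.Helper73.RMKQN

/-!
# RMK piece (QNA) for helper80's S4581 server (wave 2): QN applied to the subgroup `T`.
-/

set_option autoImplicit false
set_option linter.style.haveILetI false

namespace Cfsg.Agent.Helper73.RMK

open Cfsg Cfsg.Agent.Helper80 Cfsg.Agent.Helper80.RMK
open scoped ComplexConjugate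
open Cfsg.Agent.Helper42.RMK (isoIrr isoIrr_apply good_isoIrr)

universe u

/-- (QNA) the good characters of the normalizer of the image of `P` in `T ⧸ M` are the good
characters of `N_G(P) ⊓ T` trivial on `M` -/
theorem cnt_normalizer_quotient_sub (r : Bool) {G : Type u} [Group G] [Finite G]
    (M : Subgroup G) [hM : M.Normal] (P : Sylow 2 G) (T : Subgroup G)
    (hMP : M ≤ (P : Subgroup G)) (hPT : (P : Subgroup G) ≤ T) :
    cnt r ↥(Subgroup.normalizer ((((P.subtype hPT).mapSurjective
        (QuotientGroup.mk'_surjective (M.subgroupOf T)) : Sylow 2 (↥T ⧸ M.subgroupOf T)) :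
        Subgroup (↥T ⧸ M.subgroupOf T)) : Set (↥T ⧸ M.subgroupOf T))) =
      Nat.card {ψ : IrrCharacter ↥(Subgroup.normalizer ((P : Subgroup G) : Set G) ⊓ T) //
        Good r ψ ∧ ∀ m : ↥M,
          (ψ : ↥(Subgroup.normalizer ((P : Subgroup G) : Set G) ⊓ T) → ℂ)
            (Subgroup.inclusion (le_inf (le_trans hMP Subgroup.le_normalizer)
              (le_trans hMP hPT)) m) =
          (ψ : ↥(Subgroup.normalizer ((P : Subgroup G) : Set G) ⊓ T) → ℂ) 1} := by
  rw [cnt_normalizer_quotient r (M.subgroupOf T) (P.subtype hPT)]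
  have h1 : Subgroup.normalizer (((P.subtype hPT : Sylow 2 ↥T) : Subgroup ↥T) : Set ↥T) =
      (Subgroup.normalizer ((P : Subgroup G) : Set G)).subgroupOf T := by
    rw [Sylow.coe_subtype]
    exact (Subgroup.subgroupOf_normalizer_eq hPT).symm
  have h2 : (Subgroup.normalizer ((P : Subgroup G) : Set G)).subgroupOf T =
      (Subgroup.normalizer ((P : Subgroup G) : Set G) ⊓ T).subgroupOf T :=
    (Subgroup.inf_subgroupOf_right _ T).symm
  let e : ↥(Subgroup.normalizer (((P.subtype hPT : Sylow 2 ↥T) : Subgroup ↥T) : Set ↥T)) ≃*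
      ↥(Subgroup.normalizer ((P : Subgroup G) : Set G) ⊓ T) :=
    (MulEquiv.subgroupCongr h1).trans
      ((MulEquiv.subgroupCongr h2).trans (Subgroup.subgroupOfEquivOfLe inf_le_right))
  have he : ∀ k, ((e k : ↥(Subgroup.normalizer ((P : Subgroup G) : Set G) ⊓ T)) : G) =
      ((k : ↥T) : G) := fun k => rfl
  apply Nat.card_congr
  refine (isoIrr e).subtypeEquiv (fun ψ => ?_)
  rw [good_isoIrr]
  apply and_congr Iff.rfl
  constructor
  · intro h m
    rw [isoIrr_apply, isoIrr_apply, map_one]
    apply h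
    rw [Subgroup.mem_subgroupOf]
    have h3 := he (e.symm (Subgroup.inclusion (le_inf (le_trans hMP Subgroup.le_normalizer)
              (le_trans hMP hPT)) m))
    rw [MulEquiv.apply_symm_apply] at h3
    rw [← h3]
    exact m.2
  · intro h k hk
    have hk' : ((k : ↥T) : G) ∈ M := Subgroup.mem_subgroupOf.mp hk
    have h3 := h ⟨_, hk'⟩
    rw [isoIrr_apply, isoIrr_apply, map_one] at h3
    have h4 : e.symm (Subgroup.inclusion (le_inf (le_trans hMP Subgroup.le_normalizer)
              (le_trans hMP hPT)) ⟨_, hk'⟩) = k := by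
      apply e.injective
      rw [MulEquiv.apply_symm_apply]
      apply Subtype.ext
      exact (he k).symm
    rw [h4] at h3
    exact h3

end Cfsg.Agent.Helper73.RMK
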