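import Mathlib

/-! # `SL₂(p)`-words on a plane over `F_p` (for the rank two resistance theorem) -/

set_option autoImplicit false

namespace Cfsg.Agent.Helper73.RkTwoLin

section Lin

variable {p : ℕ} [hp : Fact p.Prime] {W : Type*} [AddCommGroup W] [Module (ZMod p) W]

/-- `e₁, e₂` is a basis of `W` -/
structure BasisPair (p : ℕ) [Fact p.Prime] {W : Type*} [AddCommGroup W] [Module (ZMod p) W]
    (e₁ e₂ : W) : Prop where
  span : ∀ w : W, ∃ a b : ZMod p, w = a • e₁ + b • e₂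
  indep : ∀ a b : ZMod p, a • e₁ + b • e₂ = 0 → a = 0 ∧ b = 0

theorem BasisPair.ext {e₁ e₂ : W} (h : BasisPair p e₁ e₂) {f g : W ≃ₗ[ZMod p] W}
    (h1 : f e₁ = g e₁) (h2 : f e₂ = g e₂) : f = g := by
  ext w
  obtain ⟨a, b, rfl⟩ := h.span w
  rw [map_add, map_add, map_smul, map_smul, map_smul, map_smul, h1, h2]

theorem BasisPair.symm {e₁ e₂ : W} (h : BasisPair p e₁ e₂) : BasisPair p e₂ e₁ := by
  refine ⟨fun w => ?_, fun a b hab => ?_⟩
  · obtain ⟨a, b, rfl⟩ := h.span w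
    exact ⟨b, a, add_comm _ _⟩
  · rw [add_comm] at hab
    exact (h.indep b a hab).symm

theorem basisPair_of_card [Finite W] (hcard : Nat.card W = p ^ 2) {e₁ e₂ : W} (h1 : e₁ ≠ 0)
    (h2 : ∀ a : ZMod p, e₂ ≠ a • e₁) : BasisPair p e₁ e₂ := by
  have hindep : ∀ a b : ZMod p, a • e₁ + b • e₂ = 0 → a = 0 ∧ b = 0 := by
    intro a b hab
    have hb : b = 0 := by
      by_contra hb
      apply h2 (-(b⁻¹ * a))
      have h3 : b • e₂ = -(a • e₁) := by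
        rw [eq_neg_iff_add_eq_zero, add_comm]; exact hab
      have h4 : e₂ = b⁻¹ • (b • e₂) := by rw [smul_smul, inv_mul_cancel₀ hb, one_smul]
      rw [h4, h3, smul_neg, smul_smul, neg_smul]
    subst hb
    rw [zero_smul, add_zero] at hab
    refine ⟨?_, rfl⟩
    by_contra ha
    apply h1
    have : e₁ = a⁻¹ • (a • e₁) := by rw [smul_smul, inv_mul_cancel₀ ha, one_smul]
    rw [this, hab, smul_zero]
  refine ⟨?_, hindep⟩
  let φ : ZMod p × ZMod p → W := fun ab => ab.1 • e₁ + ab.2 • e₂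
  have hinj : Function.Injective φ := by
    rintro ⟨a, b⟩ ⟨a', b'⟩ h
    have h3 : (a - a') • e₁ + (b - b') • e₂ = 0 := by
      have h4 : a • e₁ + b • e₂ = a' • e₁ + b' • e₂ := h
      rw [sub_smul, sub_smul]
      have : a • e₁ - a' • e₁ + (b • e₂ - b' • e₂) = (a • e₁ + b • e₂) - (a' • e₁ + b' • e₂) := by
        abel
      rw [this, h4, sub_self]
    obtain ⟨h5, h6⟩ := hindep _ _ h3
    rw [sub_eq_zero] at h5 h6
    rw [h5, h6]
  have hcard' : Nat.card W ≤ Nat.card (ZMod p × ZMod p) := by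
    rw [Nat.card_prod, Nat.card_zmod, hcard, pow_two]
  have hbij := hinj.bijective_of_nat_card_le hcard'
  intro w
  obtain ⟨⟨a, b⟩, hab⟩ := hbij.2 w
  exact ⟨a, b, hab.symm⟩

theorem exists_basisPair [Finite W] (hcard : Nat.card W = p ^ 2) {e₁ : W} (h1 : e₁ ≠ 0) :
    ∃ e₂ : W, BasisPair p e₁ e₂ := by
  by_contra hne
  push Not at hne
  have hall : ∀ w : W, ∃ a : ZMod p, w = a • e₁ := by
    intro w
    by_contra hw
    push Not at hw
    exact hne w (basisPair_of_card hcard h1 hw)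
  have hsurj : Function.Surjective (fun a : ZMod p => a • e₁) := by
    intro w
    obtain ⟨a, ha⟩ := hall w
    exact ⟨a, ha.symm⟩
  have := Nat.card_le_card_of_surjective _ hsurj
  rw [hcard, Nat.card_zmod] at this
  have hp1 := hp.out.one_lt
  nlinarith

/-- powers of a transvection -/
theorem pow_transv {e₁ e₂ : W} {u : W ≃ₗ[ZMod p] W} {c : ZMod p} (h1 : u e₁ = e₁)
    (h2 : u e₂ = e₂ + c • e₁) (k : ℕ) :
    (u ^ k) e₁ = e₁ ∧ (u ^ k) e₂ = e₂ + ((k : ZMod p) * c) • e₁ := by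
  induction k with
  | zero => simp
  | succ k ih =>
    rw [pow_succ, LinearEquiv.mul_apply, LinearEquiv.mul_apply, h1, h2, map_add, map_smul, ih.1, ih.2]
    refine ⟨rfl, ?_⟩
    rw [Nat.cast_succ, add_mul, one_mul, add_smul, add_assoc]

theorem exists_pow_transv {e₁ e₂ : W} {u : W ≃ₗ[ZMod p] W} {c : ZMod p} (hc : c ≠ 0)
    (h1 : u e₁ = e₁) (h2 : u e₂ = e₂ + c • e₁) (s : ZMod p) :
    ∃ k : ℕ, (u ^ k) e₁ = e₁ ∧ (u ^ k) e₂ = e₂ + s • e₁ := by
  have : NeZero p := ⟨hp.out.ne_zero⟩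
  refine ⟨(s * c⁻¹).val, (pow_transv h1 h2 _).1, ?_⟩
  rw [(pow_transv h1 h2 _).2, ZMod.natCast_zmod_val, mul_assoc, inv_mul_cancel₀ hc, mul_one]

/-- the torus element in the group generated by two opposite transvections -/
theorem exists_torus {e₁ e₂ : W} (hb : BasisPair p e₁ e₂) (hp2 : p ≠ 2)
    (L : Subgroup (W ≃ₗ[ZMod p] W))
    {u l : W ≃ₗ[ZMod p] W} (hu : u ∈ L) (hl : l ∈ L) {c₁ c₂ : ZMod p} (hc₁ : c₁ ≠ 0) (hc₂ : c₂ ≠ 0)
    (hu1 : u e₁ = e₁) (hu2 : u e₂ = e₂ + c₁ • e₁) (hl2 : l e₂ = e₂) (hl1 : l e₁ = e₁ + c₂ • e₂) :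
    ∃ n ∈ L, n e₁ = (2 : ZMod p) • e₁ ∧ n e₂ = (2 : ZMod p)⁻¹ • e₂ := by
  have h2ne : (2 : ZMod p) ≠ 0 := by
    intro h
    have h3 : ((2 : ℕ) : ZMod p) = 0 := by exact_mod_cast h
    rw [ZMod.natCast_eq_zero_iff] at h3
    have := Nat.le_of_dvd (by norm_num) h3
    have := hp.out.two_le
    omega
  obtain ⟨k1, hA1, hA2⟩ := exists_pow_transv hc₁ hu1 hu2 2
  obtain ⟨k2, hB1, hB2⟩ := exists_pow_transv hc₁ hu1 hu2 (-1)
  obtain ⟨k3, hC2, hC1⟩ := exists_pow_transv hc₂ hl2 hl1 (-(2 : ZMod p)⁻¹)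
  obtain ⟨k4, hD2, hD1⟩ := exists_pow_transv hc₂ hl2 hl1 1
  refine ⟨u ^ k1 * l ^ k3 * u ^ k1 * (u ^ k2 * l ^ k4 * u ^ k2), ?_, ?_, ?_⟩
  · exact L.mul_mem (L.mul_mem (L.mul_mem (L.pow_mem hu _) (L.pow_mem hl _)) (L.pow_mem hu _))
      (L.mul_mem (L.mul_mem (L.pow_mem hu _) (L.pow_mem hl _)) (L.pow_mem hu _))
  · simp only [LinearEquiv.mul_apply, map_add, map_smul, map_neg, hA1, hA2, hB1, hB2, hC1, hC2,
      hD1, hD2]
    match_scalars <;> field_simp <;> ring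
  · simp only [LinearEquiv.mul_apply, map_add, map_smul, map_neg, hA1, hA2, hB1, hB2, hC1, hC2,
      hD1, hD2]
    match_scalars <;> field_simp <;> ring

end Lin

end Cfsg.Agent.Helper73.RkTwoLin
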