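import Mathlib
import Cfsg.Agent.Lib.Helper73.RkTwoLin

/-! # transvections of an elementary abelian group of order `p²` (multiplicative wrappers) -/

set_option autoImplicit false

namespace Cfsg.Agent.Helper73.RkTwoMul

open Cfsg.Agent.Helper73.RkTwoLin

variable {V : Type*} [CommGroup V]

/-- `τ` centralizes `E` and `V / E` -/
def IsTr (E : Subgroup V) (τ : MulAut V) : Prop :=
  (∀ e ∈ E, τ e = e) ∧ ∀ v : V, v⁻¹ * τ v ∈ E

theorem IsTr.conj {E : Subgroup V} {τ : MulAut V} (h : IsTr E τ) (σ : MulAut V) :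
    IsTr (E.map σ.toMonoidHom) (σ * τ * σ⁻¹) := by
  refine ⟨?_, fun v => ?_⟩
  · rintro _ ⟨e, he, rfl⟩
    show σ (τ (σ⁻¹ (σ e))) = σ e
    rw [MulAut.inv_apply_self, h.1 e he]
  · refine ⟨(σ⁻¹ v)⁻¹ * τ (σ⁻¹ v), h.2 _, ?_⟩
    show σ ((σ⁻¹ v)⁻¹ * τ (σ⁻¹ v)) = v⁻¹ * σ (τ (σ⁻¹ v))
    rw [map_mul, map_inv, MulAut.apply_inv_self]

theorem IsTr.conj_of_map_eq {E : Subgroup V} {τ : MulAut V} (h : IsTr E τ) {ν : MulAut V}
    (hν : E.map ν.toMonoidHom = E) : IsTr E (ν * τ * ν⁻¹) := by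
  have := h.conj ν
  rwa [hν] at this

section Bridge

variable {p : ℕ} [hp : Fact p.Prime]

/-- the `F_p`-vector space structure -/
@[reducible] def modOf (hexp : ∀ v : V, v ^ p = 1) : Module (ZMod p) (Additive V) :=
  haveI : NeZero p := ⟨hp.out.ne_zero⟩
  AddCommGroup.zmodModule (n := p) (fun w => congrArg Additive.ofMul (hexp w.toMul))

variable [Module (ZMod p) (Additive V)]

/-- automorphisms as linear maps -/
def toLin : MulAut V →* (Additive V ≃ₗ[ZMod p] Additive V) where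
  toFun := fun α => (MulEquiv.toAdditive α).toLinearEquiv
      (fun c x => ZMod.map_smul (MulEquiv.toAdditive α) c x)
  map_one' := by ext w; rfl
  map_mul' := fun α β => by ext w; rfl

theorem toLin_apply (α : MulAut V) (v : V) :
    (toLin (p := p) α) (Additive.ofMul v) = Additive.ofMul (α v) := rfl

theorem toLin_injective : Function.Injective (toLin (p := p) (V := V)) := by
  intro α β h
  ext v
  have := LinearEquiv.congr_fun h (Additive.ofMul v)
  exact this

theorem natCast_smul_ofMul (k : ℕ) (v : V) :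
    ((k : ZMod p) • Additive.ofMul v : Additive V) = Additive.ofMul (v ^ k) := by
  rw [Nat.cast_smul_eq_nsmul]
  rfl

theorem intCast_smul_ofMul (k : ℤ) (v : V) :
    ((k : ZMod p) • Additive.ofMul v : Additive V) = Additive.ofMul (v ^ k) := by
  rw [Int.cast_smul_eq_zsmul]
  rfl

theorem smul_ofMul (a : ZMod p) (v : V) :
    (a • Additive.ofMul v : Additive V) = Additive.ofMul (v ^ a.val) := by
  have : NeZero p := ⟨hp.out.ne_zero⟩
  rw [← natCast_smul_ofMul (p := p), ZMod.natCast_zmod_val]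

end Bridge

section Aux

variable {p : ℕ} [hp : Fact p.Prime] [Finite V] [Module (ZMod p) (Additive V)]

theorem mem_zpowers_of_isTr_aux (hcard : Nat.card V = p ^ 2) {e₁ : V}
    (he₁ : e₁ ≠ 1) {τ₀ τ : MulAut V} (h0 : IsTr (Subgroup.zpowers e₁) τ₀) (hne : τ₀ ≠ 1)
    (h : IsTr (Subgroup.zpowers e₁) τ) : τ ∈ Subgroup.zpowers τ₀ := by
  have hcardW : Nat.card (Additive V) = p ^ 2 := hcard
  have hE₁ : (Additive.ofMul e₁ : Additive V) ≠ 0 := fun h => he₁ h
  obtain ⟨E₂, hb⟩ := exists_basisPair (p := p) hcardW hE₁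
  obtain ⟨e₂, rfl⟩ : ∃ e₂ : V, Additive.ofMul e₂ = E₂ := ⟨E₂.toMul, rfl⟩
  have hfix : ∀ σ : MulAut V, IsTr (Subgroup.zpowers e₁) σ →
      (toLin (p := p) σ) (Additive.ofMul e₁) = Additive.ofMul e₁ ∧
      ∃ c : ZMod p, (toLin (p := p) σ) (Additive.ofMul e₂) = Additive.ofMul e₂ + c • Additive.ofMul e₁ := by
    intro σ hσ
    refine ⟨?_, ?_⟩
    · rw [toLin_apply, hσ.1 e₁ (Subgroup.mem_zpowers e₁)]
    · obtain ⟨k, hk⟩ := Subgroup.mem_zpowers_iff.1 (hσ.2 e₂)
      refine ⟨(k : ZMod p), ?_⟩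
      rw [toLin_apply, intCast_smul_ofMul (p := p), hk, ← ofMul_mul, mul_inv_cancel_left]
  obtain ⟨h01, c, h02⟩ := hfix τ₀ h0
  obtain ⟨h1, s, h2⟩ := hfix τ h
  have hc : c ≠ 0 := by
    rintro rfl
    rw [zero_smul, add_zero] at h02
    apply hne
    apply toLin_injective (p := p)
    rw [map_one]
    exact hb.ext h01 h02
  obtain ⟨k, hk1, hk2⟩ := exists_pow_transv hc h01 h02 s
  refine Subgroup.mem_zpowers_iff.2 ⟨k, ?_⟩
  apply toLin_injective (p := p)
  rw [zpow_natCast, map_pow]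
  exact hb.ext (hk1.trans h1.symm) (hk2.trans h2.symm)

theorem exists_torus_mul_aux (hp2 : p ≠ 2) (hcard : Nat.card V = p ^ 2)
    {e₁ : V} (he₁ : e₁ ≠ 1) {u σ : MulAut V} (hu : IsTr (Subgroup.zpowers e₁) u) (hne : u ≠ 1)
    (hσ : σ e₁ ∉ Subgroup.zpowers e₁) :
    ∃ n ∈ Subgroup.closure ({u, σ * u * σ⁻¹} : Set (MulAut V)), n e₁ = e₁ ^ 2 ∧
      ∀ v : V, (v ^ ((p + 1) / 2))⁻¹ * n v ∈ Subgroup.zpowers e₁ := by
  have hNZ : NeZero p := ⟨hp.out.ne_zero⟩
  have hcardW : Nat.card (Additive V) = p ^ 2 := hcard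
  have hE₁ : (Additive.ofMul e₁ : Additive V) ≠ 0 := fun h => he₁ h
  have hb : BasisPair p (Additive.ofMul e₁ : Additive V) (Additive.ofMul (σ e₁)) := by
    apply basisPair_of_card hcardW hE₁
    intro a h
    apply hσ
    rw [smul_ofMul (p := p)] at h
    have h' : σ e₁ = e₁ ^ a.val := h
    rw [h']
    exact Subgroup.pow_mem _ (Subgroup.mem_zpowers e₁) _
  set l : MulAut V := σ * u * σ⁻¹ with hl
  have hlne : l ≠ 1 := by
    intro h
    apply hne
    have : u = σ⁻¹ * l * σ := by rw [hl]; group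
    rw [this, h]; group
  have hltr : IsTr (Subgroup.zpowers (σ e₁)) l := by
    have := hu.conj σ
    rwa [MonoidHom.map_zpowers] at this
  -- `u` in coordinates
  have hu1 : (toLin (p := p) u) (Additive.ofMul e₁) = Additive.ofMul e₁ := by
    rw [toLin_apply, hu.1 e₁ (Subgroup.mem_zpowers e₁)]
  obtain ⟨k₁, hk₁⟩ := Subgroup.mem_zpowers_iff.1 (hu.2 (σ e₁))
  have hu2 : (toLin (p := p) u) (Additive.ofMul (σ e₁)) =
      Additive.ofMul (σ e₁) + (k₁ : ZMod p) • Additive.ofMul e₁ := by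
    rw [toLin_apply, intCast_smul_ofMul (p := p), hk₁, ← ofMul_mul, mul_inv_cancel_left]
  have hc₁ : (k₁ : ZMod p) ≠ 0 := by
    intro h0
    rw [h0, zero_smul, add_zero] at hu2
    apply hne
    apply toLin_injective (p := p)
    rw [map_one]
    exact hb.ext hu1 hu2
  -- `l` in coordinates
  have hl2 : (toLin (p := p) l) (Additive.ofMul (σ e₁)) = Additive.ofMul (σ e₁) := by
    rw [toLin_apply, hltr.1 _ (Subgroup.mem_zpowers _)]
  obtain ⟨k₂, hk₂⟩ := Subgroup.mem_zpowers_iff.1 (hltr.2 e₁)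
  have hl1 : (toLin (p := p) l) (Additive.ofMul e₁) =
      Additive.ofMul e₁ + (k₂ : ZMod p) • Additive.ofMul (σ e₁) := by
    rw [toLin_apply, intCast_smul_ofMul (p := p), hk₂, ← ofMul_mul, mul_inv_cancel_left]
  have hc₂ : (k₂ : ZMod p) ≠ 0 := by
    intro h0
    rw [h0, zero_smul, add_zero] at hl1
    apply hlne
    apply toLin_injective (p := p)
    rw [map_one]
    exact hb.ext hl1 hl2
  obtain ⟨nl, hnl, hn1, hn2⟩ := exists_torus hb hp2
    ((Subgroup.closure ({u, l} : Set (MulAut V))).map (toLin (p := p)))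
    (Subgroup.mem_map_of_mem _ (Subgroup.subset_closure (Set.mem_insert u _)))
    (Subgroup.mem_map_of_mem _ (Subgroup.subset_closure (Set.mem_insert_of_mem u rfl)))
    hc₁ hc₂ hu1 hu2 hl2 hl1
  obtain ⟨n, hn, rfl⟩ := hnl
  refine ⟨n, hn, ?_, fun v => ?_⟩
  · have h2 : ((2 : ℕ) : ZMod p) = 2 := by norm_num
    rw [← h2, natCast_smul_ofMul (p := p), toLin_apply] at hn1
    exact hn1
  · have h2ne : (2 : ZMod p) ≠ 0 := by
      intro h
      have h3 : ((2 : ℕ) : ZMod p) = 0 := by exact_mod_cast h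
      rw [ZMod.natCast_eq_zero_iff] at h3
      have := Nat.le_of_dvd (by norm_num) h3
      have := hp.out.two_le
      omega
    have hm : (((p + 1) / 2 : ℕ) : ZMod p) = (2 : ZMod p)⁻¹ := by
      have hodd : p % 2 = 1 := by
        rcases hp.out.eq_two_or_odd with h | h
        · exact absurd h hp2
        · exact h
      have h3 : 2 * ((p + 1) / 2) = p + 1 := by omega
      have h4 : (2 : ZMod p) * (((p + 1) / 2 : ℕ) : ZMod p) = 1 := by
        have : ((2 * ((p + 1) / 2) : ℕ) : ZMod p) = ((p + 1 : ℕ) : ZMod p) := by rw [h3]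
        rw [Nat.cast_mul, Nat.cast_add, ZMod.natCast_self, zero_add] at this
        exact_mod_cast this
      exact eq_inv_of_mul_eq_one_right h4
    obtain ⟨a, b, hab⟩ := hb.span (Additive.ofMul v)
    obtain ⟨c, hc⟩ : ∃ c : ZMod p, c = (2 : ZMod p) * a - (2 : ZMod p)⁻¹ * a := ⟨_, rfl⟩
    have h5 : (toLin (p := p) n) (Additive.ofMul v) - (2 : ZMod p)⁻¹ • Additive.ofMul v =
        c • Additive.ofMul e₁ := by
      rw [hc, hab, map_add, map_smul, map_smul, hn1, hn2]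
      module
    rw [toLin_apply, ← hm, natCast_smul_ofMul (p := p), smul_ofMul (p := p)] at h5
    have h6 : n v / v ^ ((p + 1) / 2) = e₁ ^ c.val := h5
    rw [inv_mul_eq_div, h6]
    exact Subgroup.pow_mem _ (Subgroup.mem_zpowers e₁) _

end Aux

variable {p : ℕ} [hp : Fact p.Prime] [Finite V]

/-- the group of transvections with a given centre of order `p` is generated by any nontrivial element -/
theorem mem_zpowers_of_isTr (hcard : Nat.card V = p ^ 2) (hexp : ∀ v : V, v ^ p = 1) {e₁ : V}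
    (he₁ : e₁ ≠ 1) {τ₀ τ : MulAut V} (h0 : IsTr (Subgroup.zpowers e₁) τ₀) (hne : τ₀ ≠ 1)
    (h : IsTr (Subgroup.zpowers e₁) τ) : τ ∈ Subgroup.zpowers τ₀ := by
  letI := modOf hexp
  exact mem_zpowers_of_isTr_aux (p := p) hcard he₁ h0 hne h

/-- the torus element: in the group generated by a transvection `u` with centre `⟨e₁⟩` and a conjugate
`σ u σ⁻¹` with a different centre there is an element acting as `2` on `e₁` and as `1/2` modulo `e₁` -/
theorem exists_torus_mul (hp2 : p ≠ 2) (hcard : Nat.card V = p ^ 2) (hexp : ∀ v : V, v ^ p = 1)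
    {e₁ : V} (he₁ : e₁ ≠ 1) {u σ : MulAut V} (hu : IsTr (Subgroup.zpowers e₁) u) (hne : u ≠ 1)
    (hσ : σ e₁ ∉ Subgroup.zpowers e₁) :
    ∃ n ∈ Subgroup.closure ({u, σ * u * σ⁻¹} : Set (MulAut V)), n e₁ = e₁ ^ 2 ∧
      ∀ v : V, (v ^ ((p + 1) / 2))⁻¹ * n v ∈ Subgroup.zpowers e₁ := by
  letI := modOf hexp
  exact exists_torus_mul_aux (p := p) hp2 hcard he₁ hu hne hσ

end Cfsg.Agent.Helper73.RkTwoMul
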