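import Mathlib
import Cfsg.Agent.Lib.Helper73.RkTwoMul
import Cfsg.Agent.Lib.Helper87.Transv

/-! # a torus element in the normalizer of a non-normal Sylow subgroup of automorphisms acting on a
section of order `p²` -/

set_option autoImplicit false

namespace Cfsg.Agent.Helper73.RkTwoTorus

open Cfsg.Agent.Helper87 Cfsg.Agent.Helper73.RkTwoMul

variable {P : Type*} [Group P]

/-- the induced automorphism of `P ⧸ Y` -/
def quotAut (Y : Subgroup P) [Y.Normal] : presSub Y →* MulAut (P ⧸ Y) where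
  toFun α := QuotientGroup.congr Y Y (α : MulAut P) (by
    ext x
    constructor
    · rintro ⟨y, hy, rfl⟩
      exact (α.2 y).2 hy
    · intro hx
      refine ⟨(α : MulAut P)⁻¹ x, ?_, by simp⟩
      have := (α.2 ((α : MulAut P)⁻¹ x))
      rw [MulAut.apply_inv_self] at this
      exact this.1 hx)
  map_one' := by
    apply MulEquiv.ext
    intro v
    induction v using QuotientGroup.induction_on with | _ x => rfl
  map_mul' α β := by
    apply MulEquiv.ext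
    intro v
    induction v using QuotientGroup.induction_on with | _ x => rfl

theorem quotAut_mk (Y : Subgroup P) [Y.Normal] (α : presSub Y) (x : P) :
    quotAut Y α (x : P ⧸ Y) = (((α : MulAut P) x : P) : P ⧸ Y) := rfl

theorem exists_torus_elt [Finite P] {p : ℕ} [hp : Fact p.Prime] (hp2 : p ≠ 2) (hP : IsPGroup p P)
    (Y : Subgroup P) [hYn : Y.Normal] (Γ : Subgroup (MulAut P)) (R : Sylow p Γ)
    (hnn : ¬ (R : Subgroup Γ).Normal)
    (hYΓ : ∀ γ ∈ Γ, ∀ y ∈ Y, γ y ∈ Y)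
    (hYT : ∀ τ : Γ, τ ∈ R → ∀ y ∈ Y, (τ : MulAut P) y = y)
    (hidx : Y.index = p ^ 2) (hexp : ∀ a : P, a ^ p ∈ Y)
    (e₁ : P) (he₁ : e₁ ∉ Y) (hfix : ∀ τ : Γ, τ ∈ R → e₁⁻¹ * (τ : MulAut P) e₁ ∈ Y)
    (htriv : ∀ τ : Γ, τ ∈ R → ∀ v : P, ∃ k : ℤ, (e₁ ^ k)⁻¹ * (v⁻¹ * (τ : MulAut P) v) ∈ Y)
    (hnt : ∃ τ : Γ, τ ∈ R ∧ ∃ v : P, v⁻¹ * (τ : MulAut P) v ∉ Y) :
    ∃ ν : Γ, (∀ τ : Γ, τ ∈ R → ν * τ * ν⁻¹ ∈ R) ∧ (∀ y ∈ Y, (ν : MulAut P) y = y) ∧
      ∀ v : P, ∃ k : ℤ, (e₁ ^ k)⁻¹ * ((v ^ ((p + 1) / 2))⁻¹ * (ν : MulAut P) v) ∈ Y := by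
  classical
  have hΓpres : Γ ≤ presSub Y := fun γ hγ => mem_presSub_of_forall (hYΓ γ hγ)
  have hcardV : Nat.card (P ⧸ Y) = p ^ 2 := by rw [← Subgroup.index_eq_card, hidx]
  letI iC : CommGroup (P ⧸ Y) := { (inferInstance : Group (P ⧸ Y)) with
    mul_comm := (IsPGroup.isMulCommutative_of_card_eq_prime_sq hcardV).is_comm.comm }
  have hexpV : ∀ v : P ⧸ Y, v ^ p = 1 := by
    intro v
    induction v using QuotientGroup.induction_on with | _ a => ?_
    rw [← QuotientGroup.mk_pow]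
    exact (QuotientGroup.eq_one_iff _).2 (hexp a)
  set ρ : Γ →* MulAut (P ⧸ Y) := (quotAut Y).comp (Subgroup.inclusion hΓpres) with hρ
  have hρmk : ∀ (γ : Γ) (x : P), ρ γ (x : P ⧸ Y) = (((γ : MulAut P) x : P) : P ⧸ Y) :=
    fun γ x => rfl
  set ε : P ⧸ Y := (e₁ : P ⧸ Y) with hε
  have hε1 : ε ≠ 1 := fun h => he₁ ((QuotientGroup.eq_one_iff e₁).1 h)
  set E : Subgroup (P ⧸ Y) := Subgroup.zpowers ε with hE
  -- elements of `R` act as transvections
  have htr : ∀ τ : Γ, τ ∈ R → IsTr E (ρ τ) := by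
    intro τ hτ
    refine ⟨?_, ?_⟩
    · intro e he
      obtain ⟨k, rfl⟩ := Subgroup.mem_zpowers_iff.1 he
      rw [map_zpow]
      congr 1
      rw [hε, hρmk]
      exact (QuotientGroup.eq.2 (hfix τ hτ)).symm
    · intro v
      induction v using QuotientGroup.induction_on with | _ x => ?_
      obtain ⟨k, hk⟩ := htriv τ hτ x
      rw [hρmk, ← QuotientGroup.mk_inv, ← QuotientGroup.mk_mul]
      have : ((e₁ ^ k : P) : P ⧸ Y) = ((x⁻¹ * (τ : MulAut P) x : P) : P ⧸ Y) := QuotientGroup.eq.2 hk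
      rw [← this, QuotientGroup.mk_zpow]
      exact Subgroup.zpow_mem _ (Subgroup.mem_zpowers _) k
  -- the kernel
  let K : Subgroup Γ :=
    { carrier := {κ | (∀ y ∈ Y, (κ : MulAut P) y = y) ∧ ∀ x : P, x⁻¹ * (κ : MulAut P) x ∈ Y}
      one_mem' := ⟨fun y _ => rfl, fun x => by simp⟩
      mul_mem' := by
        rintro a b ⟨ha1, ha2⟩ ⟨hb1, hb2⟩
        refine ⟨fun y hy => ?_, fun x => ?_⟩
        · show (a : MulAut P) ((b : MulAut P) y) = y
          rw [hb1 y hy, ha1 y hy]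
        · show x⁻¹ * (a : MulAut P) ((b : MulAut P) x) ∈ Y
          have h1 := hb2 x
          have h2 := ha2 ((b : MulAut P) x)
          have : x⁻¹ * (a : MulAut P) ((b : MulAut P) x) =
              (x⁻¹ * (b : MulAut P) x) * (((b : MulAut P) x)⁻¹ * (a : MulAut P) ((b : MulAut P) x)) := by
            group
          rw [this]
          exact Y.mul_mem h1 h2
      inv_mem' := by
        rintro a ⟨ha1, ha2⟩
        refine ⟨fun y hy => ?_, fun x => ?_⟩
        · show (a : MulAut P)⁻¹ y = y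
          have h3 := ha1 y hy
          calc (a : MulAut P)⁻¹ y = (a : MulAut P)⁻¹ ((a : MulAut P) y) := by rw [h3]
            _ = y := MulAut.inv_apply_self _ _ _
        · show x⁻¹ * (a : MulAut P)⁻¹ x ∈ Y
          have h2 := ha2 ((a : MulAut P)⁻¹ x)
          rw [MulAut.apply_inv_self] at h2
          have : x⁻¹ * (a : MulAut P)⁻¹ x = (((a : MulAut P)⁻¹ x)⁻¹ * x)⁻¹ := by group
          rw [this]
          exact Y.inv_mem h2 }
  have hKmem : ∀ κ : Γ, κ ∈ K ↔ (∀ y ∈ Y, (κ : MulAut P) y = y) ∧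
      ∀ x : P, x⁻¹ * (κ : MulAut P) x ∈ Y := fun κ => Iff.rfl
  have hKn : K.Normal := by
    constructor
    rintro κ ⟨h1, h2⟩ γ
    refine ⟨fun y hy => ?_, fun x => ?_⟩
    · show (γ : MulAut P) ((κ : MulAut P) ((γ : MulAut P)⁻¹ y)) = y
      have hy' : (γ : MulAut P)⁻¹ y ∈ Y := hYΓ _ (Γ.inv_mem γ.2) y hy
      rw [h1 _ hy', MulAut.apply_inv_self]
    · show x⁻¹ * (γ : MulAut P) ((κ : MulAut P) ((γ : MulAut P)⁻¹ x)) ∈ Y
      have h3 := hYΓ _ γ.2 _ (h2 ((γ : MulAut P)⁻¹ x))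
      rw [map_mul, map_inv, MulAut.apply_inv_self] at h3
      exact h3
  have hKp : IsPGroup p K := by
    obtain ⟨a, ha⟩ := IsPGroup.iff_card.1 hP
    intro κ
    refine ⟨a * 2, ?_⟩
    apply Subtype.ext
    apply Subtype.ext
    have hκ := κ.2
    have hmem : ((κ : Γ) : MulAut P) ∈ chainStab (![⊥, Y, ⊤] : Fin 3 → Subgroup P) := by
      refine Subgroup.mem_iInf.2 (fun i => ?_)
      fin_cases i
      · refine mem_stepStab_of_forall (L := ⊥) (U := Y) ?_ ?_ ?_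
        · intro x hx
          rw [Subgroup.mem_bot] at hx ⊢
          rw [hx, map_one]
        · intro x hx
          rw [hκ.1 x hx]; exact hx
        · intro x hx
          rw [hκ.1 x hx, inv_mul_cancel]
          exact Subgroup.one_mem _
      · refine mem_stepStab_of_forall (L := Y) (U := ⊤) ?_ ?_ ?_
        · intro x hx
          exact hYΓ _ (κ : Γ).2 x hx
        · intro x _
          exact Subgroup.mem_top _
        · intro x _
          exact hκ.2 x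
    have := chainStab_pow_eq_one (N := (![⊥, Y, ⊤] : Fin 3 → Subgroup P)) rfl rfl hmem
    rw [ha, ← pow_mul] at this
    simpa using this
  have hKR : K ≤ R := normal_pGroup_le_sylow hKn hKp R
  -- a nontrivial element of `R`
  obtain ⟨τ₀, hτ₀, v₀, hv₀⟩ := hnt
  have hτ₀ne : ρ τ₀ ≠ 1 := by
    intro h
    apply hv₀
    have h1 := congrArg (fun f : MulAut (P ⧸ Y) => f (v₀ : P ⧸ Y)) h
    simp only [MulAut.one_apply] at h1
    rw [hρmk] at h1
    exact QuotientGroup.eq.1 h1.symm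
  -- conjugation lemma
  have hinner : ∀ β : Γ, E.map (ρ β).toMonoidHom = E → ∀ τ : Γ, τ ∈ R → β * τ * β⁻¹ ∈ R := by
    intro β hβ τ hτ
    have h1 : IsTr E (ρ β * ρ τ * (ρ β)⁻¹) := (htr τ hτ).conj_of_map_eq hβ
    have h2 := mem_zpowers_of_isTr hcardV hexpV hε1 (htr τ₀ hτ₀) hτ₀ne h1
    obtain ⟨k, hk⟩ := Subgroup.mem_zpowers_iff.1 h2
    have hκ : β * τ * β⁻¹ * (τ₀ ^ k)⁻¹ ∈ K := by
      refine ⟨fun y hy => ?_, fun x => ?_⟩
      · have hfixR : ∀ σ : Γ, σ ∈ (R : Subgroup Γ) → ∀ y ∈ Y, (σ : MulAut P) y = y := hYT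
        have h3 : ((τ₀ ^ k)⁻¹ : Γ) ∈ (R : Subgroup Γ) :=
          Subgroup.inv_mem _ (Subgroup.zpow_mem _ hτ₀ k)
        show (β : MulAut P) ((τ : MulAut P) ((β : MulAut P)⁻¹ ((((τ₀ ^ k)⁻¹ : Γ) : MulAut P) y))) = y
        rw [hfixR _ h3 y hy]
        have hy' : (β : MulAut P)⁻¹ y ∈ Y := hYΓ _ (Γ.inv_mem β.2) y hy
        rw [hYT τ hτ _ hy', MulAut.apply_inv_self]
      · have h4 : ρ (β * τ * β⁻¹ * (τ₀ ^ k)⁻¹) = 1 := by
          rw [map_mul, map_mul, map_mul, map_inv, map_inv, map_zpow, hk, mul_inv_cancel]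
        have h5 := congrArg (fun f : MulAut (P ⧸ Y) => f (x : P ⧸ Y)) h4
        simp only [MulAut.one_apply] at h5
        rw [hρmk] at h5
        exact QuotientGroup.eq.1 h5.symm
    have h6 := (R : Subgroup Γ).mul_mem (hKR hκ) (Subgroup.zpow_mem _ hτ₀ k)
    rwa [inv_mul_cancel_right] at h6
  -- `E` is moved by some element
  have hmapE : ∀ β : Γ, ρ β ε ∈ E → E.map (ρ β).toMonoidHom = E := by
    intro β hβ
    have hle : E.map (ρ β).toMonoidHom ≤ E := by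
      rw [hE, MonoidHom.map_zpowers, Subgroup.zpowers_le]
      exact hβ
    apply Subgroup.eq_of_le_of_card_ge hle
    have hinj : Function.Injective (ρ β).toMonoidHom := (ρ β).injective
    rw [Subgroup.card_map_of_injective hinj]
  obtain ⟨γ, hγ⟩ : ∃ γ : Γ, ρ γ ε ∉ E := by
    by_contra hall
    push Not at hall
    apply hnn
    constructor
    intro τ hτ γ
    exact hinner γ (hmapE γ (hall γ)) τ hτ
  obtain ⟨n, hn, hn1, hn2⟩ := exists_torus_mul hp2 hcardV hexpV hε1 (htr τ₀ hτ₀) hτ₀ne hγ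
  have hcl : Subgroup.closure ({ρ τ₀, ρ γ * ρ τ₀ * (ρ γ)⁻¹} : Set (MulAut (P ⧸ Y))) =
      (Subgroup.closure ({τ₀, γ * τ₀ * γ⁻¹} : Set Γ)).map ρ := by
    rw [MonoidHom.map_closure, Set.image_pair, map_mul, map_mul, map_inv]
  rw [hcl] at hn
  obtain ⟨ν, hν, rfl⟩ := hn
  -- `ν` fixes `Y` pointwise
  let FixY : Subgroup Γ :=
    { carrier := {κ | ∀ y ∈ Y, (κ : MulAut P) y = y}
      one_mem' := fun y _ => rfl
      mul_mem' := by
        intro a b ha hb y hy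
        show (a : MulAut P) ((b : MulAut P) y) = y
        rw [hb y hy, ha y hy]
      inv_mem' := by
        intro a ha y hy
        show (a : MulAut P)⁻¹ y = y
        have h3 := ha y hy
        calc (a : MulAut P)⁻¹ y = (a : MulAut P)⁻¹ ((a : MulAut P) y) := by rw [h3]
          _ = y := MulAut.inv_apply_self _ _ _ }
  have hνfix : ν ∈ FixY := by
    have hle : Subgroup.closure ({τ₀, γ * τ₀ * γ⁻¹} : Set Γ) ≤ FixY := by
      rw [Subgroup.closure_le]
      rintro x (rfl | rfl)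
      · exact hYT _ hτ₀
      · intro y hy
        show (γ : MulAut P) ((τ₀ : MulAut P) ((γ : MulAut P)⁻¹ y)) = y
        have hy' : (γ : MulAut P)⁻¹ y ∈ Y := hYΓ _ (Γ.inv_mem γ.2) y hy
        rw [hYT τ₀ hτ₀ _ hy', MulAut.apply_inv_self]
    exact hle hν
  refine ⟨ν, ?_, hνfix, ?_⟩
  · apply hinner ν
    apply hmapE
    rw [hn1]
    exact Subgroup.pow_mem _ (Subgroup.mem_zpowers _) _
  · intro v
    have h1 := hn2 (v : P ⧸ Y)
    obtain ⟨k, hk⟩ := Subgroup.mem_zpowers_iff.1 h1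
    refine ⟨k, ?_⟩
    rw [hρmk, hε, ← QuotientGroup.mk_pow, ← QuotientGroup.mk_inv, ← QuotientGroup.mk_mul,
      ← QuotientGroup.mk_zpow] at hk
    exact QuotientGroup.eq.1 hk

end Cfsg.Agent.Helper73.RkTwoTorus
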