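import Mathlib
import Cfsg.Prelude.Def_FusionSystem
import Cfsg.Agent.Lib.Helper73.RkTwoTorus
import Cfsg.Agent.Lib.Helper73.MetaAbelian
import Cfsg.Agent.Lib.Helper87.FusionNormal
import Cfsg.Agent.Lib.Helper87.AbChain
import Cfsg.Agent.Lib.Helper83.FusionRS

/-! # fusion-theoretic glue for the rank two resistance theorem -/

set_option autoImplicit false

namespace Cfsg.Agent.Helper73.RkTwoFus

open Cfsg Cfsg.FusionSystem Cfsg.Agent.Helper87 Cfsg.Agent.Helper83

variable {Ω : Type*} [Group Ω] {S : Subgroup Ω} {p : ℕ}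

/-- a proper fully normalized centric radical subgroup has a non-normal `Aut_S(P)` -/
theorem not_normal_of_radical [Fact p.Prime] [Finite S] (hS : IsPGroup p S) {F : FusionSystem S}
    (hF : F.IsSaturated p) {P : Subgroup Ω} (hfn : F.IsFullyNormalized P) (hcen : F.IsCentric P)
    (hrad : F.IsRadical p P) (hne : P ≠ S) :
    ¬ ∀ α ∈ F.autGroup P, ∀ τ ∈ autInducedBy S P, α * τ * α⁻¹ ∈ autInducedBy S P := by
  intro hall
  apply hne
  have hfa := fullyAutomized_of_fullyNormalized hS hF hfn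
  obtain ⟨-, R, hR⟩ := hfa
  apply eq_top_of_normal_sylow hS (fullyAutomized_of_fullyNormalized hS hF hfn) hcen hrad
  refine ⟨R, ⟨fun τ hτ α => ?_⟩⟩
  have h1 : τ ∈ (R : Subgroup (F.autGroup P)) := hτ
  rw [hR, Subgroup.mem_subgroupOf] at h1
  show α * τ * α⁻¹ ∈ (R : Subgroup (F.autGroup P))
  rw [hR, Subgroup.mem_subgroupOf]
  exact hall α α.2 τ h1

/-- the torus automorphism, extended to `N_S(P)` -/
theorem exists_torus_mor [hp : Fact p.Prime] [Finite S] (hp2 : p ≠ 2) (hS : IsPGroup p S)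
    {F : FusionSystem S} (hF : F.IsSaturated p) {P : Subgroup Ω} (hfn : F.IsFullyNormalized P)
    (hnn : ¬ ∀ α ∈ F.autGroup P, ∀ τ ∈ autInducedBy S P, α * τ * α⁻¹ ∈ autInducedBy S P)
    (Y : Subgroup Ω) (hYP : Y ≤ P) (hYn : ∀ x ∈ P, ∀ y ∈ Y, x * y * x⁻¹ ∈ Y)
    (hYinv : ∀ α : MulAut P, ∀ y : P, (y : Ω) ∈ Y → ((α y : P) : Ω) ∈ Y)
    (hYc : ∀ s ∈ normalizerIn S P, ∀ y ∈ Y, s * y * s⁻¹ = y)
    (hidx : Nat.card P = p ^ 2 * Nat.card Y)
    (hexp : ∀ a ∈ P, a ^ p ∈ Y)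
    (e₁ : Ω) (he₁P : e₁ ∈ P) (he₁ : e₁ ∉ Y)
    (hfix : ∀ s ∈ normalizerIn S P, e₁⁻¹ * (s * e₁ * s⁻¹) ∈ Y)
    (htriv : ∀ s ∈ normalizerIn S P, ∀ v ∈ P, ∃ k : ℤ, (e₁ ^ k)⁻¹ * (v⁻¹ * (s * v * s⁻¹)) ∈ Y)
    (hnt : ∃ s ∈ normalizerIn S P, ∃ v ∈ P, v⁻¹ * (s * v * s⁻¹) ∉ Y) :
    ∃ b : Ω → Ω, Mor F (normalizerIn S P) b ∧ Iso F P P b ∧ (∀ y ∈ Y, b y = y) ∧
      ∀ v ∈ P, ∃ k : ℤ, (e₁ ^ k)⁻¹ * ((v ^ ((p + 1) / 2))⁻¹ * b v) ∈ Y := by
  classical
  have hPS : P ≤ S := hfn.1
  have hfinP : Finite P := finite_of_le hPS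
  have hPp : IsPGroup p P := hS.to_le hPS
  obtain ⟨-, R, hR⟩ := fullyAutomized_of_fullyNormalized hS hF hfn
  have hRmem : ∀ τ : F.autGroup P, τ ∈ R ↔ (τ : MulAut P) ∈ autInducedBy S P := by
    intro τ
    have : τ ∈ R ↔ τ ∈ (R : Subgroup (F.autGroup P)) := Iff.rfl
    rw [this, hR, Subgroup.mem_subgroupOf]
  have hRs : ∀ τ : F.autGroup P, τ ∈ R → ∃ s ∈ normalizerIn S P,
      ∀ x : P, (((τ : MulAut P) x : P) : Ω) = s * (x : Ω) * s⁻¹ := by
    intro τ hτ
    obtain ⟨s, hsS, hsN, hs⟩ := mem_autInducedBy_iff'.1 ((hRmem τ).1 hτ)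
    exact ⟨s, ⟨hsS, hsN⟩, hs⟩
  have hnnR : ¬ (R : Subgroup (F.autGroup P)).Normal := by
    intro hn
    apply hnn
    intro α hα τ hτ
    have h1 : (⟨τ, autInducedBy_le_autGroup F hPS hτ⟩ : F.autGroup P) ∈ R :=
      (hRmem _).2 hτ
    have h2 := hn.conj_mem _ h1 ⟨α, hα⟩
    exact (hRmem _).1 h2
  let Y' : Subgroup P := Y.subgroupOf P
  have hY'n : Y'.Normal := by
    constructor
    intro y hy x
    rw [Subgroup.mem_subgroupOf] at hy ⊢
    exact hYn x x.2 y hy
  have hcardY' : Nat.card Y' = Nat.card Y :=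
    Nat.card_congr (Subgroup.subgroupOfEquivOfLe hYP).toEquiv
  have hidx' : Y'.index = p ^ 2 := by
    have h1 := Subgroup.card_mul_index Y'
    rw [hcardY', hidx] at h1
    have hfinY : Finite Y := finite_of_le (hYP.trans hPS)
    have hpos : 0 < Nat.card Y := Nat.card_pos
    have h2 : Nat.card Y * Y'.index = Nat.card Y * p ^ 2 := by rw [h1]; ring
    exact Nat.eq_of_mul_eq_mul_left hpos h2
  obtain ⟨ν, hν1, hν2, hν3⟩ := Cfsg.Agent.Helper73.RkTwoTorus.exists_torus_elt hp2 hPp Y'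
    (F.autGroup P) R hnnR
    (fun γ _ y hy => by
      rw [Subgroup.mem_subgroupOf] at hy ⊢
      exact hYinv γ y hy)
    (fun τ hτ y hy => by
      obtain ⟨s, hs, e⟩ := hRs τ hτ
      apply Subtype.ext
      rw [e y]
      exact hYc s hs y (Subgroup.mem_subgroupOf.1 hy))
    hidx'
    (fun a => by
      rw [Subgroup.mem_subgroupOf]
      exact hexp a a.2)
    ⟨e₁, he₁P⟩
    (fun h => he₁ (Subgroup.mem_subgroupOf.1 h))
    (fun τ hτ => by
      obtain ⟨s, hs, e⟩ := hRs τ hτ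
      rw [Subgroup.mem_subgroupOf]
      show (e₁)⁻¹ * (((τ : MulAut P) ⟨e₁, he₁P⟩ : P) : Ω) ∈ Y
      rw [e]
      exact hfix s hs)
    (fun τ hτ v => by
      obtain ⟨s, hs, e⟩ := hRs τ hτ
      obtain ⟨k, hk⟩ := htriv s hs v v.2
      refine ⟨k, ?_⟩
      rw [Subgroup.mem_subgroupOf]
      show (e₁ ^ k)⁻¹ * ((v : Ω)⁻¹ * (((τ : MulAut P) v : P) : Ω)) ∈ Y
      rw [e]
      exact hk)
    (by
      obtain ⟨s, hs, v, hv, hsv⟩ := hnt
      have hτ : conjAut P s hs.2 ∈ autInducedBy S P := conjAut_mem_autInducedBy hs.1 hs.2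
      refine ⟨⟨conjAut P s hs.2, autInducedBy_le_autGroup F hPS hτ⟩, (hRmem _).2 hτ, ⟨v, hv⟩, ?_⟩
      intro h
      apply hsv
      exact Subgroup.mem_subgroupOf.1 h)
  have hrec := receptive_of_fullyNormalized hS hF hfn
  have hnorm : ∀ τ ∈ autInducedBy S P, (ν : MulAut P) * τ * (ν : MulAut P)⁻¹ ∈ autInducedBy S P := by
    intro τ hτ
    have h1 : (⟨τ, autInducedBy_le_autGroup F hPS hτ⟩ : F.autGroup P) ∈ R := (hRmem _).2 hτ
    exact (hRmem _).1 (hν1 _ h1)
  obtain ⟨b, hb, eb⟩ := exists_aut_extension hrec ν.2 hnorm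
  have hmor : Mor F P (extAut (ν : MulAut P)) := (mem_autGroup_iff hPS).1 ν.2
  have hiso : Iso F P P (extAut (ν : MulAut P)) := iso_of_mor_extAut hmor
  refine ⟨b, hb, hiso.congr (fun x hx => (eb x hx).symm), fun y hy => ?_, fun v hv => ?_⟩
  · rw [eb y (hYP hy), extAut_mem _ (hYP hy)]
    have := hν2 ⟨y, hYP hy⟩ (Subgroup.mem_subgroupOf.2 hy)
    rw [this]
  · obtain ⟨k, hk⟩ := hν3 ⟨v, hv⟩
    refine ⟨k, ?_⟩
    rw [eb v hv, extAut_mem _ hv]
    exact Subgroup.mem_subgroupOf.1 hk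

/-- an abelian subgroup with a cyclic subgroup of index at most `p`, not elementary abelian of order `p²`,
is not a proper fully normalized centric radical subgroup -/
theorem eq_top_of_abelian_of_cyclic_index [hp : Fact p.Prime] [Finite S] (hS : IsPGroup p S)
    {F : FusionSystem S} (hF : F.IsSaturated p) {P : Subgroup Ω} (hfn : F.IsFullyNormalized P)
    (hcen : F.IsCentric P) (hrad : F.IsRadical p P)
    (hab : ∀ a ∈ P, ∀ b ∈ P, a * b = b * a) (c : Ω) (hc : c ∈ P)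
    (hcard : Nat.card P ≤ p * orderOf c)
    (hne : ¬ (Nat.card P = p ^ 2 ∧ ∀ a ∈ P, a ^ p = 1)) : P = S := by
  classical
  have hPS : P ≤ S := hfn.1
  have hfinP : Finite P := finite_of_le hPS
  have hPp : IsPGroup p P := hS.to_le hPS
  have hab' : ∀ a b : P, a * b = b * a := fun a b => Subtype.ext (hab a a.2 b b.2)
  letI iC : CommGroup P := { (inferInstance : Group P) with mul_comm := hab' }
  have hp1 := hp.out.one_lt
  have hordc : orderOf (⟨c, hc⟩ : P) = orderOf c := by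
    rw [← Subgroup.orderOf_coe]
  have hdist : ¬ ∃ (n : ℕ) (H : Type) (_ : CommGroup H), 0 < n ∧
      Nonempty (P ≃* (Multiplicative (ZMod (p ^ n)) × Multiplicative (ZMod (p ^ n))) × H) := by
    rintro ⟨n, H, hH, hn, ⟨e⟩⟩
    -- `P` is metacyclic
    have hm : Cfsg.IsMetacyclic P := by
      have hN : (Subgroup.zpowers (⟨c, hc⟩ : P)).Normal := inferInstance
      refine ⟨Subgroup.zpowers (⟨c, hc⟩ : P), hN, inferInstance, ?_⟩
      have h1 := Subgroup.card_mul_index (Subgroup.zpowers (⟨c, hc⟩ : P))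
      rw [Nat.card_zpowers, hordc] at h1
      have hpos : 0 < orderOf c := by rw [← hordc]; exact orderOf_pos _
      have hidx : (Subgroup.zpowers (⟨c, hc⟩ : P)).index ≤ p := by
        by_contra hlt
        push Not at hlt
        nlinarith
      have hdvd : (Subgroup.zpowers (⟨c, hc⟩ : P)).index ∣ Nat.card P := Subgroup.index_dvd_card _
      obtain ⟨a, ha⟩ := IsPGroup.iff_card.1 hPp
      rw [ha] at hdvd
      obtain ⟨j, -, hj⟩ := (Nat.dvd_prime_pow hp.out).1 hdvd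
      have hcq : Nat.card (P ⧸ Subgroup.zpowers (⟨c, hc⟩ : P)) =
          (Subgroup.zpowers (⟨c, hc⟩ : P)).index := (Subgroup.index_eq_card _).symm
      rcases Nat.lt_or_ge j 1 with hj0 | hj1
      · have hj00 : j = 0 := by omega
        rw [hj00, pow_zero] at hj
        rw [hj] at hcq
        have : Subsingleton (P ⧸ Subgroup.zpowers (⟨c, hc⟩ : P)) :=
          (Nat.card_eq_one_iff_unique.1 hcq).1
        exact isCyclic_of_subsingleton
      · have hj11 : j = 1 := by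
          by_contra hj2
          have : p ^ 2 ≤ p ^ j := Nat.pow_le_pow_right hp.out.pos (by omega)
          rw [← hj] at this
          nlinarith
        rw [hj11, pow_one] at hj
        rw [hj] at hcq
        exact isCyclic_of_prime_card hcq
    have hH1 := Cfsg.Agent.Helper73.MetaAb.card_eq_one_of_metacyclic_prod hPp hab' hm n hn H e
    have hsub : Subsingleton H := (Nat.card_eq_one_iff_unique.1 hH1).1
    have hNZ : NeZero (p ^ n) := ⟨pow_ne_zero _ hp.out.ne_zero⟩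
    have hcardZ : Nat.card (Multiplicative (ZMod (p ^ n))) = p ^ n := by
      rw [Nat.card_eq_fintype_card, Fintype.card_multiplicative, ZMod.card]
    have hcardP : Nat.card P = p ^ n * p ^ n := by
      rw [Nat.card_congr e.toEquiv, Nat.card_prod, Nat.card_prod, hcardZ, hH1, mul_one]
    have hpow : ∀ a : P, a ^ p ^ n = 1 := by
      intro a
      apply e.injective
      rw [map_pow, map_one]
      apply Prod.ext
      · apply Prod.ext
        · show ((e a).1.1) ^ p ^ n = 1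
          have := pow_card_eq_one' (G := Multiplicative (ZMod (p ^ n))) (x := (e a).1.1)
          rwa [hcardZ] at this
        · show ((e a).1.2) ^ p ^ n = 1
          have := pow_card_eq_one' (G := Multiplicative (ZMod (p ^ n))) (x := (e a).1.2)
          rwa [hcardZ] at this
      · exact Subsingleton.elim _ _
    have hdvd : orderOf c ∣ p ^ n := by
      rw [← hordc]
      exact orderOf_dvd_of_pow_eq_one (hpow _)
    have hle : orderOf c ≤ p ^ n := Nat.le_of_dvd (pow_pos hp.out.pos _) hdvd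
    have h3 : p ^ n * p ^ n ≤ p * p ^ n := by
      rw [← hcardP]
      exact hcard.trans (Nat.mul_le_mul_left _ hle)
    have h4 : p ^ n ≤ p := Nat.le_of_mul_le_mul_right h3 (pow_pos hp.out.pos _)
    have hn1 : n = 1 := by
      by_contra hn2
      have : p ^ 2 ≤ p ^ n := Nat.pow_le_pow_right hp.out.pos (by omega)
      nlinarith
    subst hn1
    apply hne
    refine ⟨by rw [hcardP]; ring, fun a ha => ?_⟩
    have := hpow ⟨a, ha⟩
    rw [pow_one] at this
    exact congrArg Subtype.val this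
  obtain ⟨m, N, hN0, hNlast, hNchar, hNstep⟩ := exists_char_chain_of_distinct hPp hdist
  apply eq_top_of_normal_sylow hS (fullyAutomized_of_fullyNormalized hS hF hfn) hcen hrad
  have hnorm : ∀ i, (N i).Normal := fun i => inferInstance
  have hcyc : ∀ i : Fin m, CyclicStep (N i.castSucc) (N i.succ) := by
    intro i
    obtain ⟨hle, x₀, hx₀⟩ := hNstep i
    refine ⟨x₀, ?_, fun x hx => ?_⟩
    · rw [hx₀]; exact Subgroup.mem_sup_right (Subgroup.mem_zpowers x₀)
    · rw [hx₀, Subgroup.mem_sup] at hx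
      obtain ⟨y, hy, z, hz, rfl⟩ := hx
      obtain ⟨k, rfl⟩ := Subgroup.mem_zpowers_iff.1 hz
      refine ⟨k, ?_⟩
      rw [mul_comm y, inv_mul_cancel_left]
      exact hy
  have hA : F.autGroup P ≤ chainPres N := by
    intro α _
    refine Subgroup.mem_iInf.2 (fun i => mem_presSub_of_forall (fun x hx => ?_))
    exact (hNchar i).apply_mem α hx
  exact ⟨default, sylow_normal_of_chain hPp hN0 hNlast hnorm hcyc (F.autGroup P) hA default⟩

/-- if `Aut_S(Q)` is normal in `Aut_F(Q)` for a fully normalized `Q`, automorphisms of `Q` in the system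
extend to `N_S(Q)` -/
theorem exists_extension_of_normal [Fact p.Prime] [Finite S] (hS : IsPGroup p S)
    {F : FusionSystem S} (hF : F.IsSaturated p) {Q : Subgroup Ω} (hfn : F.IsFullyNormalized Q)
    (hall : ∀ α ∈ F.autGroup Q, ∀ τ ∈ autInducedBy S Q, α * τ * α⁻¹ ∈ autInducedBy S Q)
    {b : Ω → Ω} (hb : Iso F Q Q b) :
    ∃ f : Ω → Ω, Mor F (normalizerIn S Q) f ∧ ∀ x ∈ Q, f x = b x := by
  have hrec := receptive_of_fullyNormalized hS hF hfn
  have hα : hb.equiv ∈ F.autGroup Q := hb.equiv_mem_autGroup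
  obtain ⟨f, hf, ef⟩ := exists_aut_extension hrec hα (hall _ hα)
  refine ⟨f, hf, fun x hx => ?_⟩
  rw [ef x hx, extAut_equiv hb hx]

end Cfsg.Agent.Helper73.RkTwoFus
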