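import Mathlib

/-! # Structure of the groups `G(p, n; s)` of Blackburn's classification -/

set_option autoImplicit false

namespace Cfsg.Agent.Helper73.RkTwoG

variable {Ω : Type*} [Group Ω]

/-- the defining data of `G(p, n; s)` inside an ambient group -/
structure GData (p n s : ℕ) (S : Subgroup Ω) (x y z : Ω) : Prop where
  hn : 4 ≤ n
  card : Nat.card S = p ^ n
  gen : Subgroup.closure ({x, y, z} : Set Ω) = S
  xp : x ^ p = 1
  yp : y ^ p = 1
  zp : z ^ p ^ (n - 2) = 1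
  yz : y * z = z * y
  xy : x⁻¹ * y * x = y * z ^ (s * p ^ (n - 3))
  xz : x⁻¹ * z * x = y * z
  hs : ¬ p ∣ s

/-- the abelian maximal subgroup -/
def subA (y z : Ω) : Subgroup Ω := Subgroup.closure ({y, z} : Set Ω)

/-- the Frattini subgroup -/
def subPhi (p : ℕ) (y z : Ω) : Subgroup Ω := Subgroup.closure ({y, z ^ p} : Set Ω)

/-- `g ∈ x^i A` -/
def InCoset (x y z : Ω) (i : ℕ) (g : Ω) : Prop := ∃ a ∈ subA y z, g = x ^ i * a

namespace GData

variable {p n s : ℕ} [hp : Fact p.Prime] {S : Subgroup Ω} {x y z : Ω}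

local notation "W" => z ^ (s * p ^ (n - 3))

section Basic

variable (h : GData p n s S x y z)
include h

theorem pow_split : p ^ (n - 3) * p = p ^ (n - 2) := by
  have := h.hn
  rw [← pow_succ]
  congr 1
  omega

theorem pow_split' : p ^ (n - 2) = p * p ^ (n - 3) := by
  rw [← h.pow_split, mul_comm]

theorem p_dvd_K : p ∣ s * p ^ (n - 3) := by
  have := h.hn
  exact Dvd.dvd.mul_left (dvd_pow_self p (by omega)) s

theorem w_pow : W ^ p = 1 := by
  rw [← pow_mul, mul_assoc, h.pow_split, mul_comm, pow_mul, h.zp, one_pow]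

theorem y_pow_of_dvd {k : ℕ} (hk : p ∣ k) : y ^ k = 1 := by
  obtain ⟨m, rfl⟩ := hk
  rw [pow_mul, h.yp, one_pow]

theorem w_pow_of_dvd {k : ℕ} (hk : p ∣ k) : W ^ k = 1 := by
  obtain ⟨m, rfl⟩ := hk
  rw [pow_mul, h.w_pow, one_pow]

theorem comm_yz : Commute y z := h.yz

theorem comm_y_zpow (k : ℕ) : Commute y (z ^ k) := h.comm_yz.pow_right k

theorem comm_ypow_zpow (j k : ℕ) : Commute (y ^ j) (z ^ k) := (h.comm_yz.pow_right k).pow_left j

theorem conj_zpow (k : ℕ) : x⁻¹ * z ^ k * x = y ^ k * z ^ k := by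
  have h1 : x⁻¹ * z ^ k * x = (x⁻¹ * z * x) ^ k := by
    induction k with
    | zero => simp
    | succ k ih =>
      rw [pow_succ, pow_succ, ← ih]; group
  rw [h1, h.xz, h.comm_yz.mul_pow]

theorem conj_w : x⁻¹ * W * x = W := by
  rw [h.conj_zpow, h.y_pow_of_dvd h.p_dvd_K, one_mul]

theorem conj_zp : x⁻¹ * z ^ p * x = z ^ p := by
  rw [h.conj_zpow, h.yp, one_mul]

theorem conj_wpow (k : ℕ) : x⁻¹ * W ^ k * x = W ^ k := by
  have h1 : x⁻¹ * W ^ k * x = (x⁻¹ * W * x) ^ k := by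
    induction k with
    | zero => simp
    | succ k ih =>
      rw [pow_succ, pow_succ, ← ih]; group
  rw [h1, h.conj_w]

theorem conj_ypow (j : ℕ) : x⁻¹ * y ^ j * x = y ^ j * W ^ j := by
  have h1 : x⁻¹ * y ^ j * x = (x⁻¹ * y * x) ^ j := by
    induction j with
    | zero => simp
    | succ k ih =>
      rw [pow_succ, pow_succ, ← ih]; group
  rw [h1, h.xy, (h.comm_y_zpow _).mul_pow]

/-- conjugating `y^j z^k` by `x` -/
theorem conj_x (j k : ℕ) : x⁻¹ * (y ^ j * z ^ k) * x = y ^ (j + k) * z ^ k * W ^ j := by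
  have h1 : x⁻¹ * (y ^ j * z ^ k) * x = (x⁻¹ * y ^ j * x) * (x⁻¹ * z ^ k * x) := by group
  rw [h1, h.conj_ypow, h.conj_zpow, pow_add]
  have c1 : Commute (W ^ j) (y ^ k) := ((h.comm_ypow_zpow k _).pow_right j).symm
  have c2 : Commute (W ^ j) (z ^ k) := ((Commute.refl z).pow_left _ |>.pow_right k).pow_left j
  calc y ^ j * W ^ j * (y ^ k * z ^ k) = y ^ j * (W ^ j * y ^ k) * z ^ k := by group
    _ = y ^ j * (y ^ k * W ^ j) * z ^ k := by rw [c1.eq]
    _ = y ^ j * y ^ k * (W ^ j * z ^ k) := by group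
    _ = y ^ j * y ^ k * (z ^ k * W ^ j) := by rw [c2.eq]
    _ = y ^ j * y ^ k * z ^ k * W ^ j := by group

/-- iterated conjugation: there is `t` (depending on `i` only) with
`x^{-i} (y^j z^k) x^i = y^(j + i k) z^k w^(i j + t k)` -/
theorem conj_xpow (i : ℕ) : ∃ t : ℕ, ∀ j k : ℕ,
    (x ^ i)⁻¹ * (y ^ j * z ^ k) * x ^ i = y ^ (j + i * k) * z ^ k * W ^ (i * j + t * k) := by
  induction i with
  | zero => exact ⟨0, fun j k => by simp⟩
  | succ i ih =>
    obtain ⟨t, ht⟩ := ih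
    refine ⟨t + i, fun j k => ?_⟩
    have h1 : (x ^ (i + 1))⁻¹ * (y ^ j * z ^ k) * x ^ (i + 1) =
        x⁻¹ * ((x ^ i)⁻¹ * (y ^ j * z ^ k) * x ^ i) * x := by
      rw [pow_succ]; group
    rw [h1, ht]
    have h2 : x⁻¹ * (y ^ (j + i * k) * z ^ k * W ^ (i * j + t * k)) * x =
        (x⁻¹ * (y ^ (j + i * k) * z ^ k) * x) * (x⁻¹ * W ^ (i * j + t * k) * x) := by group
    rw [h2, h.conj_x, h.conj_wpow, mul_assoc, ← pow_add]
    congr 2
    · ring
    · ring

omit hp h in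
theorem y_mem_subA : y ∈ subA y z := by
  unfold subA
  exact Subgroup.subset_closure (Set.mem_insert y _)

omit hp h in
theorem z_mem_subA : z ∈ subA y z := by
  unfold subA
  exact Subgroup.subset_closure (Set.mem_insert_of_mem y rfl)

omit hp h in
theorem mem_subA_of (j k : ℕ) : y ^ j * z ^ k ∈ subA y z :=
  (subA y z).mul_mem ((subA y z).pow_mem y_mem_subA j) ((subA y z).pow_mem z_mem_subA k)

omit hp h in
theorem w_mem_subA : W ∈ subA y z := (subA y z).pow_mem z_mem_subA _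

theorem inv_ypow (j : ℕ) : (y ^ j)⁻¹ = y ^ ((p - 1) * j) := by
  rw [inv_eq_iff_mul_eq_one, ← pow_add]
  have : j + (p - 1) * j = p * j := by
    have := hp.out.pos
    obtain ⟨q, hq⟩ : ∃ q, p = q + 1 := ⟨p - 1, by omega⟩
    rw [hq]; simp; ring
  rw [this, pow_mul, h.yp, one_pow]

theorem inv_zpow (k : ℕ) : (z ^ k)⁻¹ = z ^ ((p ^ (n - 2) - 1) * k) := by
  rw [inv_eq_iff_mul_eq_one, ← pow_add]
  have : k + (p ^ (n - 2) - 1) * k = p ^ (n - 2) * k := by
    have := pow_pos hp.out.pos (n - 2)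
    obtain ⟨q, hq⟩ : ∃ q, p ^ (n - 2) = q + 1 := ⟨p ^ (n - 2) - 1, by omega⟩
    rw [hq]; simp; ring
  rw [this, pow_mul, h.zp, one_pow]

theorem mem_subA_iff {a : Ω} : a ∈ subA y z ↔ ∃ j k : ℕ, a = y ^ j * z ^ k := by
  constructor
  · intro ha
    unfold subA at ha
    induction ha using Subgroup.closure_induction with
    | mem a ha =>
      rcases ha with rfl | rfl
      · exact ⟨1, 0, by simp⟩
      · exact ⟨0, 1, by simp⟩
    | one => exact ⟨0, 0, by simp⟩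
    | mul a b _ _ ha hb =>
      obtain ⟨j, k, rfl⟩ := ha
      obtain ⟨j', k', rfl⟩ := hb
      refine ⟨j + j', k + k', ?_⟩
      rw [pow_add, pow_add]
      have c := (h.comm_ypow_zpow j' k).symm
      calc y ^ j * z ^ k * (y ^ j' * z ^ k') = y ^ j * (z ^ k * y ^ j') * z ^ k' := by group
        _ = y ^ j * (y ^ j' * z ^ k) * z ^ k' := by rw [c.eq]
        _ = y ^ j * y ^ j' * (z ^ k * z ^ k') := by group
    | inv a _ ha =>
      obtain ⟨j, k, rfl⟩ := ha
      refine ⟨(p - 1) * j, (p ^ (n - 2) - 1) * k, ?_⟩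
      rw [mul_inv_rev, h.inv_ypow, h.inv_zpow]
      exact ((h.comm_ypow_zpow _ _).symm).eq
  · rintro ⟨j, k, rfl⟩
    exact mem_subA_of j k

theorem subA_comm {a b : Ω} (ha : a ∈ subA y z) (hb : b ∈ subA y z) : a * b = b * a := by
  obtain ⟨j, k, rfl⟩ := h.mem_subA_iff.1 ha
  obtain ⟨j', k', rfl⟩ := h.mem_subA_iff.1 hb
  have c1 := (h.comm_ypow_zpow j' k).symm
  have c2 := (h.comm_ypow_zpow j k').symm
  calc y ^ j * z ^ k * (y ^ j' * z ^ k') = y ^ j * (z ^ k * y ^ j') * z ^ k' := by group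
    _ = y ^ j * (y ^ j' * z ^ k) * z ^ k' := by rw [c1.eq]
    _ = (y ^ j * y ^ j') * (z ^ k * z ^ k') := by group
    _ = (y ^ j' * y ^ j) * (z ^ k' * z ^ k) := by
      rw [← pow_add, ← pow_add, ← pow_add, ← pow_add, add_comm j, add_comm k]
    _ = y ^ j' * (y ^ j * z ^ k') * z ^ k := by group
    _ = y ^ j' * (z ^ k' * y ^ j) * z ^ k := by rw [c2.eq]
    _ = y ^ j' * z ^ k' * (y ^ j * z ^ k) := by group

theorem conj_xpow_mem (i : ℕ) {a : Ω} (ha : a ∈ subA y z) : (x ^ i)⁻¹ * a * x ^ i ∈ subA y z := by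
  obtain ⟨j, k, rfl⟩ := h.mem_subA_iff.1 ha
  obtain ⟨t, ht⟩ := h.conj_xpow i
  rw [ht]
  exact (subA y z).mul_mem (mem_subA_of _ _) ((subA y z).pow_mem w_mem_subA _)

theorem inv_xpow (i : ℕ) : (x ^ i)⁻¹ = x ^ ((p - 1) * i) := by
  rw [inv_eq_iff_mul_eq_one, ← pow_add]
  have : i + (p - 1) * i = p * i := by
    have := hp.out.pos
    obtain ⟨q, hq⟩ : ∃ q, p = q + 1 := ⟨p - 1, by omega⟩
    rw [hq]; simp; ring
  rw [this, pow_mul, h.xp, one_pow]

theorem conj_xpow_mem' (i : ℕ) {a : Ω} (ha : a ∈ subA y z) : x ^ i * a * (x ^ i)⁻¹ ∈ subA y z := by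
  have h1 := h.conj_xpow_mem ((p - 1) * i) ha
  rw [← h.inv_xpow, inv_inv] at h1
  exact h1

end Basic

end GData

end Cfsg.Agent.Helper73.RkTwoG
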