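import Mathlib
import Cfsg.Agent.Lib.Helper73.RkTwoG

/-! # Structure of `G(p, n; s)`: cosets of the abelian maximal subgroup, normal forms -/

set_option autoImplicit false

namespace Cfsg.Agent.Helper73.RkTwoG

namespace GData

variable {Ω : Type*} [Group Ω] {p n s : ℕ} [hp : Fact p.Prime] {S : Subgroup Ω} {x y z : Ω}

local notation "W" => z ^ (s * p ^ (n - 3))

variable (h : GData p n s S x y z)
include h

theorem inCoset_mul {i i' : ℕ} {g g' : Ω} (hg : InCoset x y z i g) (hg' : InCoset x y z i' g') :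
    InCoset x y z (i + i') (g * g') := by
  obtain ⟨a, ha, rfl⟩ := hg
  obtain ⟨b, hb, rfl⟩ := hg'
  refine ⟨(x ^ i')⁻¹ * a * x ^ i' * b, (subA y z).mul_mem (h.conj_xpow_mem i' ha) hb, ?_⟩
  rw [pow_add]; group

theorem inCoset_inv {i : ℕ} {g : Ω} (hg : InCoset x y z i g) :
    InCoset x y z ((p - 1) * i) g⁻¹ := by
  obtain ⟨a, ha, rfl⟩ := hg
  refine ⟨x ^ i * a⁻¹ * (x ^ i)⁻¹, h.conj_xpow_mem' i ((subA y z).inv_mem ha), ?_⟩
  rw [← h.inv_xpow]; group

omit hp h in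
theorem inCoset_one : InCoset x y z 0 (1 : Ω) := ⟨1, (subA y z).one_mem, by simp⟩

theorem inCoset_pow {i : ℕ} {g : Ω} (hg : InCoset x y z i g) (m : ℕ) :
    InCoset x y z (i * m) (g ^ m) := by
  induction m with
  | zero => simpa using inCoset_one
  | succ m ih =>
    rw [pow_succ, Nat.mul_succ]
    exact h.inCoset_mul ih hg

theorem inCoset_congr {i i' : ℕ} {g : Ω} (hg : InCoset x y z i g) (hii : i % p = i' % p) :
    InCoset x y z i' g := by
  obtain ⟨a, ha, rfl⟩ := hg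
  refine ⟨a, ha, ?_⟩
  rw [pow_eq_pow_mod i h.xp, pow_eq_pow_mod i' h.xp, hii]

omit hp h in
theorem inCoset_of_mem_subA {a : Ω} (ha : a ∈ subA y z) : InCoset x y z 0 a :=
  ⟨a, ha, by simp⟩

theorem subA_le : subA y z ≤ S := by
  rw [← h.gen]
  unfold subA
  apply Subgroup.closure_mono
  intro a ha
  exact Set.mem_insert_of_mem x ha

theorem x_mem : x ∈ S := by
  rw [← h.gen]; exact Subgroup.subset_closure (Set.mem_insert x _)

theorem y_mem : y ∈ S := h.subA_le y_mem_subA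

theorem z_mem : z ∈ S := h.subA_le z_mem_subA

theorem mem_iff_inCoset {g : Ω} : g ∈ S ↔ ∃ i : ℕ, InCoset x y z i g := by
  constructor
  · intro hg
    rw [← h.gen] at hg
    induction hg using Subgroup.closure_induction with
    | mem a ha =>
      rcases ha with rfl | rfl | rfl
      · exact ⟨1, 1, (subA y z).one_mem, by simp⟩
      · exact ⟨0, inCoset_of_mem_subA y_mem_subA⟩
      · exact ⟨0, inCoset_of_mem_subA z_mem_subA⟩
    | one => exact ⟨0, inCoset_one⟩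
    | mul a b _ _ ha hb =>
      obtain ⟨i, hi⟩ := ha
      obtain ⟨i', hi'⟩ := hb
      exact ⟨_, h.inCoset_mul hi hi'⟩
    | inv a _ ha =>
      obtain ⟨i, hi⟩ := ha
      exact ⟨_, h.inCoset_inv hi⟩
  · rintro ⟨i, a, ha, rfl⟩
    exact S.mul_mem (S.pow_mem h.x_mem i) (h.subA_le ha)

theorem finite : Finite S := by
  apply Nat.finite_of_card_ne_zero
  rw [h.card]
  exact pow_ne_zero _ hp.out.ne_zero

/-- the normal form -/
theorem exists_nf {g : Ω} (hg : g ∈ S) :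
    ∃ i j k : ℕ, i < p ∧ j < p ∧ k < p ^ (n - 2) ∧ g = x ^ i * (y ^ j * z ^ k) := by
  obtain ⟨i, a, ha, rfl⟩ := h.mem_iff_inCoset.1 hg
  obtain ⟨j, k, rfl⟩ := h.mem_subA_iff.1 ha
  refine ⟨i % p, j % p, k % p ^ (n - 2), Nat.mod_lt _ hp.out.pos, Nat.mod_lt _ hp.out.pos,
    Nat.mod_lt _ (pow_pos hp.out.pos _), ?_⟩
  rw [← pow_eq_pow_mod i h.xp, ← pow_eq_pow_mod j h.yp, ← pow_eq_pow_mod k h.zp]

theorem nf_injective {i j k i' j' k' : ℕ} (hi : i < p) (hj : j < p) (hk : k < p ^ (n - 2))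
    (hi' : i' < p) (hj' : j' < p) (hk' : k' < p ^ (n - 2))
    (heq : x ^ i * (y ^ j * z ^ k) = x ^ i' * (y ^ j' * z ^ k')) : i = i' ∧ j = j' ∧ k = k' := by
  have hfin := h.finite
  let φ : Fin p × Fin p × Fin (p ^ (n - 2)) → S := fun t =>
    ⟨x ^ (t.1 : ℕ) * (y ^ (t.2.1 : ℕ) * z ^ (t.2.2 : ℕ)),
      S.mul_mem (S.pow_mem h.x_mem _) (S.mul_mem (S.pow_mem h.y_mem _) (S.pow_mem h.z_mem _))⟩
  have hsurj : Function.Surjective φ := by
    rintro ⟨g, hg⟩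
    obtain ⟨i, j, k, hi, hj, hk, rfl⟩ := h.exists_nf hg
    exact ⟨(⟨i, hi⟩, ⟨j, hj⟩, ⟨k, hk⟩), rfl⟩
  have hcard : Nat.card (Fin p × Fin p × Fin (p ^ (n - 2))) ≤ Nat.card S := by
    rw [Nat.card_prod, Nat.card_prod, Nat.card_fin, Nat.card_fin, h.card]
    have := h.hn
    have h1 : p * (p * p ^ (n - 2)) = p ^ n := by
      rw [← pow_succ', ← pow_succ']
      congr 1
      omega
    rw [h1]
  have hbij := hsurj.bijective_of_nat_card_le hcard
  have h1 : φ (⟨i, hi⟩, ⟨j, hj⟩, ⟨k, hk⟩) = φ (⟨i', hi'⟩, ⟨j', hj'⟩, ⟨k', hk'⟩) := Subtype.ext heq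
  have h2 := hbij.1 h1
  simp only [Prod.mk.injEq, Fin.mk.injEq] at h2
  exact h2

theorem nf_unique {i j k i' j' k' : ℕ}
    (heq : x ^ i * (y ^ j * z ^ k) = x ^ i' * (y ^ j' * z ^ k')) :
    i % p = i' % p ∧ j % p = j' % p ∧ k % p ^ (n - 2) = k' % p ^ (n - 2) := by
  apply h.nf_injective (Nat.mod_lt _ hp.out.pos) (Nat.mod_lt _ hp.out.pos)
    (Nat.mod_lt _ (pow_pos hp.out.pos _)) (Nat.mod_lt _ hp.out.pos) (Nat.mod_lt _ hp.out.pos)
    (Nat.mod_lt _ (pow_pos hp.out.pos _))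
  rw [← pow_eq_pow_mod i h.xp, ← pow_eq_pow_mod j h.yp, ← pow_eq_pow_mod k h.zp,
    ← pow_eq_pow_mod i' h.xp, ← pow_eq_pow_mod j' h.yp, ← pow_eq_pow_mod k' h.zp, heq]

theorem inCoset_unique {i i' : ℕ} {g : Ω} (hg : InCoset x y z i g) (hg' : InCoset x y z i' g) :
    i % p = i' % p := by
  obtain ⟨a, ha, rfl⟩ := hg
  obtain ⟨b, hb, heq⟩ := hg'
  obtain ⟨j, k, rfl⟩ := h.mem_subA_iff.1 ha
  obtain ⟨j', k', rfl⟩ := h.mem_subA_iff.1 hb
  exact (h.nf_unique heq).1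

theorem dvd_of_inCoset_of_mem {i : ℕ} {g : Ω} (hg : InCoset x y z i g) (hgA : g ∈ subA y z) :
    p ∣ i := by
  have := h.inCoset_unique hg (inCoset_of_mem_subA hgA)
  rw [Nat.zero_mod] at this
  exact Nat.dvd_of_mod_eq_zero this

theorem mem_subA_of_inCoset {i : ℕ} {g : Ω} (hg : InCoset x y z i g) (hi : p ∣ i) :
    g ∈ subA y z := by
  obtain ⟨a, ha, rfl⟩ := hg
  obtain ⟨m, rfl⟩ := hi
  rw [pow_mul, h.xp, one_pow, one_mul]
  exact ha

theorem yz_unique {j k j' k' : ℕ} (heq : y ^ j * z ^ k = y ^ j' * z ^ k') :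
    j % p = j' % p ∧ k % p ^ (n - 2) = k' % p ^ (n - 2) := by
  have : x ^ 0 * (y ^ j * z ^ k) = x ^ 0 * (y ^ j' * z ^ k') := by rw [heq]
  exact (h.nf_unique this).2

theorem yz_eq_one {j k : ℕ} (heq : y ^ j * z ^ k = 1) : p ∣ j ∧ p ^ (n - 2) ∣ k := by
  have : y ^ j * z ^ k = y ^ 0 * z ^ 0 := by rw [heq]; simp
  obtain ⟨h1, h2⟩ := h.yz_unique this
  rw [Nat.zero_mod] at h1 h2
  exact ⟨Nat.dvd_of_mod_eq_zero h1, Nat.dvd_of_mod_eq_zero h2⟩

theorem zpow_eq_one_iff {k : ℕ} : z ^ k = 1 ↔ p ^ (n - 2) ∣ k := by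
  constructor
  · intro hk
    have : y ^ 0 * z ^ k = 1 := by rw [pow_zero, one_mul, hk]
    exact (h.yz_eq_one this).2
  · rintro ⟨m, rfl⟩
    rw [pow_mul, h.zp, one_pow]

theorem orderOf_z : orderOf z = p ^ (n - 2) := by
  apply Nat.dvd_antisymm
  · exact orderOf_dvd_of_pow_eq_one h.zp
  · exact h.zpow_eq_one_iff.1 (pow_orderOf_eq_one z)

theorem wpow_eq_one_iff {k : ℕ} : W ^ k = 1 ↔ p ∣ k := by
  constructor
  · intro hk
    rw [← pow_mul, h.zpow_eq_one_iff, h.pow_split'] at hk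
    have h1 : p * p ^ (n - 3) ∣ (s * k) * p ^ (n - 3) := by
      have : s * p ^ (n - 3) * k = (s * k) * p ^ (n - 3) := by ring
      rwa [this] at hk
    have h2 : p ∣ s * k := by
      have hpos : 0 < p ^ (n - 3) := pow_pos hp.out.pos _
      exact (Nat.mul_dvd_mul_iff_right hpos).1 h1
    rcases (Nat.Prime.dvd_mul hp.out).1 h2 with h3 | h3
    · exact absurd h3 h.hs
    · exact h3
  · exact h.w_pow_of_dvd

theorem w_ne_one : W ≠ 1 := by
  intro hw
  have : W ^ 1 = 1 := by rw [pow_one, hw]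
  have h1 := h.wpow_eq_one_iff.1 this
  have := hp.out.one_lt
  exact absurd (Nat.le_of_dvd one_pos h1) (by omega)

theorem orderOf_w : orderOf W = p := orderOf_eq_prime h.w_pow h.w_ne_one

theorem ypow_eq_one_iff {j : ℕ} : y ^ j = 1 ↔ p ∣ j := by
  constructor
  · intro hj
    have : y ^ j * z ^ 0 = 1 := by rw [pow_zero, mul_one, hj]
    exact (h.yz_eq_one this).1
  · exact h.y_pow_of_dvd

theorem y_ne_one : y ≠ 1 := by
  intro hy
  have : y ^ 1 = 1 := by rw [pow_one, hy]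
  have h1 := h.ypow_eq_one_iff.1 this
  have := hp.out.one_lt
  exact absurd (Nat.le_of_dvd one_pos h1) (by omega)

theorem orderOf_y : orderOf y = p := orderOf_eq_prime h.yp h.y_ne_one

/-- `w` is a power of `z ^ p` -/
theorem w_eq : W = (z ^ p) ^ (s * p ^ (n - 4)) := by
  rw [← pow_mul]
  congr 1
  have := h.hn
  have : p ^ (n - 3) = p * p ^ (n - 4) := by
    rw [← pow_succ']
    congr 1
    omega
  rw [this]; ring

theorem w_mem_zpowers : W ∈ Subgroup.zpowers (z ^ p) := by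
  rw [h.w_eq]
  exact Subgroup.pow_mem _ (Subgroup.mem_zpowers _) _

theorem orderOf_zp : orderOf (z ^ p) = p ^ (n - 3) := by
  rw [orderOf_pow' z hp.out.ne_zero, h.orderOf_z, h.pow_split', Nat.gcd_eq_right (Dvd.intro _ rfl)]
  exact Nat.mul_div_cancel_left _ hp.out.pos

end GData

end Cfsg.Agent.Helper73.RkTwoG
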