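import Mathlib
import Cfsg.Agent.Lib.Helper73.RkTwoG2

/-! # Structure of `G(p, n; s)`: centralizers, invariant subgroups, automorphisms -/

set_option autoImplicit false

namespace Cfsg.Agent.Helper73.RkTwoG

/-- `f` restricts to an injective endomorphism of `S` -/
structure IsAutOn {Ω : Type*} [Group Ω] (S : Subgroup Ω) (f : Ω → Ω) : Prop where
  mem : ∀ a ∈ S, f a ∈ S
  mul : ∀ a ∈ S, ∀ b ∈ S, f (a * b) = f a * f b
  inj : ∀ a ∈ S, ∀ b ∈ S, f a = f b → a = b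

namespace IsAutOn

variable {Ω : Type*} [Group Ω] {S : Subgroup Ω} {f : Ω → Ω} (hf : IsAutOn S f)
include hf

theorem map_one : f 1 = 1 := by
  have := hf.mul 1 S.one_mem 1 S.one_mem
  rw [mul_one] at this
  exact (mul_eq_left.1 this.symm)

theorem map_inv {a : Ω} (ha : a ∈ S) : f a⁻¹ = (f a)⁻¹ := by
  have := hf.mul a ha a⁻¹ (S.inv_mem ha)
  rw [mul_inv_cancel, hf.map_one] at this
  exact (eq_inv_of_mul_eq_one_right this.symm)

theorem map_pow {a : Ω} (ha : a ∈ S) (k : ℕ) : f (a ^ k) = f a ^ k := by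
  induction k with
  | zero => simp [hf.map_one]
  | succ k ih => rw [pow_succ, pow_succ, hf.mul _ (S.pow_mem ha k) _ ha, ih]

theorem surj [Finite S] {b : Ω} (hb : b ∈ S) : ∃ a ∈ S, f a = b := by
  let φ : S → S := fun a => ⟨f a, hf.mem a a.2⟩
  have hinj : Function.Injective φ := by
    intro a a' haa
    exact Subtype.ext (hf.inj a a.2 a' a'.2 (congrArg Subtype.val haa))
  obtain ⟨a, ha⟩ := (Finite.injective_iff_surjective.1 hinj) ⟨b, hb⟩
  exact ⟨a, a.2, congrArg Subtype.val ha⟩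

end IsAutOn

/-- the commutator map `a ↦ a⁻¹ g⁻¹ a g` -/
def cm {Ω : Type*} [Group Ω] (g a : Ω) : Ω := a⁻¹ * g⁻¹ * a * g

namespace GData

variable {Ω : Type*} [Group Ω] {p n s : ℕ} [hp : Fact p.Prime] {S : Subgroup Ω} {x y z : Ω}

local notation "W" => z ^ (s * p ^ (n - 3))

variable (h : GData p n s S x y z)
include h

/-- conjugation by an element of the coset `x^i A` -/
theorem conj_of_inCoset (i : ℕ) : ∃ t : ℕ, ∀ g : Ω, InCoset x y z i g → ∀ j k : ℕ,
    g⁻¹ * (y ^ j * z ^ k) * g = y ^ (j + i * k) * z ^ k * W ^ (i * j + t * k) := by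
  obtain ⟨t, ht⟩ := h.conj_xpow i
  refine ⟨t, fun g hg j k => ?_⟩
  obtain ⟨a₀, ha₀, rfl⟩ := hg
  have hb : (x ^ i)⁻¹ * (y ^ j * z ^ k) * x ^ i ∈ subA y z := h.conj_xpow_mem i (mem_subA_of j k)
  have hc := h.subA_comm hb ha₀
  rw [← ht]
  calc (x ^ i * a₀)⁻¹ * (y ^ j * z ^ k) * (x ^ i * a₀)
      = a₀⁻¹ * ((x ^ i)⁻¹ * (y ^ j * z ^ k) * x ^ i * a₀) := by group
    _ = a₀⁻¹ * (a₀ * ((x ^ i)⁻¹ * (y ^ j * z ^ k) * x ^ i)) := by rw [hc]
    _ = (x ^ i)⁻¹ * (y ^ j * z ^ k) * x ^ i := by group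

theorem cm_of_inCoset (i : ℕ) : ∃ t : ℕ, ∀ g : Ω, InCoset x y z i g → ∀ j k : ℕ,
    cm g (y ^ j * z ^ k) = y ^ (i * k) * W ^ (i * j + t * k) := by
  obtain ⟨t, ht⟩ := h.conj_of_inCoset i
  refine ⟨t, fun g hg j k => ?_⟩
  have h1 : cm g (y ^ j * z ^ k) = (y ^ j * z ^ k)⁻¹ * (g⁻¹ * (y ^ j * z ^ k) * g) := by
    unfold cm; group
  rw [h1, ht g hg, pow_add]
  have c1 : Commute (y ^ (i * k)) (z ^ k) := h.comm_ypow_zpow _ _
  calc (y ^ j * z ^ k)⁻¹ * (y ^ j * y ^ (i * k) * z ^ k * W ^ (i * j + t * k))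
      = (y ^ j * z ^ k)⁻¹ * (y ^ j * (y ^ (i * k) * z ^ k) * W ^ (i * j + t * k)) := by group
    _ = (y ^ j * z ^ k)⁻¹ * (y ^ j * (z ^ k * y ^ (i * k)) * W ^ (i * j + t * k)) := by rw [c1.eq]
    _ = y ^ (i * k) * W ^ (i * j + t * k) := by group

/-- the centralizer in `A` of an element outside `A` -/
theorem cent {i : ℕ} {g a : Ω} (hg : InCoset x y z i g) (hi : ¬ p ∣ i) (ha : a ∈ subA y z)
    (hcomm : a * g = g * a) : a ∈ Subgroup.zpowers (z ^ p) := by
  obtain ⟨j, k, rfl⟩ := h.mem_subA_iff.1 ha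
  obtain ⟨t, ht⟩ := h.cm_of_inCoset i
  have h1 : cm g (y ^ j * z ^ k) = 1 := by
    unfold cm
    rw [mul_assoc, mul_assoc, hcomm]; group
  rw [ht g hg] at h1
  have h2 : y ^ (i * k) * z ^ (s * p ^ (n - 3) * (i * j + t * k)) = 1 := by
    rw [← pow_mul] at h1; exact h1
  obtain ⟨h3, h4⟩ := h.yz_eq_one h2
  have hk : p ∣ k := by
    rcases (Nat.Prime.dvd_mul hp.out).1 h3 with h5 | h5
    · exact absurd h5 hi
    · exact h5
  have h5 : W ^ (i * j + t * k) = 1 := by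
    rw [← pow_mul]; exact h.zpow_eq_one_iff.2 h4
  have h6 : p ∣ i * j + t * k := h.wpow_eq_one_iff.1 h5
  have h7 : p ∣ i * j := (Nat.dvd_add_left (Dvd.dvd.mul_left hk t)).1 h6
  have hj : p ∣ j := by
    rcases (Nat.Prime.dvd_mul hp.out).1 h7 with h8 | h8
    · exact absurd h8 hi
    · exact h8
  rw [h.y_pow_of_dvd hj, one_mul]
  obtain ⟨m, rfl⟩ := hk
  rw [pow_mul]
  exact Subgroup.pow_mem _ (Subgroup.mem_zpowers _) _

theorem zp_central {g : Ω} (hg : g ∈ S) : g * z ^ p = z ^ p * g := by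
  obtain ⟨i, a, ha, rfl⟩ := h.mem_iff_inCoset.1 hg
  have h1 : z ^ p ∈ subA y z := (subA y z).pow_mem z_mem_subA _
  have h2 : a * z ^ p = z ^ p * a := h.subA_comm ha h1
  have h3 : ∀ i : ℕ, x ^ i * z ^ p = z ^ p * x ^ i := by
    intro i
    have hx : x * z ^ p = z ^ p * x := by
      have := h.conj_zp
      calc x * z ^ p = x * (x⁻¹ * z ^ p * x) := by rw [this]
        _ = z ^ p * x := by group
    exact ((Commute.pow_left (show Commute x (z ^ p) from hx) i)).eq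
  calc x ^ i * a * z ^ p = x ^ i * (a * z ^ p) := by group
    _ = x ^ i * (z ^ p * a) := by rw [h2]
    _ = (x ^ i * z ^ p) * a := by group
    _ = z ^ p * x ^ i * a := by rw [h3]
    _ = z ^ p * (x ^ i * a) := by group

theorem zpowers_zp_central {g c : Ω} (hg : g ∈ S) (hc : c ∈ Subgroup.zpowers (z ^ p)) :
    g * c = c * g := by
  obtain ⟨k, rfl⟩ := Subgroup.mem_zpowers_iff.1 hc
  exact ((Commute.zpow_right (show Commute g (z ^ p) from h.zp_central hg) k)).eq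

theorem zp_mem_subA : z ^ p ∈ subA y z := (subA y z).pow_mem z_mem_subA _

theorem zpowers_zp_le_subA : Subgroup.zpowers (z ^ p) ≤ subA y z :=
  (Subgroup.zpowers_le).2 h.zp_mem_subA

omit hp h in
theorem y_mem_subPhi : y ∈ subPhi p y z := by
  unfold subPhi
  exact Subgroup.subset_closure (Set.mem_insert y _)

omit hp h in
theorem zp_mem_subPhi : z ^ p ∈ subPhi p y z := by
  unfold subPhi
  exact Subgroup.subset_closure (Set.mem_insert_of_mem y rfl)

theorem subPhi_le_subA : subPhi p y z ≤ subA y z := by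
  unfold subPhi
  rw [Subgroup.closure_le]
  rintro a (rfl | rfl)
  · exact y_mem_subA
  · exact h.zp_mem_subA

/-- elements of `Φ` -/
theorem mem_subPhi_iff {a : Ω} : a ∈ subPhi p y z ↔ ∃ j k : ℕ, a = y ^ j * z ^ (p * k) := by
  constructor
  · intro ha
    unfold subPhi at ha
    induction ha using Subgroup.closure_induction with
    | mem a ha =>
      rcases ha with rfl | rfl
      · exact ⟨1, 0, by simp⟩
      · exact ⟨0, 1, by simp⟩
    | one => exact ⟨0, 0, by simp⟩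
    | mul a b _ _ ha hb =>
      obtain ⟨j, k, rfl⟩ := ha
      obtain ⟨j', k', rfl⟩ := hb
      refine ⟨j + j', k + k', ?_⟩
      rw [pow_add, mul_add, pow_add]
      have c := (h.comm_ypow_zpow j' (p * k)).symm
      calc y ^ j * z ^ (p * k) * (y ^ j' * z ^ (p * k'))
          = y ^ j * (z ^ (p * k) * y ^ j') * z ^ (p * k') := by group
        _ = y ^ j * (y ^ j' * z ^ (p * k)) * z ^ (p * k') := by rw [c.eq]
        _ = y ^ j * y ^ j' * (z ^ (p * k) * z ^ (p * k')) := by group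
    | inv a _ ha =>
      obtain ⟨j, k, rfl⟩ := ha
      refine ⟨(p - 1) * j, (p ^ (n - 2) - 1) * k, ?_⟩
      rw [mul_inv_rev, h.inv_ypow, h.inv_zpow]
      have : (p ^ (n - 2) - 1) * (p * k) = p * ((p ^ (n - 2) - 1) * k) := by ring
      rw [this]
      exact ((h.comm_ypow_zpow _ _).symm).eq
  · rintro ⟨j, k, rfl⟩
    rw [pow_mul]
    exact (subPhi p y z).mul_mem ((subPhi p y z).pow_mem y_mem_subPhi j)
      ((subPhi p y z).pow_mem zp_mem_subPhi k)

/-- the subgroups of `A` containing `z^p` and normalized by an element outside `A` -/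
theorem trichotomy {B : Subgroup Ω} (hBA : B ≤ subA y z) (hzp : z ^ p ∈ B) {i : ℕ} {g : Ω}
    (hg : InCoset x y z i g) (hi : ¬ p ∣ i) (hnorm : ∀ b ∈ B, g⁻¹ * b * g ∈ B) :
    subA y z ≤ B ∨ (y ∈ B ∧ B ≤ subPhi p y z) ∨ B ≤ Subgroup.zpowers (z ^ p) := by
  have hzpB : Subgroup.zpowers (z ^ p) ≤ B := (Subgroup.zpowers_le).2 hzp
  have hWB : ∀ e : ℕ, W ^ e ∈ B := fun e => B.pow_mem (hzpB h.w_mem_zpowers) e
  have hy_of : ∀ m : ℕ, ¬ p ∣ m → y ^ m ∈ B → y ∈ B := by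
    intro m hm hmem
    have hcop : m.Coprime (orderOf y) := by
      rw [h.orderOf_y]
      exact ((Nat.Prime.coprime_iff_not_dvd hp.out).2 hm).symm
    obtain ⟨r, hr⟩ := exists_pow_eq_self_of_coprime hcop
    rw [← hr]
    exact B.pow_mem hmem r
  have hzpk : ∀ k : ℕ, p ∣ k → z ^ k ∈ B := by
    rintro k ⟨m, rfl⟩
    rw [pow_mul]
    exact B.pow_mem hzp m
  by_cases h1 : ∃ j k : ℕ, y ^ j * z ^ k ∈ B ∧ ¬ p ∣ k
  · left
    obtain ⟨j, k, hb, hk⟩ := h1
    obtain ⟨t, ht⟩ := h.cm_of_inCoset i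
    have hc : cm g (y ^ j * z ^ k) ∈ B := by
      have : cm g (y ^ j * z ^ k) = (y ^ j * z ^ k)⁻¹ * (g⁻¹ * (y ^ j * z ^ k) * g) := by
        unfold cm; group
      rw [this]
      exact B.mul_mem (B.inv_mem hb) (hnorm _ hb)
    rw [ht g hg] at hc
    have hyik : y ^ (i * k) ∈ B := by
      have := B.mul_mem hc (B.inv_mem (hWB (i * j + t * k)))
      rwa [mul_inv_cancel_right] at this
    have hik : ¬ p ∣ i * k := by
      intro hd
      rcases (Nat.Prime.dvd_mul hp.out).1 hd with h5 | h5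
      · exact hi h5
      · exact hk h5
    have hyB : y ∈ B := hy_of _ hik hyik
    have hzk : z ^ k ∈ B := by
      have := B.mul_mem (B.inv_mem (B.pow_mem hyB j)) hb
      rwa [inv_mul_cancel_left] at this
    have hzB : z ∈ B := by
      have hcop : k.Coprime (orderOf z) := by
        rw [h.orderOf_z]
        exact (((Nat.Prime.coprime_iff_not_dvd hp.out).2 hk).symm).pow_right _
      obtain ⟨r, hr⟩ := exists_pow_eq_self_of_coprime hcop
      rw [← hr]
      exact B.pow_mem hzk r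
    unfold subA
    rw [Subgroup.closure_le]
    rintro a (rfl | rfl)
    · exact hyB
    · exact hzB
  · push Not at h1
    right
    by_cases h2 : ∃ j k : ℕ, y ^ j * z ^ k ∈ B ∧ ¬ p ∣ j
    · left
      obtain ⟨j, k, hb, hj⟩ := h2
      have hk := h1 j k hb
      have hyj : y ^ j ∈ B := by
        have := B.mul_mem hb (B.inv_mem (hzpk k hk))
        rwa [mul_inv_cancel_right] at this
      refine ⟨hy_of j hj hyj, fun b hb => ?_⟩
      obtain ⟨j', k', rfl⟩ := h.mem_subA_iff.1 (hBA hb)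
      obtain ⟨m, rfl⟩ := h1 j' k' hb
      exact h.mem_subPhi_iff.2 ⟨j', m, rfl⟩
    · push Not at h2
      right
      intro b hb
      obtain ⟨j', k', rfl⟩ := h.mem_subA_iff.1 (hBA hb)
      obtain ⟨m, rfl⟩ := h1 j' k' hb
      have hj' := h2 j' (p * m) hb
      rw [h.y_pow_of_dvd hj', one_mul, pow_mul]
      exact Subgroup.pow_mem _ (Subgroup.mem_zpowers _) _

/-- the double commutator -/
theorem cm_cm {i : ℕ} {g : Ω} (hg : InCoset x y z i g) (j k : ℕ) :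
    cm g (cm g (y ^ j * z ^ k)) = W ^ (i * i * k) := by
  obtain ⟨t, ht⟩ := h.cm_of_inCoset i
  rw [ht g hg j k]
  have h1 : y ^ (i * k) * W ^ (i * j + t * k) =
      y ^ (i * k) * z ^ (s * p ^ (n - 3) * (i * j + t * k)) := by rw [← pow_mul]
  rw [h1, ht g hg]
  have hd : p ∣ s * p ^ (n - 3) * (i * j + t * k) := Dvd.dvd.mul_right h.p_dvd_K _
  rw [h.y_pow_of_dvd (Dvd.dvd.mul_left hd i), one_mul, pow_add,
    h.w_pow_of_dvd (Dvd.dvd.mul_left hd t), mul_one]
  congr 1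
  ring

/-- commutators of elements of `S` lie in `A` -/
theorem comm_mem_subA {u v : Ω} (hu : u ∈ S) (hv : v ∈ S) : u⁻¹ * v * u * v⁻¹ ∈ subA y z := by
  obtain ⟨iu, hiu⟩ := h.mem_iff_inCoset.1 hu
  obtain ⟨iv, hiv⟩ := h.mem_iff_inCoset.1 hv
  have h1 := h.inCoset_mul (h.inCoset_mul (h.inCoset_mul (h.inCoset_inv hiu) hiv) hiu)
    (h.inCoset_inv hiv)
  apply h.mem_subA_of_inCoset h1
  have hp1 := hp.out.pos
  obtain ⟨q, hq⟩ : ∃ q, p = q + 1 := ⟨p - 1, by omega⟩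
  refine ⟨iu + iv, ?_⟩
  rw [hq]; simp; ring

/-- an injective endomorphism of `S` maps `A` into itself -/
theorem aut_subA {f : Ω → Ω} (hf : IsAutOn S f) {a : Ω} (ha : a ∈ subA y z) : f a ∈ subA y z := by
  have hfin := h.finite
  obtain ⟨u, hu, hfu⟩ := hf.surj h.x_mem
  obtain ⟨v, hv, hfv⟩ := hf.surj h.z_mem
  have hy : y = x⁻¹ * z * x * z⁻¹ := by rw [h.xz]; group
  have hc : u⁻¹ * v * u * v⁻¹ ∈ subA y z := h.comm_mem_subA hu hv
  have hcS : u⁻¹ * v * u * v⁻¹ ∈ S := h.subA_le hc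
  have hfc : f (u⁻¹ * v * u * v⁻¹) = y := by
    rw [hf.mul _ (S.mul_mem (S.mul_mem (S.inv_mem hu) hv) hu) _ (S.inv_mem hv),
      hf.mul _ (S.mul_mem (S.inv_mem hu) hv) _ hu, hf.mul _ (S.inv_mem hu) _ hv,
      hf.map_inv hu, hf.map_inv hv, hfu, hfv, ← hy]
  have haS : a ∈ S := h.subA_le ha
  have hcomm : f a * y = y * f a := by
    rw [← hfc, ← hf.mul _ haS _ hcS, ← hf.mul _ hcS _ haS, h.subA_comm ha hc]
  obtain ⟨i', hi'⟩ := h.mem_iff_inCoset.1 (hf.mem a haS)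
  obtain ⟨t, ht⟩ := h.conj_of_inCoset i'
  have h1 := ht (f a) hi' 1 0
  simp only [pow_one, pow_zero, mul_one, mul_zero, add_zero] at h1
  have h2 : (f a)⁻¹ * y * f a = y := by
    rw [mul_assoc, ← hcomm]; group
  rw [h2] at h1
  have h3 : W ^ i' = 1 := by
    have := mul_left_cancel (a := y) (b := 1) (c := W ^ i') (by rw [mul_one]; exact h1)
    exact this.symm
  exact h.mem_subA_of_inCoset hi' (h.wpow_eq_one_iff.1 h3)

/-- the constraint on automorphisms: if `f g ∈ g^m A` for some `g ∉ A` then `m² ≡ 1 (mod p)` -/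
theorem aut_constraint {f : Ω → Ω} (hf : IsAutOn S f) {i : ℕ} {g : Ω} (hg : InCoset x y z i g)
    (hi : ¬ p ∣ i) {m : ℕ} (hm : ∃ a₁ ∈ subA y z, f g = g ^ m * a₁) : 1 ≡ m * m [MOD p] := by
  have hgS : g ∈ S := h.mem_iff_inCoset.2 ⟨i, hg⟩
  -- `f z`
  obtain ⟨j, k, hfz⟩ := h.mem_subA_iff.1 (h.aut_subA hf z_mem_subA)
  have hn4 := h.hn
  have hk : ¬ p ∣ k := by
    intro hk
    have h1 : f (z ^ p ^ (n - 3)) = 1 := by
      rw [hf.map_pow h.z_mem, hfz, (h.comm_ypow_zpow j k).mul_pow, ← pow_mul, ← pow_mul,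
        h.y_pow_of_dvd (Dvd.dvd.mul_left (dvd_pow_self p (by omega)) j), one_mul,
        h.zpow_eq_one_iff, h.pow_split']
      exact Nat.mul_dvd_mul hk dvd_rfl
    have h2 : z ^ p ^ (n - 3) = 1 :=
      hf.inj _ (S.pow_mem h.z_mem _) _ S.one_mem (h1.trans hf.map_one.symm)
    rw [h.zpow_eq_one_iff, h.pow_split'] at h2
    have hpos : 0 < p ^ (n - 3) := pow_pos hp.out.pos _
    have := Nat.le_of_dvd hpos h2
    have hp1 := hp.out.one_lt
    nlinarith
  -- `f w`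
  have hfw : f W = W ^ k := by
    rw [hf.map_pow h.z_mem, hfz, (h.comm_ypow_zpow j k).mul_pow, ← pow_mul, ← pow_mul,
      h.y_pow_of_dvd (Dvd.dvd.mul_left h.p_dvd_K j), one_mul, ← pow_mul]
    congr 1
    ring
  -- the coset of `f g`
  obtain ⟨a₁, ha₁, hfg⟩ := hm
  have hfgc : InCoset x y z (i * m) (f g) := by
    have := h.inCoset_mul (h.inCoset_pow hg m) (inCoset_of_mem_subA (x := x) ha₁)
    rw [add_zero, ← hfg] at this
    exact this
  -- `f` commutes with `cm`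
  have hcm : ∀ a ∈ S, f (cm g a) = cm (f g) (f a) := by
    intro a ha
    unfold cm
    rw [hf.mul _ (S.mul_mem (S.mul_mem (S.inv_mem ha) (S.inv_mem hgS)) ha) _ hgS,
      hf.mul _ (S.mul_mem (S.inv_mem ha) (S.inv_mem hgS)) _ ha,
      hf.mul _ (S.inv_mem ha) _ (S.inv_mem hgS), hf.map_inv ha, hf.map_inv hgS]
  have hcmS : ∀ a ∈ S, cm g a ∈ S := by
    intro a ha
    unfold cm
    exact S.mul_mem (S.mul_mem (S.mul_mem (S.inv_mem ha) (S.inv_mem hgS)) ha) hgS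
  have h1 : cm g (cm g z) = W ^ (i * i) := by
    have := h.cm_cm hg 0 1
    simpa using this
  have h2 : f (cm g (cm g z)) = cm (f g) (cm (f g) (f z)) := by
    rw [hcm _ (hcmS z h.z_mem), hcm z h.z_mem]
  rw [h1, hfz, h.cm_cm hfgc, hf.map_pow (S.pow_mem h.z_mem _), hfw, ← pow_mul] at h2
  have h3 := (pow_eq_pow_iff_modEq).1 h2
  rw [h.orderOf_w] at h3
  have h4 : (k * (i * i)) * 1 ≡ (k * (i * i)) * (m * m) [MOD p] := by
    have e : i * m * (i * m) * k = (k * (i * i)) * (m * m) := by ring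
    rw [mul_one, ← e]
    exact h3
  have hcop : Nat.gcd p (k * (i * i)) = 1 := by
    have c1 : Nat.Coprime p k := (Nat.Prime.coprime_iff_not_dvd hp.out).2 hk
    have c2 : Nat.Coprime p i := (Nat.Prime.coprime_iff_not_dvd hp.out).2 hi
    exact Nat.Coprime.mul_right c1 (Nat.Coprime.mul_right c2 c2)
  exact Nat.ModEq.cancel_left_of_coprime hcop h4

end GData

end Cfsg.Agent.Helper73.RkTwoG
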