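import Mathlib
import Cfsg.Agent.Lib.Helper73.RkTwoG3

/-! # Structure of `G(p, n; s)`: further facts used in the fusion argument -/

set_option autoImplicit false

namespace Cfsg.Agent.Helper73.RkTwoG

/-- a proper subgroup of a finite `p`-group has index at least `p` -/
theorem card_mul_le_of_lt {Ω : Type*} [Group Ω] {p : ℕ} [hp : Fact p.Prime] {H K : Subgroup Ω}
    [Finite K] (hK : IsPGroup p K) (hlt : H < K) : p * Nat.card H ≤ Nat.card K := by
  have hdvd : Nat.card H ∣ Nat.card K := Subgroup.card_dvd_of_le hlt.le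
  obtain ⟨a, ha⟩ := IsPGroup.iff_card.1 hK
  rw [ha] at hdvd ⊢
  obtain ⟨b, hb, hHb⟩ := (Nat.dvd_prime_pow hp.out).1 hdvd
  rw [hHb]
  have hne : b ≠ a := by
    intro hba
    apply hlt.ne
    apply Subgroup.eq_of_le_of_card_ge hlt.le
    rw [ha, hHb, hba]
  have hlt' : b + 1 ≤ a := by omega
  calc p * p ^ b = p ^ (b + 1) := by rw [pow_succ']
    _ ≤ p ^ a := Nat.pow_le_pow_right hp.out.pos hlt'

namespace GData

variable {Ω : Type*} [Group Ω] {p n s : ℕ} [hp : Fact p.Prime] {S : Subgroup Ω} {x y z : Ω}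

local notation "W" => z ^ (s * p ^ (n - 3))

variable (h : GData p n s S x y z)
include h

theorem isPGroup : IsPGroup p S := IsPGroup.of_card h.card

theorem mem_zpowers_zp_iff {a : Ω} : a ∈ Subgroup.zpowers (z ^ p) ↔ ∃ m : ℕ, a = z ^ (p * m) := by
  constructor
  · intro ha
    have hfo : IsOfFinOrder (z ^ p) := by
      rw [isOfFinOrder_iff_pow_eq_one]
      refine ⟨p ^ (n - 2), pow_pos hp.out.pos _, ?_⟩
      rw [← pow_mul, mul_comm, pow_mul, h.zp, one_pow]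
    rw [← hfo.mem_powers_iff_mem_zpowers] at ha
    obtain ⟨m, rfl⟩ := (Submonoid.mem_powers_iff _ _).1 ha
    exact ⟨m, by rw [pow_mul]⟩
  · rintro ⟨m, rfl⟩
    rw [pow_mul]
    exact Subgroup.pow_mem _ (Subgroup.mem_zpowers _) _

theorem ypow_mul_not_mem_zpowers {j k : ℕ} (hj : ¬ p ∣ j) :
    y ^ j * z ^ k ∉ Subgroup.zpowers (z ^ p) := by
  intro hmem
  obtain ⟨m, hm⟩ := h.mem_zpowers_zp_iff.1 hmem
  have h1 : y ^ j * z ^ k = y ^ 0 * z ^ (p * m) := by rw [hm]; simp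
  have h2 := (h.yz_unique h1).1
  rw [Nat.zero_mod] at h2
  exact hj (Nat.dvd_of_mod_eq_zero h2)

theorem y_not_mem_zpowers : y ∉ Subgroup.zpowers (z ^ p) := by
  have := h.ypow_mul_not_mem_zpowers (j := 1) (k := 0) (by
    intro hd
    have := Nat.le_of_dvd one_pos hd
    have := hp.out.one_lt
    omega)
  simpa using this

theorem z_not_mem_subPhi : z ∉ subPhi p y z := by
  intro hmem
  obtain ⟨j, k, hjk⟩ := h.mem_subPhi_iff.1 hmem
  have h1 : y ^ 0 * z ^ 1 = y ^ j * z ^ (p * k) := by rw [← hjk]; simp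
  have h2 := (h.yz_unique h1).2
  have hn4 := h.hn
  have hp1 := hp.out.one_lt
  have hpd : p ∣ p ^ (n - 2) := dvd_pow_self p (by omega)
  have hlt : 1 < p ^ (n - 2) := Nat.one_lt_pow (by omega) hp1
  rw [Nat.mod_eq_of_lt hlt] at h2
  have h3 : p ∣ (p * k) % p ^ (n - 2) := (Nat.dvd_mod_iff hpd).2 (Dvd.intro _ rfl)
  rw [← h2] at h3
  have := Nat.le_of_dvd one_pos h3
  omega

theorem conj_y {i : ℕ} {g : Ω} (hg : InCoset x y z i g) : g⁻¹ * y * g = y * W ^ i := by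
  obtain ⟨t, ht⟩ := h.conj_of_inCoset i
  have := ht g hg 1 0
  simpa using this

theorem conj_z {i : ℕ} {g : Ω} (hg : InCoset x y z i g) : ∃ t : ℕ, g⁻¹ * z * g = z * y ^ i * W ^ t := by
  obtain ⟨t, ht⟩ := h.conj_of_inCoset i
  refine ⟨t, ?_⟩
  have := ht g hg 0 1
  simp only [pow_zero, one_mul, mul_one, pow_one, zero_add, mul_zero] at this
  rw [this, (h.comm_yz.pow_left i).eq]

theorem conj_mem_subA {i : ℕ} {g a : Ω} (hg : InCoset x y z i g) (ha : a ∈ subA y z) :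
    g⁻¹ * a * g ∈ subA y z := by
  obtain ⟨j, k, rfl⟩ := h.mem_subA_iff.1 ha
  obtain ⟨t, ht⟩ := h.conj_of_inCoset i
  rw [ht g hg]
  exact (subA y z).mul_mem (mem_subA_of _ _) ((subA y z).pow_mem w_mem_subA _)

theorem x_not_mem_subA : x ∉ subA y z := by
  intro hx
  have h1 : InCoset x y z 1 x := ⟨1, (subA y z).one_mem, by simp⟩
  have := h.dvd_of_inCoset_of_mem h1 hx
  have := Nat.le_of_dvd one_pos this
  have := hp.out.one_lt
  omega

theorem subA_ne : subA y z ≠ S := by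
  intro heq
  apply h.x_not_mem_subA
  rw [heq]
  exact h.x_mem

theorem card_subA_le : Nat.card (subA y z) ≤ p * orderOf z := by
  have hfin := h.finite
  have hlt : subA y z < S := lt_of_le_of_ne h.subA_le h.subA_ne
  have h1 := card_mul_le_of_lt h.isPGroup hlt
  rw [h.card] at h1
  rw [h.orderOf_z]
  have hn4 := h.hn
  have h2 : p ^ n = p * (p * p ^ (n - 2)) := by
    rw [← pow_succ', ← pow_succ']
    congr 1
    omega
  rw [h2] at h1
  exact Nat.le_of_mul_le_mul_left h1 hp.out.pos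

theorem zp_pow_ne_one_of_five (hn5 : 5 ≤ n) : (z ^ p) ^ p ≠ 1 := by
  rw [← pow_mul, Ne, h.zpow_eq_one_iff]
  intro hd
  have hp1 := hp.out.one_lt
  have h1 : p ^ 3 ≤ p ^ (n - 2) := Nat.pow_le_pow_right hp.out.pos (by omega)
  have h2 := Nat.le_of_dvd (by positivity) hd
  have h3 : p ^ 3 = p * p * p := by ring
  nlinarith

theorem z_pow_ne_one : z ^ p ≠ 1 := by
  rw [Ne, h.zpow_eq_one_iff]
  intro hd
  have hp1 := hp.out.one_lt
  have hn4 := h.hn
  have h1 : p ^ 2 ≤ p ^ (n - 2) := Nat.pow_le_pow_right hp.out.pos (by omega)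
  have h2 := Nat.le_of_dvd hp.out.pos hd
  nlinarith

/-- an element outside `A` together with `A` generates `S` -/
theorem le_of_subA_le {H : Subgroup Ω} (hA : subA y z ≤ H) {i : ℕ} {g : Ω}
    (hg : InCoset x y z i g) (hi : ¬ p ∣ i) (hgH : g ∈ H) : S ≤ H := by
  obtain ⟨a₀, ha₀, rfl⟩ := hg
  have hxi : x ^ i ∈ H := by
    have := H.mul_mem hgH (H.inv_mem (hA ha₀))
    rwa [mul_inv_cancel_right] at this
  have hx : x ∈ H := by
    have hcop : i.Coprime (orderOf x) := by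
      have hd : orderOf x ∣ p := orderOf_dvd_of_pow_eq_one h.xp
      exact Nat.Coprime.coprime_dvd_right hd ((Nat.Prime.coprime_iff_not_dvd hp.out).2 hi).symm
    obtain ⟨r, hr⟩ := exists_pow_eq_self_of_coprime hcop
    rw [← hr]
    exact H.pow_mem hxi r
  rw [← h.gen, Subgroup.closure_le]
  rintro a (rfl | rfl | rfl)
  · exact hx
  · exact hA y_mem_subA
  · exact hA z_mem_subA

/-- the elements of a subgroup `P` containing `g ∉ A`, modulo `P ∩ A` -/
theorem exists_pow_coset {P : Subgroup Ω} (hPS : P ≤ S) {i : ℕ} {g : Ω} (hg : InCoset x y z i g)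
    (hi : ¬ p ∣ i) (hgP : g ∈ P) {u : Ω} (hu : u ∈ P) :
    ∃ r : ℕ, u * (g ^ r)⁻¹ ∈ P ⊓ subA y z := by
  obtain ⟨iu, hiu⟩ := h.mem_iff_inCoset.1 (hPS hu)
  have hcop : Nat.Coprime i p := ((Nat.Prime.coprime_iff_not_dvd hp.out).2 hi).symm
  obtain ⟨r, -, hr⟩ := Nat.exists_mul_mod_eq_of_coprime iu hcop hp.out.ne_zero
  refine ⟨r, P.mul_mem hu (P.inv_mem (P.pow_mem hgP r)), ?_⟩
  have h1 := h.inCoset_mul hiu (h.inCoset_inv (h.inCoset_pow hg r))
  apply h.mem_subA_of_inCoset h1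
  have hp1 := hp.out.pos
  obtain ⟨q, hq⟩ : ∃ q, p = q + 1 := ⟨p - 1, by omega⟩
  have h4 : i * r ≡ iu [MOD p] := hr
  have h5 : iu + (p - 1) * (i * r) ≡ iu + (p - 1) * iu [MOD p] :=
    Nat.ModEq.add_left _ (Nat.ModEq.mul_left _ h4)
  have h6 : iu + (p - 1) * iu = p * iu := by
    rw [hq]; simp; ring
  rw [h6] at h5
  have h7 : p * iu ≡ 0 [MOD p] := (Nat.modEq_zero_iff_dvd).2 (Dvd.intro _ rfl)
  exact (Nat.modEq_zero_iff_dvd).1 (h5.trans h7)

end GData

end Cfsg.Agent.Helper73.RkTwoG
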