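import Mathlib
import Cfsg.Prelude.Def_FusionSystem
import Cfsg.Agent.Lib.Helper73.RkTwoG4
import Cfsg.Agent.Lib.Helper73.RkTwoFus
import Cfsg.Agent.Lib.Helper73.ClassTwoPow
import Cfsg.Agent.Lib.Helper87.FusionEssential

/-! # The groups `C(p, n)` of Blackburn's classification are resistant (or extraspecial of exponent `p`) -/

set_option autoImplicit false

namespace Cfsg.Agent.Helper73.RkTwoC

open Cfsg Cfsg.FusionSystem Cfsg.Agent.Helper87 Cfsg.Agent.Helper83 Cfsg.Agent.Helper73.RkTwoFus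

variable {Ω : Type*} [Group Ω]

/-- the defining data of `C(p, n)` inside an ambient group -/
structure CData (p n : ℕ) (S : Subgroup Ω) (x y z : Ω) : Prop where
  hn : 3 ≤ n
  card : Nat.card S = p ^ n
  gen : Subgroup.closure ({x, y, z} : Set Ω) = S
  xp : x ^ p = 1
  yp : y ^ p = 1
  zp : z ^ p ^ (n - 2) = 1
  xz : x * z = z * x
  yz : y * z = z * y
  xy : x⁻¹ * y * x = y * z ^ p ^ (n - 3)

/-- the normal form predicate -/
def IsNF (x y z g : Ω) : Prop := ∃ i j : ℕ, ∃ c ∈ Subgroup.zpowers z, g = x ^ i * y ^ j * c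

namespace CData

variable {p n : ℕ} [hp : Fact p.Prime] {S : Subgroup Ω} {x y z : Ω}

local notation "C₀" => z ^ p ^ (n - 3)

variable (h : CData p n S x y z)
include h

omit hp in
theorem x_mem : x ∈ S := by
  rw [← h.gen]; exact Subgroup.subset_closure (by simp)

omit hp in
theorem y_mem : y ∈ S := by
  rw [← h.gen]; exact Subgroup.subset_closure (by simp)

omit hp in
theorem z_mem : z ∈ S := by
  rw [← h.gen]; exact Subgroup.subset_closure (by simp)

theorem finite : Finite S := by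
  apply Nat.finite_of_card_ne_zero
  rw [h.card]
  exact pow_ne_zero _ hp.out.ne_zero

omit hp in
theorem z_central {g : Ω} (hg : g ∈ S) : g * z = z * g := by
  have hle : S ≤ Subgroup.centralizer ({z} : Set Ω) := by
    rw [← h.gen, Subgroup.closure_le]
    rintro a (rfl | rfl | rfl)
    · rw [SetLike.mem_coe, Subgroup.mem_centralizer_iff]
      rintro b rfl
      exact h.xz.symm
    · rw [SetLike.mem_coe, Subgroup.mem_centralizer_iff]
      rintro b rfl
      exact h.yz.symm
    · rw [SetLike.mem_coe, Subgroup.mem_centralizer_iff]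
      rintro b rfl
      rfl
  have h1 := hle hg
  rw [Subgroup.mem_centralizer_iff] at h1
  exact (h1 z rfl).symm

omit hp in
theorem zpowers_central {g c : Ω} (hg : g ∈ S) (hc : c ∈ Subgroup.zpowers z) : g * c = c * g := by
  obtain ⟨k, rfl⟩ := Subgroup.mem_zpowers_iff.1 hc
  exact ((Commute.zpow_right (show Commute g z from h.z_central hg) k)).eq

omit hp in
theorem c0_mem : C₀ ∈ Subgroup.zpowers z := Subgroup.pow_mem _ (Subgroup.mem_zpowers z) _

omit hp in
theorem conj_y_xpow (i : ℕ) : y * x ^ i = x ^ i * y * C₀ ^ i := by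
  induction i with
  | zero => simp
  | succ i ih =>
    have hyx : y * x = x * y * C₀ := by rw [mul_assoc, ← h.xy]; group
    have hc : C₀ ^ i * x = x * C₀ ^ i :=
      (h.zpowers_central h.x_mem (Subgroup.pow_mem _ h.c0_mem i)).symm
    calc y * x ^ (i + 1) = (y * x ^ i) * x := by rw [pow_succ]; group
      _ = x ^ i * y * C₀ ^ i * x := by rw [ih]
      _ = x ^ i * y * (C₀ ^ i * x) := by group
      _ = x ^ i * y * (x * C₀ ^ i) := by rw [hc]
      _ = x ^ i * (y * x) * C₀ ^ i := by group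
      _ = x ^ i * (x * y * C₀) * C₀ ^ i := by rw [hyx]
      _ = x ^ (i + 1) * y * C₀ ^ (i + 1) := by rw [pow_succ, pow_succ']; group

omit hp in
theorem nf_x {g : Ω} (hg : IsNF x y z g) : IsNF x y z (x * g) := by
  obtain ⟨i, j, c, hc, rfl⟩ := hg
  exact ⟨i + 1, j, c, hc, by rw [pow_succ']; group⟩

omit hp in
theorem nf_xpow (m : ℕ) {g : Ω} (hg : IsNF x y z g) : IsNF x y z (x ^ m * g) := by
  induction m with
  | zero => simpa using hg
  | succ m ih =>
    have := h.nf_x ih
    rwa [← mul_assoc, ← pow_succ'] at this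

omit hp in
theorem nf_y {g : Ω} (hg : IsNF x y z g) : IsNF x y z (y * g) := by
  obtain ⟨i, j, c, hc, rfl⟩ := hg
  refine ⟨i, j + 1, C₀ ^ i * c, Subgroup.mul_mem _ (Subgroup.pow_mem _ h.c0_mem i) hc, ?_⟩
  have hcy : C₀ ^ i * y ^ j = y ^ j * C₀ ^ i :=
    (h.zpowers_central (S.pow_mem h.y_mem j) (Subgroup.pow_mem _ h.c0_mem i)).symm
  calc y * (x ^ i * y ^ j * c) = (y * x ^ i) * y ^ j * c := by group
    _ = x ^ i * y * C₀ ^ i * y ^ j * c := by rw [h.conj_y_xpow]
    _ = x ^ i * y * (C₀ ^ i * y ^ j) * c := by group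
    _ = x ^ i * y * (y ^ j * C₀ ^ i) * c := by rw [hcy]
    _ = x ^ i * y ^ (j + 1) * (C₀ ^ i * c) := by rw [pow_succ']; group

omit hp in
theorem nf_ypow (m : ℕ) {g : Ω} (hg : IsNF x y z g) : IsNF x y z (y ^ m * g) := by
  induction m with
  | zero => simpa using hg
  | succ m ih =>
    have := h.nf_y ih
    rwa [← mul_assoc, ← pow_succ'] at this

omit hp in
theorem nf_z {g c' : Ω} (hc' : c' ∈ Subgroup.zpowers z) (hg : IsNF x y z g) :
    IsNF x y z (c' * g) := by
  obtain ⟨i, j, c, hc, rfl⟩ := hg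
  refine ⟨i, j, c' * c, Subgroup.mul_mem _ hc' hc, ?_⟩
  have e1 : c' * x ^ i = x ^ i * c' := (h.zpowers_central (S.pow_mem h.x_mem i) hc').symm
  have e2 : c' * y ^ j = y ^ j * c' := (h.zpowers_central (S.pow_mem h.y_mem j) hc').symm
  calc c' * (x ^ i * y ^ j * c) = (c' * x ^ i) * y ^ j * c := by group
    _ = x ^ i * (c' * y ^ j) * c := by rw [e1]; group
    _ = x ^ i * y ^ j * (c' * c) := by rw [e2]; group

theorem inv_x : x⁻¹ = x ^ (p - 1) := by
  have h1 : x ^ (p - 1) * x = 1 := by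
    rw [← pow_succ, Nat.sub_add_cancel hp.out.one_le, h.xp]
  exact (eq_inv_of_mul_eq_one_left h1).symm

theorem inv_y : y⁻¹ = y ^ (p - 1) := by
  have h1 : y ^ (p - 1) * y = 1 := by
    rw [← pow_succ, Nat.sub_add_cancel hp.out.one_le, h.yp]
  exact (eq_inv_of_mul_eq_one_left h1).symm

theorem exists_nf {g : Ω} (hg : g ∈ S) : IsNF x y z g := by
  rw [← h.gen] at hg
  induction hg using Subgroup.closure_induction_left with
  | one => exact ⟨0, 0, 1, Subgroup.one_mem _, by simp⟩
  | mul_left a ha b hb ih =>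
    rcases ha with rfl | rfl | rfl
    · exact h.nf_x ih
    · exact h.nf_y ih
    · exact h.nf_z (Subgroup.mem_zpowers _) ih
  | inv_mul_cancel a ha b hb ih =>
    rcases ha with rfl | rfl | rfl
    · rw [h.inv_x]; exact h.nf_xpow _ ih
    · rw [h.inv_y]; exact h.nf_ypow _ ih
    · exact h.nf_z (Subgroup.inv_mem _ (Subgroup.mem_zpowers _)) ih

theorem card_le : Nat.card S ≤ p * (p * orderOf z) := by
  have hfin := h.finite
  have hZS : Subgroup.zpowers z ≤ S := Subgroup.zpowers_le.2 h.z_mem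
  have hfinZ : Finite (Subgroup.zpowers z) := finite_of_le hZS
  let φ : Fin p × Fin p × Subgroup.zpowers z → S := fun t =>
    ⟨x ^ (t.1 : ℕ) * y ^ (t.2.1 : ℕ) * (t.2.2 : Ω),
      S.mul_mem (S.mul_mem (S.pow_mem h.x_mem _) (S.pow_mem h.y_mem _)) (hZS t.2.2.2)⟩
  have hφ : Function.Surjective φ := by
    rintro ⟨g, hg⟩
    obtain ⟨i, j, c, hc, rfl⟩ := h.exists_nf hg
    refine ⟨(⟨i % p, Nat.mod_lt _ hp.out.pos⟩, ⟨j % p, Nat.mod_lt _ hp.out.pos⟩, ⟨c, hc⟩), ?_⟩
    apply Subtype.ext
    show x ^ (i % p) * y ^ (j % p) * c = x ^ i * y ^ j * c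
    rw [← pow_eq_pow_mod i h.xp, ← pow_eq_pow_mod j h.yp]
  have := Nat.card_le_card_of_surjective φ hφ
  rw [Nat.card_prod, Nat.card_prod, Nat.card_fin, Nat.card_zpowers] at this
  exact this

theorem orderOf_z : orderOf z = p ^ (n - 2) := by
  have h1 : orderOf z ∣ p ^ (n - 2) := orderOf_dvd_of_pow_eq_one h.zp
  obtain ⟨k, hk, hkz⟩ := (Nat.dvd_prime_pow hp.out).1 h1
  have h2 := h.card_le
  rw [h.card, hkz] at h2
  have h3 : p ^ n ≤ p ^ (k + 2) := by
    have e : p ^ (k + 2) = p * (p * p ^ k) := by ring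
    rw [e]; exact h2
  have h4 : n ≤ k + 2 := (Nat.pow_le_pow_iff_right hp.out.one_lt).1 h3
  have hn := h.hn
  have h5 : k = n - 2 := by omega
  rw [hkz, h5]

theorem isPGroup : IsPGroup p S := IsPGroup.of_card h.card

/-- the case `n ≥ 4`: `S` is resistant -/
theorem isNormal (hn4 : 4 ≤ n) {F : FusionSystem S} (hF : F.IsSaturated p) : F.IsNormal S := by
  have hfin := h.finite
  have hS := h.isPGroup
  apply isNormal_top_of_centric_radical_eq hS hF
  intro P hfn hcen hrad
  have hPS : P ≤ S := hfn.1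
  have hfinP : Finite P := finite_of_le hPS
  have hcP : centralizerIn S P ≤ P := hcen.2 P (isConj_refl hPS)
  have hzP : z ∈ P := by
    apply hcP
    refine ⟨h.z_mem, ?_⟩
    show z ∈ Subgroup.centralizer (P : Set Ω)
    rw [Subgroup.mem_centralizer_iff]
    intro u hu
    exact h.z_central (hPS hu)
  by_contra hne
  have hlt : P < S := lt_of_le_of_ne hPS hne
  have hcard := RkTwoG.card_mul_le_of_lt hS hlt
  rw [h.card] at hcard
  have hp1 := hp.out.one_lt
  have e1 : p ^ n = p * (p * p ^ (n - 2)) := by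
    rw [← pow_succ', ← pow_succ']
    congr 1
    omega
  have hcardP : Nat.card P ≤ p * p ^ (n - 2) := by
    rw [e1] at hcard
    exact Nat.le_of_mul_le_mul_left hcard hp.out.pos
  -- `P` is abelian
  have hZP : Subgroup.zpowers z ≤ P := Subgroup.zpowers_le.2 hzP
  have hab : ∀ a ∈ P, ∀ b ∈ P, a * b = b * a := by
    let Z' : Subgroup P := (Subgroup.zpowers z).subgroupOf P
    have hZ'c : Z' ≤ Subgroup.center P := by
      intro c hc
      rw [Subgroup.mem_center_iff]
      intro g
      apply Subtype.ext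
      exact h.zpowers_central (hPS g.2) (Subgroup.mem_subgroupOf.1 hc)
    have hZ'n : Z'.Normal := by
      constructor
      intro c hc g
      have h1 := hZ'c hc
      rw [Subgroup.mem_center_iff] at h1
      rw [h1 g, mul_inv_cancel_right]
      exact hc
    have hcardZ' : Nat.card Z' = p ^ (n - 2) := by
      rw [Nat.card_congr (Subgroup.subgroupOfEquivOfLe hZP).toEquiv, Nat.card_zpowers, h.orderOf_z]
    have hidx : Z'.index ∣ p := by
      have h1 := Subgroup.card_mul_index Z'
      rw [hcardZ'] at h1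
      have hdvd : Z'.index ∣ Nat.card P := Subgroup.index_dvd_card _
      obtain ⟨k, hk⟩ := IsPGroup.iff_card.1 (hS.to_le hPS)
      rw [hk] at hdvd h1
      obtain ⟨m, -, hm⟩ := (Nat.dvd_prime_pow hp.out).1 hdvd
      rw [hm]
      rw [hm, ← pow_add] at h1
      have h2 : n - 2 + m = k := Nat.pow_right_injective hp.out.two_le h1
      rw [hk] at hcardP
      have h3 : p ^ k ≤ p ^ (n - 2 + 1) := by rw [pow_succ']; exact hcardP
      have h4 : k ≤ n - 2 + 1 := (Nat.pow_le_pow_iff_right hp1).1 h3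
      have h5 : m ≤ 1 := by omega
      exact pow_dvd_pow p h5 |>.trans (by rw [pow_one])
    have hcyc : IsCyclic (P ⧸ Z') := by
      have hcq : Nat.card (P ⧸ Z') = Z'.index := (Subgroup.index_eq_card _).symm
      rcases (Nat.dvd_prime hp.out).1 hidx with h1 | h1
      · rw [h1] at hcq
        have : Subsingleton (P ⧸ Z') := (Nat.card_eq_one_iff_unique.1 hcq).1
        exact isCyclic_of_subsingleton
      · rw [h1] at hcq
        exact isCyclic_of_prime_card hcq
    have hcomm : IsMulCommutative P :=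
      (QuotientGroup.mk' Z').isMulCommutative_of_isCyclic_of_ker_le_center
        (by rw [QuotientGroup.ker_mk']; exact hZ'c)
    intro a ha b hb
    exact congrArg Subtype.val (hcomm.is_comm.comm ⟨a, ha⟩ ⟨b, hb⟩)
  apply hne
  apply eq_top_of_abelian_of_cyclic_index hS hF hfn hcen hrad hab z hzP
  · rw [h.orderOf_z]; exact hcardP
  · rintro ⟨-, hexp⟩
    have h1 := orderOf_dvd_of_pow_eq_one (hexp z hzP)
    rw [h.orderOf_z] at h1
    have h2 : p ^ 2 ≤ p ^ (n - 2) := Nat.pow_le_pow_right hp.out.pos (by omega)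
    have h3 := Nat.le_of_dvd hp.out.pos h1
    nlinarith

end CData

end Cfsg.Agent.Helper73.RkTwoC
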