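import Mathlib
import Cfsg.Prelude.Def_FusionSystem
import Cfsg.Agent.Lib.Helper73.RkTwoC

/-! # `C(p, 3)` has exponent `p` -/

set_option autoImplicit false

namespace Cfsg.Agent.Helper73.RkTwoC

open Cfsg Cfsg.FusionSystem

variable {Ω : Type*} [Group Ω]

namespace CData

variable {p n : ℕ} [hp : Fact p.Prime] {S : Subgroup Ω} {x y z : Ω}

local notation "C₀" => z ^ p ^ (n - 3)

variable (h : CData p n S x y z)
include h

omit hp in
theorem conj_ypow_xpow (i j : ℕ) : y ^ j * x ^ i = x ^ i * y ^ j * C₀ ^ (i * j) := by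
  induction j with
  | zero => simp
  | succ j ih =>
    have hcy : C₀ ^ i * y ^ j = y ^ j * C₀ ^ i :=
      (h.zpowers_central (S.pow_mem h.y_mem j) (Subgroup.pow_mem _ h.c0_mem i)).symm
    calc y ^ (j + 1) * x ^ i = y * (y ^ j * x ^ i) := by rw [pow_succ']; group
      _ = y * (x ^ i * y ^ j * C₀ ^ (i * j)) := by rw [ih]
      _ = (y * x ^ i) * y ^ j * C₀ ^ (i * j) := by group
      _ = x ^ i * y * C₀ ^ i * y ^ j * C₀ ^ (i * j) := by rw [h.conj_y_xpow]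
      _ = x ^ i * y * (C₀ ^ i * y ^ j) * C₀ ^ (i * j) := by group
      _ = x ^ i * y * (y ^ j * C₀ ^ i) * C₀ ^ (i * j) := by rw [hcy]
      _ = x ^ i * y ^ (j + 1) * C₀ ^ (i * (j + 1)) := by
          rw [pow_succ', Nat.mul_succ, pow_add, pow_mul_comm C₀ (i * j) i]; group

theorem pow_eq_one_of_three (hn3 : n = 3) (hp2 : p ≠ 2) {g : Ω} (hg : g ∈ S) : g ^ p = 1 := by
  have hzp : z ^ p = 1 := by
    have := h.zp
    rw [hn3] at this
    simpa using this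
  have hcp : ∀ c ∈ Subgroup.zpowers z, c ^ p = 1 := by
    intro c hc
    obtain ⟨k, rfl⟩ := Subgroup.mem_zpowers_iff.1 hc
    rw [← zpow_natCast, ← zpow_mul, mul_comm, zpow_mul, zpow_natCast, hzp, one_zpow]
  obtain ⟨i, j, c, hc, rfl⟩ := h.exists_nf hg
  have hZS : Subgroup.zpowers z ≤ S := Subgroup.zpowers_le.2 h.z_mem
  have haS : x ^ i ∈ S := S.pow_mem h.x_mem i
  have hbS : y ^ j * c ∈ S := S.mul_mem (S.pow_mem h.y_mem j) (hZS hc)
  -- the commutator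
  have hd : (y ^ j * c)⁻¹ * (x ^ i)⁻¹ * (y ^ j * c) * x ^ i = C₀ ^ (i * j) := by
    have e1 : c * x ^ i = x ^ i * c := (h.zpowers_central haS hc).symm
    have e2 : C₀ ^ (i * j) * c = c * C₀ ^ (i * j) :=
      h.zpowers_central (hZS (Subgroup.pow_mem _ h.c0_mem _)) hc
    calc (y ^ j * c)⁻¹ * (x ^ i)⁻¹ * (y ^ j * c) * x ^ i
        = c⁻¹ * (y ^ j)⁻¹ * (x ^ i)⁻¹ * y ^ j * (c * x ^ i) := by group
      _ = c⁻¹ * (y ^ j)⁻¹ * (x ^ i)⁻¹ * y ^ j * (x ^ i * c) := by rw [e1]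
      _ = c⁻¹ * (y ^ j)⁻¹ * (x ^ i)⁻¹ * (y ^ j * x ^ i) * c := by group
      _ = c⁻¹ * (y ^ j)⁻¹ * (x ^ i)⁻¹ * (x ^ i * y ^ j * C₀ ^ (i * j)) * c := by
          rw [h.conj_ypow_xpow]
      _ = c⁻¹ * (C₀ ^ (i * j) * c) := by group
      _ = c⁻¹ * (c * C₀ ^ (i * j)) := by rw [e2]
      _ = C₀ ^ (i * j) := by group
  have hdZ : C₀ ^ (i * j) ∈ Subgroup.zpowers z := Subgroup.pow_mem _ h.c0_mem _
  let a : S := ⟨x ^ i, haS⟩
  let b : S := ⟨y ^ j * c, hbS⟩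
  have hdc : ∀ w : S, Commute (b⁻¹ * a⁻¹ * b * a) w := by
    intro w
    apply Subtype.ext
    show (y ^ j * c)⁻¹ * (x ^ i)⁻¹ * (y ^ j * c) * x ^ i * (w : Ω) =
      (w : Ω) * ((y ^ j * c)⁻¹ * (x ^ i)⁻¹ * (y ^ j * c) * x ^ i)
    rw [hd]
    exact (h.zpowers_central w.2 hdZ).symm
  have hdp : (b⁻¹ * a⁻¹ * b * a) ^ p = 1 := by
    apply Subtype.ext
    show ((y ^ j * c)⁻¹ * (x ^ i)⁻¹ * (y ^ j * c) * x ^ i) ^ p = 1
    rw [hd]
    exact hcp _ hdZ
  have hsum : p ∣ ∑ i ∈ Finset.range p, i := by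
    have h1 := Finset.sum_range_id_mul_two p
    have h2 : p ∣ (∑ i ∈ Finset.range p, i) * 2 := by
      rw [h1]; exact dvd_mul_right _ _
    have hcop : Nat.Coprime p 2 := by
      rw [Nat.coprime_comm]
      exact (Nat.coprime_primes Nat.prime_two hp.out).2 (Ne.symm hp2)
    exact hcop.dvd_of_dvd_mul_right h2
  have hap : a ^ p = 1 := by
    apply Subtype.ext
    show (x ^ i) ^ p = 1
    rw [← pow_mul, mul_comm, pow_mul, h.xp, one_pow]
  have hbp : b ^ p = 1 := by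
    apply Subtype.ext
    show (y ^ j * c) ^ p = 1
    have hcomm : Commute (y ^ j) c := h.zpowers_central (S.pow_mem h.y_mem j) hc
    rw [hcomm.mul_pow, hcp c hc, mul_one, ← pow_mul, mul_comm, pow_mul, h.yp, one_pow]
  have key := Cfsg.Agent.Helper73.mul_pow_class_two a b hdc p
  obtain ⟨t, ht⟩ := hsum
  rw [hap, hbp, ht, pow_mul, hdp, one_pow, mul_one, mul_one] at key
  have key' := congrArg Subtype.val key
  rw [mul_assoc]
  exact key'

theorem exponent_eq (hn3 : n = 3) (hp2 : p ≠ 2) : Monoid.exponent ↥S = p := by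
  have hall : ∀ g : S, g ^ p = 1 := fun g => Subtype.ext (h.pow_eq_one_of_three hn3 hp2 g.2)
  have hdvd : Monoid.exponent ↥S ∣ p := Monoid.exponent_dvd_of_forall_pow_eq_one hall
  rcases (Nat.dvd_prime hp.out).1 hdvd with h1 | h1
  · exfalso
    have hsub : Subsingleton S := Monoid.exp_eq_one_iff.1 h1
    have hc1 : Nat.card S = 1 := Nat.card_eq_one_iff_unique.2 ⟨hsub, ⟨1⟩⟩
    rw [h.card] at hc1
    have := Nat.one_lt_pow (by have := h.hn; omega) hp.out.one_lt (n := n)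
    omega
  · exact h1

end CData

end Cfsg.Agent.Helper73.RkTwoC
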