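import Mathlib
import Cfsg.Prelude.Def_FusionSystem
import Cfsg.Agent.Lib.Helper73.RkTwoG4
import Cfsg.Agent.Lib.Helper73.RkTwoFus
import Cfsg.Agent.Lib.Helper87.FusionEssential

/-! # `G(p, n; s)` is resistant for `p ≥ 5` -/

set_option autoImplicit false

namespace Cfsg.Agent.Helper73.RkTwoG

open Cfsg Cfsg.FusionSystem Cfsg.Agent.Helper87 Cfsg.Agent.Helper83 Cfsg.Agent.Helper73.RkTwoFus

theorem torus_arith {p : ℕ} (hp5 : 5 ≤ p) (hodd : p % 2 = 1) :
    ¬ (1 ≡ ((p + 1) / 2) * ((p + 1) / 2) [MOD p]) := by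
  intro h
  obtain ⟨m, hm⟩ : ∃ m, p + 1 = 2 * m := ⟨(p + 1) / 2, by omega⟩
  have hm' : (p + 1) / 2 = m := by omega
  rw [hm'] at h
  have h4 : 4 * 1 ≡ 4 * (m * m) [MOD p] := Nat.ModEq.mul_left 4 h
  have h5 : 4 * (m * m) = (p + 1) * (p + 1) := by rw [hm]; ring
  have h6 : (p + 1) * (p + 1) ≡ 1 [MOD p] := by
    have h7 : (p + 1) ≡ 1 [MOD p] := by
      show (p + 1) % p = 1 % p
      rw [Nat.add_mod_left]
    simpa using h7.mul h7
  rw [h5, mul_one] at h4
  have h7 : 4 ≡ 1 [MOD p] := h4.trans h6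
  have h8 : p ∣ 4 - 1 := (Nat.modEq_iff_dvd' (by norm_num)).1 h7.symm
  have := Nat.le_of_dvd (by norm_num) h8
  omega

/-- a subgroup of index `p` in a finite `p`-group is normal -/
theorem le_normalizer_of_index_prime {Ω : Type*} [Group Ω] {p : ℕ} [hp : Fact p.Prime]
    {S Q : Subgroup Ω} [Finite S] (hS : IsPGroup p S) (hQS : Q ≤ S)
    (hidx : p * Nat.card Q = Nat.card S) : S ≤ Subgroup.normalizer (Q : Set Ω) := by
  have hfinQ : Finite Q := finite_of_le hQS
  have hN : (Q.subgroupOf S).Normal := by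
    apply Subgroup.normal_of_index_eq_minFac_card
    have h1 := Subgroup.card_mul_index (Q.subgroupOf S)
    have h2 : Nat.card (Q.subgroupOf S) = Nat.card Q :=
      Nat.card_congr (Subgroup.subgroupOfEquivOfLe hQS).toEquiv
    obtain ⟨a, ha⟩ := IsPGroup.iff_card.1 hS
    rw [h2, ← hidx, mul_comm p] at h1
    have hpos : 0 < Nat.card Q := Nat.card_pos
    have h3 : (Q.subgroupOf S).index = p := Nat.eq_of_mul_eq_mul_left hpos h1
    rw [h3, ha]
    have ha0 : a ≠ 0 := by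
      rintro rfl
      rw [pow_zero] at ha
      rw [ha] at hidx
      have := hp.out.one_lt
      nlinarith
    exact (Nat.Prime.pow_minFac hp.out ha0).symm
  intro s hs
  have hfin : Finite (Q : Set Ω) := hfinQ
  apply Subgroup.mem_normalizer_fintype
  intro v hv
  have := hN.conj_mem ⟨v, hQS hv⟩ (Subgroup.mem_subgroupOf.2 hv) ⟨s, hs⟩
  exact Subgroup.mem_subgroupOf.1 this

/-- `Q` is a maximal subgroup of `Φ`-type: it contains `Φ = ⟨y, z^p⟩` and an element outside `A`,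
and meets `A` in `Φ` -/
structure PhiType {Ω : Type*} [Group Ω] (p : ℕ) (S : Subgroup Ω) (x y z : Ω) (Q : Subgroup Ω)
    (i : ℕ) (g : Ω) : Prop where
  le : Q ≤ S
  hg : InCoset x y z i g
  hi : ¬ p ∣ i
  gmem : g ∈ Q
  ymem : y ∈ Q
  zpmem : z ^ p ∈ Q
  inf_le : Q ⊓ subA y z ≤ subPhi p y z

namespace GData

variable {Ω : Type*} [Group Ω] {p n s : ℕ} [hp : Fact p.Prime] {S : Subgroup Ω} {x y z : Ω}

local notation "W" => z ^ (s * p ^ (n - 3))

variable (h : GData p n s S x y z)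
include h

theorem isAutOn_of_mor {F : FusionSystem S} {f : Ω → Ω} (hf : Mor F S f) : IsAutOn S f :=
  ⟨fun _ ha => hf.mem ha, fun _ ha _ hb => hf.map_mul ha hb, fun _ ha _ hb hab => hf.inj ha hb hab⟩

theorem no_torus (hp5 : 5 ≤ p) {F : FusionSystem S} {f : Ω → Ω} (hf : Mor F S f) {i : ℕ} {g : Ω}
    (hg : InCoset x y z i g) (hi : ¬ p ∣ i)
    (hm : ∃ a₁ ∈ subA y z, f g = g ^ ((p + 1) / 2) * a₁) : False := by
  have hodd : p % 2 = 1 := by
    rcases hp.out.eq_two_or_odd with h2 | h2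
    · omega
    · exact h2
  exact torus_arith hp5 hodd (h.aut_constraint (h.isAutOn_of_mor hf) hg hi hm)

theorem not_mem_subA_of {i : ℕ} {g : Ω} (hg : InCoset x y z i g) (hi : ¬ p ∣ i) :
    g ∉ subA y z := fun hgA => hi (h.dvd_of_inCoset_of_mem hg hgA)

/-- `p`-th powers land in `⟨z^p⟩` -/
theorem pow_mem_zpowers {Q : Subgroup Ω} (hQS : Q ≤ S) (hQA : Q ⊓ subA y z ≤ subPhi p y z) {a : Ω}
    (ha : a ∈ Q) : a ^ p ∈ Subgroup.zpowers (z ^ p) := by
  obtain ⟨ia, hia⟩ := h.mem_iff_inCoset.1 (hQS ha)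
  by_cases hd : p ∣ ia
  · have haA : a ∈ subA y z := h.mem_subA_of_inCoset hia hd
    obtain ⟨j, k, rfl⟩ := h.mem_subPhi_iff.1 (hQA ⟨ha, haA⟩)
    rw [(h.comm_ypow_zpow j (p * k)).mul_pow, ← pow_mul, h.y_pow_of_dvd (Dvd.intro_left _ rfl),
      one_mul, ← pow_mul, mul_comm (p * k), pow_mul]
    exact Subgroup.pow_mem _ (Subgroup.mem_zpowers _) _
  · have h1 : a ^ p ∈ subA y z :=
      h.mem_subA_of_inCoset (h.inCoset_pow hia p) (Dvd.intro_left _ rfl)
    exact h.cent hia hd h1 (pow_mul_comm' a p)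

end GData

namespace PhiType

variable {Ω : Type*} [Group Ω] {p n s : ℕ} [hp : Fact p.Prime] {S : Subgroup Ω} {x y z : Ω}
  {Q : Subgroup Ω} {i : ℕ} {g : Ω}

local notation "W" => z ^ (s * p ^ (n - 3))

variable (hQ : PhiType p S x y z Q i g) (h : GData p n s S x y z)
include hQ h

theorem z_not_mem : z ∉ Q := fun hz =>
  h.z_not_mem_subPhi (hQ.inf_le ⟨hz, GData.z_mem_subA⟩)

theorem subPhi_le : subPhi p y z ≤ Q := by
  unfold subPhi
  rw [Subgroup.closure_le]
  rintro a (rfl | rfl)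
  · exact hQ.ymem
  · exact hQ.zpmem

theorem card : Nat.card Q = p ^ (n - 1) := by
  have hfin := h.finite
  have hS := h.isPGroup
  have hfinQ : Finite Q := finite_of_le hQ.le
  have hfinP : Finite (subPhi p y z) := finite_of_le ((hQ.subPhi_le h).trans hQ.le)
  have h1 : Subgroup.zpowers (z ^ p) < subPhi p y z := by
    refine lt_of_le_of_ne (Subgroup.zpowers_le.2 GData.zp_mem_subPhi) ?_
    intro heq
    apply h.y_not_mem_zpowers
    rw [heq]
    exact GData.y_mem_subPhi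
  have h2 : subPhi p y z < Q := by
    refine lt_of_le_of_ne (hQ.subPhi_le h) ?_
    intro heq
    apply h.not_mem_subA_of hQ.hg hQ.hi
    apply h.subPhi_le_subA
    rw [heq]
    exact hQ.gmem
  have h3 : Q < S := by
    refine lt_of_le_of_ne hQ.le ?_
    intro heq
    apply hQ.z_not_mem h
    rw [heq]
    exact h.z_mem
  have c1 := card_mul_le_of_lt (hS.to_le ((hQ.subPhi_le h).trans hQ.le)) h1
  have c2 := card_mul_le_of_lt (hS.to_le hQ.le) h2
  have c3 := card_mul_le_of_lt hS h3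
  rw [Nat.card_zpowers, h.orderOf_zp] at c1
  rw [h.card] at c3
  have hn4 := h.hn
  have e1 : p ^ (n - 1) = p * (p * p ^ (n - 3)) := by
    rw [← pow_succ', ← pow_succ']
    congr 1
    omega
  have e2 : p ^ n = p * p ^ (n - 1) := by
    rw [← pow_succ']
    congr 1
    omega
  apply le_antisymm
  · rw [e2] at c3
    exact Nat.le_of_mul_le_mul_left c3 hp.out.pos
  · rw [e1]
    exact (Nat.mul_le_mul_left p c1).trans c2

theorem le_normalizer : S ≤ Subgroup.normalizer (Q : Set Ω) := by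
  have hfin := h.finite
  apply le_normalizer_of_index_prime h.isPGroup hQ.le
  rw [hQ.card h, h.card, ← pow_succ']
  congr 1
  have := h.hn
  omega

theorem normalizerIn_eq : normalizerIn S Q = S := inf_eq_left.2 (hQ.le_normalizer h)

theorem mem_center_iff (c : Q) : c ∈ Subgroup.center Q ↔ (c : Ω) ∈ Subgroup.zpowers (z ^ p) := by
  constructor
  · intro hc
    rw [Subgroup.mem_center_iff] at hc
    have hy : y * (c : Ω) = (c : Ω) * y := congrArg Subtype.val (hc ⟨y, hQ.ymem⟩)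
    have hgc : g * (c : Ω) = (c : Ω) * g := congrArg Subtype.val (hc ⟨g, hQ.gmem⟩)
    obtain ⟨ic, hic⟩ := h.mem_iff_inCoset.1 (hQ.le c.2)
    have h1 := h.conj_y hic
    have h2 : (c : Ω)⁻¹ * y * (c : Ω) = y := by
      rw [mul_assoc, hy]; group
    rw [h2] at h1
    have h3 : W ^ ic = 1 := by
      have := mul_left_cancel (a := y) (b := 1) (c := W ^ ic) (by rw [mul_one]; exact h1)
      exact this.symm
    have hcA : (c : Ω) ∈ subA y z := h.mem_subA_of_inCoset hic (h.wpow_eq_one_iff.1 h3)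
    exact h.cent hQ.hg hQ.hi hcA hgc.symm
  · intro hc
    rw [Subgroup.mem_center_iff]
    intro u
    apply Subtype.ext
    exact h.zpowers_zp_central (hQ.le u.2) hc

/-- the key step: `Aut_S(Q)` is normal in `Aut_F(Q)` -/
theorem autInducedBy_normal (hp5 : 5 ≤ p) {F : FusionSystem S} (hF : F.IsSaturated p) :
    ∀ α ∈ F.autGroup Q, ∀ τ ∈ autInducedBy S Q, α * τ * α⁻¹ ∈ autInducedBy S Q := by
  by_contra hnn
  have hfin := h.finite
  have hS := h.isPGroup
  have hp2 : p ≠ 2 := by omega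
  have hN := hQ.le_normalizer h
  have hNS : normalizerIn S Q = S := hQ.normalizerIn_eq h
  have hfn : F.IsFullyNormalized Q := fullyNormalized_of_le_normalizer F hQ.le hN
  have hcard : Nat.card Q = p ^ 2 * Nat.card (Subgroup.zpowers (z ^ p)) := by
    rw [hQ.card h, Nat.card_zpowers, h.orderOf_zp, ← pow_add]
    congr 1
    have := h.hn
    omega
  have hcomm : ∀ s ∈ S, ∀ v ∈ Q, v⁻¹ * (s * v * s⁻¹) ∈ Q ⊓ subA y z := by
    intro s hs v hv
    refine ⟨Q.mul_mem (Q.inv_mem hv) ((Subgroup.mem_normalizer_iff.1 (hN hs) v).1 hv), ?_⟩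
    have := h.comm_mem_subA (hQ.le hv) hs
    have e : v⁻¹ * (s * v * s⁻¹) = v⁻¹ * s * v * s⁻¹ := by group
    rw [e]
    exact this
  obtain ⟨b, hb, -, -, hbv⟩ := exists_torus_mor hp2 hS hF hfn hnn (Subgroup.zpowers (z ^ p))
    (Subgroup.zpowers_le.2 hQ.zpmem)
    (fun u hu c hc => by
      rw [h.zpowers_zp_central (hQ.le hu) hc, mul_inv_cancel_right]
      exact hc)
    (fun α c hc => by
      rw [← hQ.mem_center_iff h] at hc ⊢
      rw [Subgroup.mem_center_iff] at hc ⊢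
      intro u
      have e1 : u = α (α⁻¹ u) := by simp
      rw [e1, ← map_mul, ← map_mul, hc])
    (fun s hs c hc => by
      rw [h.zpowers_zp_central hs.1 hc, mul_inv_cancel_right])
    hcard
    (fun a ha => h.pow_mem_zpowers hQ.le hQ.inf_le ha)
    y hQ.ymem h.y_not_mem_zpowers
    (fun s hs => by
      obtain ⟨i', hi'⟩ := h.mem_iff_inCoset.1 (S.inv_mem hs.1)
      have h1 := h.conj_y hi'
      rw [inv_inv] at h1
      rw [h1, inv_mul_cancel_left]
      exact Subgroup.pow_mem _ h.w_mem_zpowers _)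
    (fun s hs v hv => by
      obtain ⟨j, k, hjk⟩ := h.mem_subPhi_iff.1 (hQ.inf_le (hcomm s hs.1 v hv))
      refine ⟨(j : ℤ), ?_⟩
      rw [hjk, zpow_natCast, inv_mul_cancel_left, pow_mul]
      exact Subgroup.pow_mem _ (Subgroup.mem_zpowers _) _)
    (by
      refine ⟨z, by rw [hNS]; exact h.z_mem, g, hQ.gmem, ?_⟩
      obtain ⟨t, ht⟩ := h.conj_z hQ.hg
      have e : g⁻¹ * (z * g * z⁻¹) = (g⁻¹ * z * g) * z⁻¹ := by group
      rw [e, ht]
      have hyw : y ^ i * W ^ t ∈ subA y z :=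
        (subA y z).mul_mem ((subA y z).pow_mem GData.y_mem_subA _) ((subA y z).pow_mem GData.w_mem_subA _)
      have e2 : z * y ^ i * W ^ t * z⁻¹ = y ^ i * W ^ t := by
        rw [mul_assoc z, h.subA_comm GData.z_mem_subA hyw, mul_inv_cancel_right]
      rw [e2, ← pow_mul]
      exact h.ypow_mul_not_mem_zpowers hQ.hi)
  rw [hNS] at hb
  obtain ⟨k, hk⟩ := hbv g hQ.gmem
  refine h.no_torus hp5 hb hQ.hg hQ.hi ⟨(g ^ ((p + 1) / 2))⁻¹ * b g, ?_, by group⟩
  have h1 : (g ^ ((p + 1) / 2))⁻¹ * b g = y ^ k * ((y ^ k)⁻¹ * ((g ^ ((p + 1) / 2))⁻¹ * b g)) := by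
    group
  rw [h1]
  exact (subA y z).mul_mem ((subA y z).zpow_mem GData.y_mem_subA k) (h.zpowers_zp_le_subA hk)

end PhiType

end Cfsg.Agent.Helper73.RkTwoG
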