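import Mathlib
import Cfsg.Prelude.Def_FusionSystem
import Cfsg.Agent.Lib.Helper73.RkTwoGMain

/-! # `G(p, n; s)` is resistant for `p ≥ 5`: the main argument -/

set_option autoImplicit false

namespace Cfsg.Agent.Helper73.RkTwoG

open Cfsg Cfsg.FusionSystem Cfsg.Agent.Helper87 Cfsg.Agent.Helper83 Cfsg.Agent.Helper73.RkTwoFus

namespace GData

variable {Ω : Type*} [Group Ω] {p n s : ℕ} [hp : Fact p.Prime] {S : Subgroup Ω} {x y z : Ω}

local notation "W" => z ^ (s * p ^ (n - 3))

variable (h : GData p n s S x y z)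
include h

theorem conj_g_by_y {i : ℕ} {g : Ω} (hg : InCoset x y z i g) : y * g * y⁻¹ = g * W ^ i := by
  have h1 := h.conj_y hg
  have hc : y * W ^ i = W ^ i * y := ((h.comm_y_zpow _).pow_right i).eq
  calc y * g * y⁻¹ = g * (g⁻¹ * y * g) * y⁻¹ := by group
    _ = g * (y * W ^ i) * y⁻¹ := by rw [h1]
    _ = g * (W ^ i * y) * y⁻¹ := by rw [hc]
    _ = g * W ^ i := by group

/-- there is no `F`-centric radical elementary abelian subgroup of order `p²` not contained in `A` -/
theorem no_pearl (hp5 : 5 ≤ p) {F : FusionSystem S} (hF : F.IsSaturated p) {P : Subgroup Ω}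
    (hfn : F.IsFullyNormalized P) (hcen : F.IsCentric P) (hrad : F.IsRadical p P)
    (hcard : Nat.card P = p ^ 2) (hexp : ∀ a ∈ P, a ^ p = 1)
    {i : ℕ} {g : Ω} (hg : InCoset x y z i g) (hi : ¬ p ∣ i) (hgP : g ∈ P) (hzp : z ^ p ∈ P)
    (hPA : P ⊓ subA y z ≤ Subgroup.zpowers (z ^ p)) : False := by
  have hfin := h.finite
  have hS := h.isPGroup
  have hPS : P ≤ S := hfn.1
  have hp2 : p ≠ 2 := by omega
  have hn4 := h.hn
  have hneS : P ≠ S := by
    intro heq
    rw [heq, h.card] at hcard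
    have := Nat.pow_right_injective hp.out.two_le hcard
    omega
  have hnn := not_normal_of_radical hS hF hfn hcen hrad hneS
  have hYP : Subgroup.zpowers (z ^ p) ≤ P := Subgroup.zpowers_le.2 hzp
  have hcomm : ∀ s ∈ normalizerIn S P, ∀ v ∈ P,
      v⁻¹ * (s * v * s⁻¹) ∈ Subgroup.zpowers (z ^ p) := by
    intro s hs v hv
    apply hPA
    refine ⟨P.mul_mem (P.inv_mem hv) ((Subgroup.mem_normalizer_iff.1 hs.2 v).1 hv), ?_⟩
    have := h.comm_mem_subA (hPS hv) hs.1
    have e : v⁻¹ * (s * v * s⁻¹) = v⁻¹ * s * v * s⁻¹ := by group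
    rw [e]
    exact this
  have hWP : W ^ i ∈ P := hYP (Subgroup.pow_mem _ h.w_mem_zpowers _)
  have hyN : y ∈ normalizerIn S P := by
    refine ⟨h.y_mem, ?_⟩
    have : Finite (P : Set Ω) := finite_of_le hPS
    apply Subgroup.mem_normalizer_fintype
    intro u hu
    obtain ⟨r, hr⟩ := h.exists_pow_coset hPS hg hi hgP hu
    have hc := hPA hr
    have hyc : y * (u * (g ^ r)⁻¹) = (u * (g ^ r)⁻¹) * y := h.zpowers_zp_central h.y_mem hc
    have e : y * u * y⁻¹ = (u * (g ^ r)⁻¹) * (y * g * y⁻¹) ^ r := by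
      rw [conj_pow]
      calc y * u * y⁻¹ = (y * (u * (g ^ r)⁻¹)) * g ^ r * y⁻¹ := by group
        _ = ((u * (g ^ r)⁻¹) * y) * g ^ r * y⁻¹ := by rw [hyc]
        _ = (u * (g ^ r)⁻¹) * (y * g ^ r * y⁻¹) := by group
    show y * u * y⁻¹ ∈ P
    rw [e, h.conj_g_by_y hg]
    exact P.mul_mem hr.1 (P.pow_mem (P.mul_mem hgP hWP) r)
  obtain ⟨b, hb, hbiso, -, hbv⟩ := exists_torus_mor hp2 hS hF hfn hnn (⊥ : Subgroup Ω) bot_le
    (fun u _ c hc => by
      rw [Subgroup.mem_bot] at hc ⊢
      rw [hc]; simp)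
    (fun α c hc => by
      rw [Subgroup.mem_bot] at hc ⊢
      have : c = 1 := Subtype.ext hc
      rw [this, map_one]; rfl)
    (fun u _ c hc => by
      rw [Subgroup.mem_bot] at hc
      rw [hc]; simp)
    (by rw [Subgroup.card_bot, mul_one]; exact hcard)
    (fun a ha => by rw [Subgroup.mem_bot]; exact hexp a ha)
    (z ^ p) hzp (by rw [Subgroup.mem_bot]; exact h.z_pow_ne_one)
    (fun u hu => by
      rw [Subgroup.mem_bot, h.zp_central hu.1]; group)
    (fun u hu v hv => by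
      obtain ⟨k, hk⟩ := Subgroup.mem_zpowers_iff.1 (hcomm u hu v hv)
      refine ⟨k, ?_⟩
      rw [Subgroup.mem_bot, hk, inv_mul_cancel])
    (by
      refine ⟨y, hyN, g, hgP, ?_⟩
      rw [Subgroup.mem_bot, h.conj_g_by_y hg, inv_mul_cancel_left, h.wpow_eq_one_iff]
      exact hi)
  -- the normalizer of `P` is of `Φ`-type
  have hQ : PhiType p S x y z (normalizerIn S P) i g := by
    refine ⟨inf_le_left, hg, hi, le_normalizerIn hPS hgP, hyN, le_normalizerIn hPS hzp, ?_⟩
    have hnorm : ∀ b ∈ normalizerIn S P ⊓ subA y z, g⁻¹ * b * g ∈ normalizerIn S P ⊓ subA y z :=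
      fun b hb => ⟨(normalizerIn S P).mul_mem ((normalizerIn S P).mul_mem
        ((normalizerIn S P).inv_mem (le_normalizerIn hPS hgP)) hb.1) (le_normalizerIn hPS hgP),
        h.conj_mem_subA hg hb.2⟩
    rcases h.trichotomy inf_le_right ⟨le_normalizerIn hPS hzp, h.zp_mem_subA⟩ hg hi hnorm with
      h1 | h2 | h3
    · exfalso
      have hz : z ∈ normalizerIn S P := (h1 z_mem_subA).1
      have h4 := hcomm z hz g hgP
      obtain ⟨t, ht⟩ := h.conj_z hg
      have e : g⁻¹ * (z * g * z⁻¹) = (g⁻¹ * z * g) * z⁻¹ := by group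
      rw [e, ht] at h4
      have hyw : y ^ i * W ^ t ∈ subA y z :=
        (subA y z).mul_mem ((subA y z).pow_mem y_mem_subA _) ((subA y z).pow_mem w_mem_subA _)
      have e2 : z * y ^ i * W ^ t * z⁻¹ = y ^ i * W ^ t := by
        rw [mul_assoc z, h.subA_comm z_mem_subA hyw, mul_inv_cancel_right]
      rw [e2, ← pow_mul] at h4
      exact h.ypow_mul_not_mem_zpowers hi h4
    · exact h2.2
    · exfalso
      exact h.y_not_mem_zpowers (h3 ⟨hyN, y_mem_subA⟩)
  have hQn := hQ.le_normalizer h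
  have hfnQ : F.IsFullyNormalized (normalizerIn S P) :=
    fullyNormalized_of_le_normalizer F hQ.le hQn
  have hall := hQ.autInducedBy_normal h hp5 hF
  have hbQ : Iso F (normalizerIn S P) (normalizerIn S P) b :=
    iso_of_card_le hb hQ.le (fun m hm => map_normalizerIn hb hbiso hm) le_rfl
  obtain ⟨f, hf, hfb⟩ := exists_extension_of_normal hS hF hfnQ hall hbQ
  rw [hQ.normalizerIn_eq h] at hf
  obtain ⟨k, hk⟩ := hbv g hgP
  rw [Subgroup.mem_bot, inv_mul_eq_one] at hk
  refine h.no_torus hp5 hf hg hi ⟨(g ^ ((p + 1) / 2))⁻¹ * b g, ?_, ?_⟩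
  · rw [← hk]
    exact (subA y z).zpow_mem h.zp_mem_subA k
  · rw [hfb g (le_normalizerIn hPS hgP)]; group

/-- the main theorem for `G(p, n; s)` -/
theorem isNormal (hp5 : 5 ≤ p) {F : FusionSystem S} (hF : F.IsSaturated p) : F.IsNormal S := by
  have hfin := h.finite
  have hS := h.isPGroup
  apply isNormal_top_of_centric_radical_eq hS hF
  intro P hfn hcen hrad
  have hPS : P ≤ S := hfn.1
  have hcP : centralizerIn S P ≤ P := hcen.2 P (isConj_refl hPS)
  have hzp : z ^ p ∈ P := by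
    apply hcP
    refine ⟨S.pow_mem h.z_mem p, ?_⟩
    show z ^ p ∈ Subgroup.centralizer (P : Set Ω)
    rw [Subgroup.mem_centralizer_iff]
    intro u hu
    exact h.zp_central (hPS hu)
  by_cases hPA : P ≤ subA y z
  · have hAP : subA y z ≤ P := by
      intro a ha
      apply hcP
      refine ⟨h.subA_le ha, ?_⟩
      show a ∈ Subgroup.centralizer (P : Set Ω)
      rw [Subgroup.mem_centralizer_iff]
      intro u hu
      exact h.subA_comm (hPA hu) ha
    have hPeq : P = subA y z := le_antisymm hPA hAP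
    apply eq_top_of_abelian_of_cyclic_index hS hF hfn hcen hrad
      (fun a ha b hb => h.subA_comm (hPA ha) (hPA hb)) z (hAP z_mem_subA)
    · rw [hPeq]; exact h.card_subA_le
    · rintro ⟨-, hexp⟩
      exact h.z_pow_ne_one (hexp z (hAP z_mem_subA))
  · obtain ⟨g, hgP, hgA⟩ := SetLike.not_le_iff_exists.1 hPA
    obtain ⟨i, hg⟩ := h.mem_iff_inCoset.1 (hPS hgP)
    have hi : ¬ p ∣ i := fun hd => hgA (h.mem_subA_of_inCoset hg hd)
    have hnorm : ∀ b ∈ P ⊓ subA y z, g⁻¹ * b * g ∈ P ⊓ subA y z := fun b hb =>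
      ⟨P.mul_mem (P.mul_mem (P.inv_mem hgP) hb.1) hgP, h.conj_mem_subA hg hb.2⟩
    rcases h.trichotomy inf_le_right ⟨hzp, h.zp_mem_subA⟩ hg hi hnorm with h1 | h2 | h3
    · exact le_antisymm hPS (h.le_of_subA_le (h1.trans inf_le_left) hg hi hgP)
    · by_contra hne
      have hQ : PhiType p S x y z P i g := ⟨hPS, hg, hi, hgP, h2.1.1, hzp, h2.2⟩
      exact not_normal_of_radical hS hF hfn hcen hrad hne (hQ.autInducedBy_normal h hp5 hF)
    · have hgS := hPS hgP
      have hrep : ∀ u ∈ P, ∃ r : ℕ, ∃ c ∈ Subgroup.zpowers (z ^ p), u = c * g ^ r := by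
        intro u hu
        obtain ⟨r, hr⟩ := h.exists_pow_coset hPS hg hi hgP hu
        exact ⟨r, _, h3 hr, by group⟩
      have hab : ∀ a ∈ P, ∀ b ∈ P, a * b = b * a := by
        intro a ha b hb
        obtain ⟨r, c, hc, rfl⟩ := hrep a ha
        obtain ⟨r', c', hc', rfl⟩ := hrep b hb
        have e1 : g ^ r * c' = c' * g ^ r := h.zpowers_zp_central (S.pow_mem hgS r) hc'
        have e2 : g ^ r' * c = c * g ^ r' := h.zpowers_zp_central (S.pow_mem hgS r') hc
        have e3 : c * c' = c' * c :=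
          h.subA_comm (h.zpowers_zp_le_subA hc) (h.zpowers_zp_le_subA hc')
        have e4 : g ^ r * g ^ r' = g ^ r' * g ^ r := by rw [← pow_add, ← pow_add, add_comm]
        calc c * g ^ r * (c' * g ^ r') = c * (g ^ r * c') * g ^ r' := by group
          _ = c * (c' * g ^ r) * g ^ r' := by rw [e1]
          _ = (c * c') * (g ^ r * g ^ r') := by group
          _ = (c' * c) * (g ^ r' * g ^ r) := by rw [e3, e4]
          _ = c' * (c * g ^ r') * g ^ r := by group
          _ = c' * (g ^ r' * c) * g ^ r := by rw [e2]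
          _ = c' * g ^ r' * (c * g ^ r) := by group
      have hgp : g ^ p ∈ Subgroup.zpowers (z ^ p) := by
        apply h3
        exact ⟨P.pow_mem hgP p, h.mem_subA_of_inCoset (h.inCoset_pow hg p) (Dvd.intro_left _ rfl)⟩
      have hYP : Subgroup.zpowers (z ^ p) ≤ P := Subgroup.zpowers_le.2 hzp
      have hcardle : Nat.card P ≤ p * orderOf (z ^ p) := by
        have hfinY : Finite (Subgroup.zpowers (z ^ p)) := finite_of_le (hYP.trans hPS)
        let φ : Subgroup.zpowers (z ^ p) × Fin p → P := fun cr =>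
          ⟨(cr.1 : Ω) * g ^ (cr.2 : ℕ), P.mul_mem (hYP cr.1.2) (P.pow_mem hgP _)⟩
        have hφ : Function.Surjective φ := by
          rintro ⟨u, hu⟩
          obtain ⟨r, c, hc, rfl⟩ := hrep u hu
          have hlt : r % p < p := Nat.mod_lt _ hp.out.pos
          refine ⟨(⟨c * (g ^ p) ^ (r / p), (Subgroup.zpowers (z ^ p)).mul_mem hc
            ((Subgroup.zpowers (z ^ p)).pow_mem hgp _)⟩, ⟨r % p, hlt⟩), ?_⟩
          apply Subtype.ext
          show c * (g ^ p) ^ (r / p) * g ^ (r % p) = c * g ^ r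
          rw [mul_assoc, ← pow_mul, ← pow_add, Nat.div_add_mod]
        have := Nat.card_le_card_of_surjective φ hφ
        rw [Nat.card_prod, Nat.card_zpowers, Nat.card_fin, mul_comm] at this
        exact this
      by_cases hE : Nat.card P = p ^ 2 ∧ ∀ a ∈ P, a ^ p = 1
      · exact (h.no_pearl hp5 hF hfn hcen hrad hE.1 hE.2 hg hi hgP hzp h3).elim
      · exact eq_top_of_abelian_of_cyclic_index hS hF hfn hcen hrad hab (z ^ p) hzp hcardle hE

end GData

end Cfsg.Agent.Helper73.RkTwoG
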