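import Mathlib
import Cfsg.Agent.Lib.Helper53.SL23Model

set_option autoImplicit false

/-!
# Automorphism conditions for the supersoluble type of metacyclic `2`-groups
-/

namespace Cfsg.Agent.Helper73.SuperMetaFinal

/-- if `Aut(S)` is a `2`-group, its odd order subgroups are trivial -/
theorem aut_cond_of_pgroup {S : Type*} [Group S] [Finite S] (hAut : IsPGroup 2 (MulAut S))
    (H : Subgroup (MulAut S)) (hcop : (Nat.card H).Coprime 2) :
    IsMulCommutative H ∧ ∀ h ∈ H, h ^ (2 - 1) = 1 := by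
  have hf2 : Fact (Nat.Prime 2) := ⟨Nat.prime_two⟩
  obtain ⟨k, hk⟩ := IsPGroup.iff_card.mp (hAut.to_subgroup H)
  have hk0 : k = 0 := by
    rcases Nat.eq_zero_or_pos k with h | h
    · exact h
    · exfalso
      rw [hk] at hcop
      have h1 : 2 ∣ Nat.gcd (2 ^ k) 2 := Nat.dvd_gcd (dvd_pow_self 2 (by omega)) dvd_rfl
      rw [hcop] at h1
      have := Nat.le_of_dvd (by norm_num) h1
      omega
  rw [hk0, pow_zero] at hk
  have hbot : H = ⊥ := Subgroup.eq_bot_of_card_eq H hk
  have hall : ∀ h ∈ H, h = 1 := fun h hh => Subgroup.mem_bot.mp (hbot ▸ hh)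
  refine ⟨⟨⟨fun a b => Subtype.ext ?_⟩⟩, fun h hh => ?_⟩
  · rw [Subgroup.coe_mul, Subgroup.coe_mul, hall a a.2, hall b b.2]
  · rw [hall h hh, one_pow]

/-- the quaternion group of order eight has an automorphism of order three -/
theorem q8_aut {S : Type*} [Group S] (e : S ≃* QuaternionGroup 2) :
    ∃ H : Subgroup (MulAut S), (Nat.card H).Coprime 2 ∧ ∃ h ∈ H, h ^ (2 - 1) ≠ 1 := by
  set ψ : Multiplicative (ZMod 3) →* MulAut S :=
    (MulAut.congr e).symm.toMonoidHom.comp Cfsg.Agent.Helper53.q8phi with hψ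
  refine ⟨ψ.range, ?_, ψ (Multiplicative.ofAdd 1), ⟨_, rfl⟩, ?_⟩
  · have h1 : Nat.card ψ.range ∣ Nat.card (Multiplicative (ZMod 3)) := Subgroup.card_range_dvd ψ
    have h2 : Nat.card (Multiplicative (ZMod 3)) = 3 := by
      rw [Nat.card_eq_fintype_card, Fintype.card_multiplicative, ZMod.card]
    rw [h2] at h1
    exact Nat.Coprime.coprime_dvd_left h1 (by norm_num)
  · have h21 : 2 - 1 = 1 := rfl
    rw [h21, pow_one]
    intro h
    have h1 : Cfsg.Agent.Helper53.q8phi (Multiplicative.ofAdd 1) = 1 := by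
      have h3 : (MulAut.congr e) (ψ (Multiplicative.ofAdd 1)) = (MulAut.congr e) 1 :=
        congrArg _ h
      rw [map_one (MulAut.congr e)] at h3
      rw [← h3, hψ]
      exact ((MulAut.congr e).apply_symm_apply _).symm
    have h2 : ∀ x, Cfsg.Agent.Helper53.q8act 1 x = x := fun x => by
      have h3 := DFunLike.congr_fun h1 x
      rw [Cfsg.Agent.Helper53.q8phi_apply] at h3
      exact h3
    have h4 := Cfsg.Agent.Helper53.q8act_faithful 1 h2
    revert h4
    decide

end Cfsg.Agent.Helper73.SuperMetaFinal
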