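import Mathlib
import Cfsg.Agent.Lib.Helper73.CoprimeFrattini2
import Cfsg.Agent.Lib.Helper52.External
import Cfsg.Agent.Lib.Helper2.PGroup

set_option autoImplicit false

/-!
# Coprime automorphism groups stabilizing a maximal subgroup of a two-generated `p`-group

If a `p'`-group `H` of automorphisms of a `p`-group `X` with `|X : Φ(X)| ∣ p²` stabilizes a normal
subgroup of index `p`, then `H` is abelian of exponent dividing `p - 1`.
-/

namespace Cfsg.Agent.Helper73.SuperMetaOdd

open Subgroup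
open scoped commutatorElement

/-- an automorphism of order prime to `p` of a `p`-group acting trivially on the Frattini quotient
is trivial -/
theorem aut_eq_one_of_frattini_coprime {Q : Type*} [Group Q] [Finite Q] {p : ℕ} [hp : Fact p.Prime]
    (hQ : IsPGroup p Q) (γ : MulAut Q) (n : ℕ) (hn : n.Coprime p) (hγ : γ ^ n = 1)
    (hmem : ∀ y : Q, y⁻¹ * γ y ∈ frattini Q) : γ = 1 := by
  by_contra hne
  have hn0 : 0 < n := by
    rcases Nat.eq_zero_or_pos n with h0 | h0
    · rw [h0, Nat.coprime_zero_left] at hn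
      exact absurd hn hp.out.one_lt.ne'
    · exact h0
  have ho : orderOf γ ∣ n := orderOf_dvd_of_pow_eq_one hγ
  have ho0 : 0 < orderOf γ := Nat.pos_of_dvd_of_pos ho hn0
  have ho1 : orderOf γ ≠ 1 := by
    intro h
    exact hne (orderOf_eq_one_iff.1 h)
  set q := (orderOf γ).minFac with hq
  have hqp : q.Prime := Nat.minFac_prime ho1
  haveI : Fact q.Prime := ⟨hqp⟩
  have hqo : q ∣ orderOf γ := Nat.minFac_dvd _
  have hpq : p ≠ q := by
    intro h
    have h1 : p ∣ n := h ▸ (hqo.trans ho)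
    have h2 : p ∣ Nat.gcd n p := Nat.dvd_gcd h1 dvd_rfl
    rw [hn] at h2
    exact hp.out.one_lt.ne' (Nat.dvd_one.1 h2)
  obtain ⟨m, hm⟩ := hqo
  have hm0 : 0 < m := by
    rcases Nat.eq_zero_or_pos m with h0 | h0
    · rw [h0, mul_zero] at hm
      omega
    · exact h0
  have hpowmem : ∀ j : ℕ, ∀ y : Q, y⁻¹ * (γ ^ j) y ∈ frattini Q := by
    intro j
    induction j with
    | zero => intro y; simp
    | succ j ih =>
      intro y
      have h1 : (γ ^ (j + 1)) y = γ ((γ ^ j) y) := by
        rw [pow_succ']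
        rfl
      have h2 : y⁻¹ * γ ((γ ^ j) y) = (y⁻¹ * (γ ^ j) y) * (((γ ^ j) y)⁻¹ * γ ((γ ^ j) y)) := by
        group
      rw [h1, h2]
      exact (frattini Q).mul_mem (ih y) (hmem _)
  have hβ : (γ ^ m) ^ (q ^ 1) = 1 := by
    rw [pow_one, ← pow_mul, mul_comm, ← hm, pow_orderOf_eq_one]
  have h1 : γ ^ m = 1 := aut_eq_one_of_frattini hQ hpq (γ ^ m) 1 hβ (hpowmem m)
  have hlt : m < orderOf γ := by
    rw [hm]
    have : 2 ≤ q := hqp.two_le
    nlinarith
  exact pow_ne_one_of_lt_orderOf hm0.ne' hlt h1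

section Cyc

variable {A Y : Type*} [Group A] [Group Y] [MulDistribMulAction A Y]

/-- the endomorphism of `Y ⧸ N` induced by an element of `A` -/
noncomputable def quotAct (N : Subgroup Y) [N.Normal] (hN : ∀ a : A, ∀ y ∈ N, a • y ∈ N) (a : A) :
    (Y ⧸ N) →* (Y ⧸ N) :=
  QuotientGroup.map N N (MulDistribMulAction.toMonoidHom Y a) (fun y hy => hN a y hy)

theorem quotAct_mk (N : Subgroup Y) [N.Normal] (hN : ∀ a : A, ∀ y ∈ N, a • y ∈ N) (a : A) (y : Y) :
    quotAct N hN a (y : Y ⧸ N) = ((a • y : Y) : Y ⧸ N) := rfl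

theorem quotAct_mul (N : Subgroup Y) [N.Normal] (hN : ∀ a : A, ∀ y ∈ N, a • y ∈ N) (a b : A)
    (v : Y ⧸ N) : quotAct N hN (a * b) v = quotAct N hN a (quotAct N hN b v) := by
  induction v using QuotientGroup.induction_on with | _ y => ?_
  rw [quotAct_mk, quotAct_mk, quotAct_mk, mul_smul]

theorem quotAct_one (N : Subgroup Y) [N.Normal] (hN : ∀ a : A, ∀ y ∈ N, a • y ∈ N)
    (v : Y ⧸ N) : quotAct N hN (1 : A) v = v := by
  induction v using QuotientGroup.induction_on with | _ y => ?_
  rw [quotAct_mk, one_smul]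

theorem quotAct_pow (N : Subgroup Y) [N.Normal] (hN : ∀ a : A, ∀ y ∈ N, a • y ∈ N) (a : A)
    (k : ℕ) (v : Y ⧸ N) : quotAct N hN (a ^ k) v = (quotAct N hN a)^[k] v := by
  induction k generalizing v with
  | zero => rw [pow_zero, quotAct_one]; rfl
  | succ k ih =>
    rw [pow_succ, quotAct_mul, ih, ← Function.iterate_succ_apply]

/-- endomorphisms of a cyclic group commute -/
theorem cyclic_end_comm {C : Type*} [Group C] [hC : IsCyclic C] (f₁ f₂ : C →* C) (c : C) :
    f₁ (f₂ c) = f₂ (f₁ c) := by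
  obtain ⟨m₁, h₁⟩ := MonoidHom.map_cyclic f₁
  obtain ⟨m₂, h₂⟩ := MonoidHom.map_cyclic f₂
  rw [h₁, h₂, h₂, h₁, ← zpow_mul, ← zpow_mul, mul_comm]

/-- an injective endomorphism of a group of order dividing `p` has `(p-1)`-st power the identity -/
theorem cyclic_end_pow {C : Type*} [Group C] [hC : IsCyclic C] {p : ℕ} (hp : p.Prime)
    (hcard : Nat.card C ∣ p) (f : C →* C) (hf : Function.Injective f) (c : C) :
    f^[p - 1] c = c := by
  obtain ⟨m, hm⟩ := MonoidHom.map_cyclic f
  have hiter : ∀ k : ℕ, ∀ c : C, f^[k] c = c ^ (m ^ k) := by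
    intro k
    induction k with
    | zero => intro c; simp
    | succ k ih =>
      intro c
      rw [Function.iterate_succ_apply', ih, hm, ← zpow_mul, pow_succ]
  rw [hiter]
  rcases (Nat.dvd_prime hp).1 hcard with h1 | h1
  · haveI : Subsingleton C := (Nat.card_eq_one_iff_unique.1 h1).1
    exact Subsingleton.elim _ _
  · haveI : Fact p.Prime := ⟨hp⟩
    have hmp : ¬ (p : ℤ) ∣ m := by
      rintro ⟨t, ht⟩
      have hne : ∃ c : C, c ≠ 1 := by
        by_contra hall
        push Not at hall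
        have : Nat.card C = 1 := by
          haveI : Subsingleton C := ⟨fun a b => by rw [hall a, hall b]⟩
          exact Nat.card_eq_one_iff_unique.2 ⟨inferInstance, ⟨1⟩⟩
        rw [h1] at this
        exact hp.one_lt.ne' this
      obtain ⟨c₀, hc₀⟩ := hne
      apply hc₀
      apply hf
      rw [hm, map_one, ht, zpow_mul, zpow_natCast, ← h1, pow_card_eq_one', one_zpow]
    have hfer : ((m ^ (p - 1) : ℤ) : ZMod p) = 1 := by
      have hm0 : ((m : ℤ) : ZMod p) ≠ 0 := by
        rw [Ne, ZMod.intCast_zmod_eq_zero_iff_dvd]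
        exact hmp
      push_cast
      exact ZMod.pow_card_sub_one_eq_one hm0
    have hdvd : (p : ℤ) ∣ m ^ (p - 1) - 1 := by
      rw [← ZMod.intCast_zmod_eq_zero_iff_dvd]
      push_cast
      push_cast at hfer
      rw [hfer, sub_self]
    obtain ⟨t, ht⟩ := hdvd
    have h2 : m ^ (p - 1) = 1 + p * t := by linarith
    rw [h2, zpow_add, zpow_one, zpow_mul, zpow_natCast, ← h1, pow_card_eq_one', one_zpow, mul_one]

/-- commutators and `(p-1)`-st powers of `A` act trivially on an invariant cyclic quotient of order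
dividing `p` -/
theorem comm_pow_mem_of_cyclic_quotient (N : Subgroup Y) [N.Normal]
    (hN : ∀ a : A, ∀ y ∈ N, a • y ∈ N) {p : ℕ} (hp : p.Prime) (hcyc : IsCyclic (Y ⧸ N))
    (hcard : Nat.card (Y ⧸ N) ∣ p) (a b : A) (y : Y) :
    y⁻¹ * (a * b * a⁻¹ * b⁻¹) • y ∈ N ∧ y⁻¹ * (a ^ (p - 1)) • y ∈ N := by
  have hinj : ∀ a : A, Function.Injective (quotAct N hN a) := by
    intro a v w hvw
    have := congrArg (quotAct N hN a⁻¹) hvw
    rwa [← quotAct_mul, ← quotAct_mul, inv_mul_cancel, quotAct_one, quotAct_one] at this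
  constructor
  · rw [← QuotientGroup.eq]
    have h1 : (((a * b * a⁻¹ * b⁻¹) • y : Y) : Y ⧸ N) =
        quotAct N hN a (quotAct N hN b (quotAct N hN a⁻¹ (quotAct N hN b⁻¹ (y : Y ⧸ N)))) := by
      rw [← quotAct_mul, ← quotAct_mul, ← quotAct_mul, quotAct_mk, mul_assoc, mul_assoc]
    rw [h1, cyclic_end_comm (quotAct N hN b) (quotAct N hN a⁻¹), ← quotAct_mul N hN a a⁻¹,
      mul_inv_cancel, quotAct_one, ← quotAct_mul, mul_inv_cancel, quotAct_one]
  · rw [← QuotientGroup.eq]
    have h1 : (((a ^ (p - 1)) • y : Y) : Y ⧸ N) = (quotAct N hN a)^[p - 1] (y : Y ⧸ N) := by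
      rw [← quotAct_pow, quotAct_mk]
    rw [h1, cyclic_end_pow hp hcard _ (hinj a)]

end Cyc

/-- **Final step.** A `p'`-group of automorphisms of a `p`-group `X` with `|X : Φ(X)| ∣ p²`
stabilizing a normal subgroup of index `p` is abelian of exponent dividing `p - 1`. -/
theorem comm_exp_of_invariant_max {X : Type*} [Group X] [Finite X] {p : ℕ} [hp : Fact p.Prime]
    (hX : IsPGroup p X) (d : ℕ) (hd : d ≤ 2) (hΦ : (frattini X).index = p ^ d)
    (M : Subgroup X) [hMn : M.Normal] (hMi : M.index = p)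
    (H : Subgroup (MulAut X)) (hcop : (Nat.card H).Coprime p)
    (hMH : ∀ α ∈ H, ∀ m ∈ M, α m ∈ M) :
    IsMulCommutative H ∧ ∀ h ∈ H, h ^ (p - 1) = 1 := by
  classical
  haveI : Finite (MulAut X) := Finite.of_injective (fun α : MulAut X => (α : X → X))
    (fun a b hab => MulEquiv.ext (congrFun hab))
  -- `Φ ≤ M`
  have hΦM : frattini X ≤ M := by
    have hco : IsCoatom M := by
      refine ⟨?_, fun K hK => ?_⟩
      · intro h
        rw [h, Subgroup.index_top] at hMi
        exact hp.out.one_lt.ne' hMi.symm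
      · have h1 : K.index ∣ M.index := Subgroup.index_dvd_of_le hK.le
        rw [hMi] at h1
        rcases (Nat.dvd_prime hp.out).1 h1 with h2 | h2
        · exact Subgroup.index_eq_one.1 h2
        · exfalso
          have h3 : M.relIndex K = 1 := by
            have := Subgroup.relIndex_mul_index hK.le
            rw [h2, hMi] at this
            have hp0 : 0 < p := hp.out.pos
            exact Nat.eq_of_mul_eq_mul_right hp0 (by rw [this, one_mul])
          exact hK.not_ge (Subgroup.relIndex_eq_one.1 h3)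
    exact frattini_le_coatom hco
  have hcard : ∃ n, Nat.card X = p ^ n := IsPGroup.iff_card.1 hX
  obtain ⟨n, hn⟩ := hcard
  have hcopX : (Nat.card H).Coprime (Nat.card X) := by
    rw [hn]
    exact Nat.Coprime.pow_right n hcop
  -- invariance of `Φ` and `M` under the action of `H`
  have hΦinv : ∀ a : H, ∀ x ∈ frattini X, a • x ∈ frattini X := by
    intro a x hx
    have hchar : (frattini X).Characteristic := frattini_characteristic
    have h1 := Subgroup.characteristic_iff_map_le.1 hchar (a : MulAut X)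
    exact h1 (Subgroup.mem_map_of_mem _ hx)
  have hMinv : ∀ a : H, ∀ x ∈ M, a • x ∈ M := fun a x hx => hMH a a.2 x hx
  -- the Frattini quotient is elementary abelian
  have hcomm : commutator X ≤ frattini X := Cfsg.Agent.Helper2.commutator_le_frattini hX
  have hpow : ∀ x : X, x ^ p ∈ frattini X := fun x => Cfsg.Agent.Helper2.pow_mem_frattini hX x
  obtain ⟨K, hΦK, hKinv, hMK, hMKtop⟩ :=
    Cfsg.Agent.Helper52.exists_invariant_complement_mod (A := H) (G := X) hcopX (frattini X)
      hΦinv hcomm p hp.out hpow M hΦM hMinv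
  -- `K` is normal
  have hKn : K.Normal := by
    refine ⟨fun k hk g => ?_⟩
    have h1 : g * k * g⁻¹ = k * (k⁻¹ * g * k * g⁻¹) := by group
    rw [h1]
    refine K.mul_mem hk (hΦK (hcomm ?_))
    have h2 : k⁻¹ * g * k * g⁻¹ = ⁅k⁻¹, g⁆ := by
      rw [commutatorElement_def]; group
    rw [h2]
    exact Subgroup.commutator_mem_commutator (Subgroup.mem_top _) (Subgroup.mem_top _)
  -- the quotients
  have hXM : Nat.card (X ⧸ M) = p := by rw [← Subgroup.index_eq_card]; exact hMi
  have hXMc : IsCyclic (X ⧸ M) := isCyclic_of_prime_card hXM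
  have hKi : K.index ∣ p := by
    have h1 : K.relIndex (M ⊔ K) = K.relIndex M := by
      rw [sup_comm]
      exact Subgroup.relIndex_sup_left M K
    rw [hMKtop, Subgroup.relIndex_top_right] at h1
    have h2 : K.relIndex M = (frattini X).relIndex M := by
      rw [← Subgroup.inf_relIndex_right, inf_comm, hMK]
    have h3 : (frattini X).relIndex M * M.index = (frattini X).index :=
      Subgroup.relIndex_mul_index hΦM
    rw [hMi, hΦ] at h3
    rw [h1, h2]
    have hp0 : 0 < p := hp.out.pos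
    interval_cases d
    · exfalso
      rw [pow_zero] at h3
      have : p ∣ 1 := Dvd.intro_left _ h3
      exact hp.out.one_lt.ne' (Nat.dvd_one.1 this)
    · rw [pow_one] at h3
      have : (frattini X).relIndex M = 1 := Nat.eq_of_mul_eq_mul_right hp0 (by rw [h3, one_mul])
      rw [this]
      exact one_dvd _
    · have : (frattini X).relIndex M = p := Nat.eq_of_mul_eq_mul_right hp0 (by rw [h3, sq])
      rw [this]
  have hXK : Nat.card (X ⧸ K) ∣ p := by rw [← Subgroup.index_eq_card]; exact hKi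
  have hXKc : IsCyclic (X ⧸ K) := by
    rcases (Nat.dvd_prime hp.out).1 hXK with h1 | h1
    · haveI : Subsingleton (X ⧸ K) := (Nat.card_eq_one_iff_unique.1 h1).1
      exact ⟨⟨1, fun x => ⟨0, Subsingleton.elim _ _⟩⟩⟩
    · exact isCyclic_of_prime_card h1
  -- the key: an element of `H` acting trivially on both quotients is trivial
  have hkey : ∀ γ : H, (∀ x : X, x⁻¹ * γ • x ∈ M) → (∀ x : X, x⁻¹ * γ • x ∈ K) → γ = 1 := by
    intro γ h1 h2
    have h3 : ∀ x : X, x⁻¹ * (γ : MulAut X) x ∈ frattini X := by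
      intro x
      rw [← hMK]
      exact ⟨h1 x, h2 x⟩
    have h4 : (γ : MulAut X) ^ Nat.card H = 1 := by
      have := pow_card_eq_one' (G := H) (x := γ)
      exact_mod_cast congrArg (Subtype.val) this
    have h5 := aut_eq_one_of_frattini_coprime hX (γ : MulAut X) (Nat.card H) hcop h4 h3
    exact Subtype.ext h5
  constructor
  · refine ⟨⟨fun a b => ?_⟩⟩
    have h1 := hkey (a * b * a⁻¹ * b⁻¹)
      (fun x => (comm_pow_mem_of_cyclic_quotient M hMinv hp.out hXMc (hXM ▸ dvd_rfl) a b x).1)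
      (fun x => (comm_pow_mem_of_cyclic_quotient K hKinv hp.out hXKc hXK a b x).1)
    have h2 : a * b = (a * b * a⁻¹ * b⁻¹) * (b * a) := by group
    rw [h2, h1, one_mul]
  · intro h hh
    have h1 := hkey (⟨h, hh⟩ ^ (p - 1))
      (fun x => (comm_pow_mem_of_cyclic_quotient M hMinv hp.out hXMc (hXM ▸ dvd_rfl) ⟨h, hh⟩ 1 x).2)
      (fun x => (comm_pow_mem_of_cyclic_quotient K hKinv hp.out hXKc hXK ⟨h, hh⟩ 1 x).2)
    have h2 := congrArg (Subtype.val) h1
    simpa using h2

end Cfsg.Agent.Helper73.SuperMetaOdd
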