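import Mathlib
import Cfsg.Agent.Lib.Helper73.SuperMetaOddA
import Cfsg.Agent.Lib.Helper73.ClassTwoPow
import Cfsg.Agent.Lib.Helper73.MetacyclicAut
import Cfsg.Agent.Lib.Helper24.MetaBasic
import Cfsg.Agent.S0100

set_option autoImplicit false

/-!
# A characteristic maximal subgroup of a nonabelian metacyclic `p`-group, `p` odd

and the consequence: every `p'`-group of automorphisms of such a group is abelian of exponent
dividing `p - 1`.
-/

namespace Cfsg.Agent.Helper73.SuperMetaOdd

open Subgroup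
open scoped commutatorElement

section ClassTwo

variable {Y : Type*} [Group Y] [Finite Y] {p : ℕ} [hp : Fact p.Prime]

/-- in a `p`-group (`p` odd) whose commutator subgroup has order `p`, the `p`-power map is
multiplicative -/
theorem mul_pow_prime_of_card_commutator (hp2 : p ≠ 2) (hY : IsPGroup p Y)
    (hD : Nat.card (commutator Y) = p) (x y : Y) : (x * y) ^ p = x ^ p * y ^ p := by
  have hDZ : commutator Y ≤ Subgroup.center Y :=
    Cfsg.Agent.S0100.le_center_of_card_prime hY (commutator Y) hD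
  have hcmem : y⁻¹ * x⁻¹ * y * x ∈ commutator Y := by
    have h2 : y⁻¹ * x⁻¹ * y * x = ⁅y⁻¹, x⁻¹⁆ := by
      rw [commutatorElement_def]; group
    rw [h2]
    exact Subgroup.commutator_mem_commutator (Subgroup.mem_top _) (Subgroup.mem_top _)
  have hc : ∀ z : Y, Commute (y⁻¹ * x⁻¹ * y * x) z := by
    intro z
    exact (Subgroup.mem_center_iff.1 (hDZ hcmem) z).symm
  have hcp : (y⁻¹ * x⁻¹ * y * x) ^ p = 1 := by
    have h1 : (⟨_, hcmem⟩ : commutator Y) ^ Nat.card (commutator Y) = 1 := pow_card_eq_one'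
    rw [hD] at h1
    exact congrArg Subtype.val h1
  rw [mul_pow_class_two x y hc p]
  have hsum : p ∣ ∑ i ∈ Finset.range p, i := by
    have h1 := Finset.sum_range_id_mul_two p
    have h2 : p ∣ (∑ i ∈ Finset.range p, i) * 2 := by
      rw [h1]; exact dvd_mul_right _ _
    have hcop : Nat.Coprime p 2 := by
      rw [Nat.coprime_comm]
      exact (Nat.coprime_primes Nat.prime_two hp.out).2 (Ne.symm hp2)
    exact hcop.dvd_of_dvd_mul_right h2
  obtain ⟨t, ht⟩ := hsum
  rw [ht, pow_mul, hcp, one_pow, mul_one]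

theorem mul_pow_prime_pow_of_card_commutator (hp2 : p ≠ 2) (hY : IsPGroup p Y)
    (hD : Nat.card (commutator Y) = p) (j : ℕ) (x y : Y) :
    (x * y) ^ (p ^ j) = x ^ (p ^ j) * y ^ (p ^ j) := by
  induction j with
  | zero => simp
  | succ j ih =>
    rw [pow_succ, pow_mul, pow_mul, pow_mul, ih,
      mul_pow_prime_of_card_commutator hp2 hY hD]

/-- the `p^j`-power endomorphism -/
def powHom (hp2 : p ≠ 2) (hY : IsPGroup p Y) (hD : Nat.card (commutator Y) = p) (j : ℕ) :
    Y →* Y where
  toFun x := x ^ (p ^ j)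
  map_one' := one_pow _
  map_mul' := mul_pow_prime_pow_of_card_commutator hp2 hY hD j

theorem powHom_apply (hp2 : p ≠ 2) (hY : IsPGroup p Y) (hD : Nat.card (commutator Y) = p) (j : ℕ)
    (x : Y) : powHom hp2 hY hD j x = x ^ (p ^ j) := rfl

/-- **Claim M₂.** -/
theorem exists_char_max_of_card_commutator (hp2 : p ≠ 2) (hY : IsPGroup p Y)
    (hm : Cfsg.IsMetacyclic Y) (hD : Nat.card (commutator Y) = p) :
    ∃ M : Subgroup Y, M.Normal ∧ M.index = p ∧ ∀ α : MulAut Y, ∀ m ∈ M, α m ∈ M := by
  classical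
  have hp0 : 0 < p := hp.out.pos
  have hp1 : 1 < p := hp.out.one_lt
  set f : ℕ → (Y →* Y) := fun j => powHom hp2 hY hD j with hf
  have hfa : ∀ j x, f j x = x ^ (p ^ j) := fun j x => rfl
  -- normality / invariance helpers
  have hrange_normal : ∀ j, ((f j).range).Normal := by
    intro j
    refine ⟨?_⟩
    rintro _ ⟨x, rfl⟩ g
    refine ⟨g * x * g⁻¹, ?_⟩
    rw [hfa, hfa, conj_pow]
  have hrange_inv : ∀ j, ∀ α : MulAut Y, ∀ m ∈ (f j).range, α m ∈ (f j).range := by
    rintro j α _ ⟨x, rfl⟩
    exact ⟨α x, by rw [hfa, hfa, map_pow]⟩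
  have hker_inv : ∀ j, ∀ α : MulAut Y, ∀ m ∈ (f j).ker, α m ∈ (f j).ker := by
    intro j α m hm'
    rw [MonoidHom.mem_ker, hfa] at hm' ⊢
    rw [← map_pow, hm', map_one]
  -- the kernel of the `p`-power map
  obtain ⟨K₁, hK₁mem, hK₁card⟩ := Cfsg.Agent.Helper24.Meta.exists_omega hp2 hY hm
  have hK₁ : K₁ = (f 1).ker := by
    ext x
    rw [hK₁mem, MonoidHom.mem_ker, hfa, pow_one]
  rw [hK₁] at hK₁card
  set K := (f 1).ker with hK
  set R := (f 1).range with hR
  have hRn : R.Normal := hrange_normal 1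
  have hcardY : Nat.card K * Nat.card R = Nat.card Y := by
    rw [← Subgroup.index_ker]
    exact Subgroup.card_mul_index K
  have hRi : R.index = Nat.card K := by
    have h1 := Subgroup.card_mul_index R
    have h2 : 0 < Nat.card R := Nat.card_pos
    have h3 : Nat.card R * R.index = Nat.card R * Nat.card K := by
      rw [h1, ← hcardY, mul_comm]
    exact Nat.eq_of_mul_eq_mul_left h2 h3
  -- `D ≤ K`
  have hDK : commutator Y ≤ K := by
    intro c hc
    rw [hK, MonoidHom.mem_ker, hfa, pow_one]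
    have h1 : (⟨c, hc⟩ : commutator Y) ^ Nat.card (commutator Y) = 1 := pow_card_eq_one'
    rw [hD] at h1
    exact congrArg Subtype.val h1
  have hKge : p ∣ Nat.card K := by
    rw [← hD]
    exact Subgroup.card_dvd_of_le hDK
  have hKcases : Nat.card K = p ∨ Nat.card K = p ^ 2 := by
    obtain ⟨i, hi, hi'⟩ := (Nat.dvd_prime_pow hp.out).1 hK₁card
    interval_cases i
    · exfalso
      rw [hi', pow_zero] at hKge
      exact hp1.ne' (Nat.dvd_one.1 hKge)
    · left; rw [hi', pow_one]
    · right; exact hi'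
  rcases hKcases with hKp | hKp2
  · exact ⟨R, hRn, by rw [hRi, hKp], hrange_inv 1⟩
  -- now `|K| = p²`
  obtain ⟨n, hn⟩ := IsPGroup.iff_card.1 hY
  have hpown : ∀ x : Y, x ^ (p ^ n) = 1 := by
    intro x
    rw [← hn]
    exact pow_card_eq_one'
  have hex : ∃ j, (f j).ker = ⊤ := by
    refine ⟨n, ?_⟩
    rw [eq_top_iff]
    intro x _
    rw [MonoidHom.mem_ker, hfa]
    exact hpown x
  set e' := Nat.find hex with he'
  have he'top : (f e').ker = ⊤ := Nat.find_spec hex
  have hnontriv : ∃ y : Y, y ≠ 1 := by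
    by_contra hall
    push Not at hall
    have : Nat.card (commutator Y) = 1 := by
      have : (commutator Y) = ⊥ := by
        rw [eq_bot_iff]
        intro c _
        rw [Subgroup.mem_bot]
        exact hall c
      rw [this, Subgroup.card_bot]
    rw [hD] at this
    exact hp1.ne' this
  have he'pos : 0 < e' := by
    rcases Nat.eq_zero_or_pos e' with h0 | h0
    · exfalso
      obtain ⟨y, hy⟩ := hnontriv
      have h1 : y ∈ (f e').ker := by rw [he'top]; exact Subgroup.mem_top _
      rw [h0, MonoidHom.mem_ker, hfa, pow_zero, pow_one] at h1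
      exact hy h1
    · exact h0
  obtain ⟨j, hj⟩ : ∃ j, e' = j + 1 := ⟨e' - 1, by omega⟩
  have hjne : (f j).ker ≠ ⊤ := by
    intro h
    have := Nat.find_min' hex h
    omega
  rw [hj] at he'top
  -- Lemma (★)
  have hstar : (f j).ker ⊔ R = ⊤ → (f j).ker = ⊤ := by
    intro hsup
    have hstep : ∀ y : Y, ∃ z : Y, f j y = (f j z) ^ p := by
      intro y
      have hy : y ∈ ((f j).ker ⊔ R : Subgroup Y) := by rw [hsup]; exact Subgroup.mem_top _
      have hy' : y ∈ ((((f j).ker ⊔ R : Subgroup Y)) : Set Y) := hy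
      rw [Subgroup.mul_normal] at hy'
      obtain ⟨k, hk, r, hr, rfl⟩ := Set.mem_mul.1 hy'
      obtain ⟨z, rfl⟩ := hr
      refine ⟨z, ?_⟩
      rw [map_mul, MonoidHom.mem_ker.1 hk, one_mul, hfa, hfa, hfa, pow_one, ← pow_mul, ← pow_mul,
        mul_comm]
    have hiter : ∀ t : ℕ, ∀ y : Y, ∃ z : Y, f j y = (f j z) ^ (p ^ t) := by
      intro t
      induction t with
      | zero => intro y; exact ⟨y, by rw [pow_zero, pow_one]⟩
      | succ t ih =>
        intro y
        obtain ⟨z, hz⟩ := ih y
        obtain ⟨z', hz'⟩ := hstep z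
        refine ⟨z', ?_⟩
        rw [hz, hz', ← pow_mul, pow_succ']
    rw [eq_top_iff]
    intro y _
    obtain ⟨z, hz⟩ := hiter n y
    rw [MonoidHom.mem_ker, hz]
    exact hpown _
  by_cases hle : (f j).ker ≤ R
  · -- sub-case (A)
    have hrK : (f j).range ≤ K := by
      rintro _ ⟨x, rfl⟩
      rw [hK, MonoidHom.mem_ker, hfa, hfa, pow_one, ← pow_mul, ← pow_succ]
      have h1 : x ∈ (f (j + 1)).ker := by rw [he'top]; exact Subgroup.mem_top _
      rwa [MonoidHom.mem_ker, hfa] at h1
    have hcr : Nat.card (f j).range = Nat.card K := by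
      apply le_antisymm (Subgroup.card_le_of_le hrK)
      rw [← Subgroup.index_ker]
      have h1 : R.index ∣ ((f j).ker).index := Subgroup.index_dvd_of_le hle
      rw [hRi] at h1
      exact Nat.le_of_dvd (Nat.pos_of_ne_zero (Subgroup.index_ne_zero_of_finite)) h1
    have hrange : (f j).range = K :=
      Subgroup.eq_of_le_of_card_ge hrK (le_of_eq hcr.symm)
    refine ⟨(commutator Y).comap (f j), inferInstance, ?_, ?_⟩
    · rw [Subgroup.index_comap, hrange]
      have h1 : (commutator Y).relIndex K * Nat.card (commutator Y) = Nat.card K := by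
        rw [Subgroup.relIndex, mul_comm]
        have h2 := Subgroup.card_mul_index ((commutator Y).subgroupOf K)
        rw [Nat.card_congr (Subgroup.subgroupOfEquivOfLe hDK).toEquiv] at h2
        exact h2
      rw [hD, hKp2, sq] at h1
      exact Nat.eq_of_mul_eq_mul_right hp0 h1
    · intro α m hm'
      rw [Subgroup.mem_comap, hfa] at hm' ⊢
      rw [← map_pow]
      have hchar : (commutator Y).Characteristic := by
        rw [_root_.commutator_def]
        infer_instance
      exact (Subgroup.characteristic_iff_map_le.1 hchar α) (Subgroup.mem_map_of_mem _ hm')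
  · -- sub-case (B)
    set L := (f j).ker ⊔ R with hL
    have hRL : R ≤ L := le_sup_right
    have hLi : L.index ∣ p ^ 2 := by
      have := Subgroup.index_dvd_of_le hRL
      rwa [hRi, hKp2] at this
    obtain ⟨i, hi, hi'⟩ := (Nat.dvd_prime_pow hp.out).1 hLi
    have hLn : L.Normal := Subgroup.sup_normal _ _
    have hLinv : ∀ α : MulAut Y, ∀ m ∈ L, α m ∈ L := by
      intro α m hm'
      have hm'' : m ∈ (L : Set Y) := hm'
      rw [hL, Subgroup.mul_normal] at hm''
      obtain ⟨k, hk, r, hr, rfl⟩ := Set.mem_mul.1 hm''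
      rw [map_mul]
      exact L.mul_mem (Subgroup.mem_sup_left (hker_inv j α k hk))
        (Subgroup.mem_sup_right (hrange_inv 1 α r hr))
    interval_cases i
    · exfalso
      rw [pow_zero, Subgroup.index_eq_one] at hi'
      exact hjne (hstar hi')
    · exact ⟨L, hLn, by rw [hi', pow_one], hLinv⟩
    · exfalso
      have h1 := Subgroup.relIndex_mul_index hRL
      rw [hi', hRi, hKp2] at h1
      have h2 : R.relIndex L = 1 :=
        Nat.eq_of_mul_eq_mul_right (pow_pos hp0 2) (by rw [h1, one_mul])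
      have h3 : L ≤ R := Subgroup.relIndex_eq_one.1 h2
      exact hle (le_sup_left.trans h3)

end ClassTwo

section Main

variable {X : Type*} [Group X] [Finite X] {p : ℕ} [hp : Fact p.Prime]

/-- **Claim M.** A nonabelian metacyclic `p`-group, `p` odd, has a normal subgroup of index `p`
invariant under every automorphism. -/
theorem exists_char_max (hp2 : p ≠ 2) (hX : IsPGroup p X) (hm : Cfsg.IsMetacyclic X)
    (hna : ¬ ∀ a b : X, a * b = b * a) :
    ∃ M : Subgroup X, M.Normal ∧ M.index = p ∧ ∀ α : MulAut X, ∀ m ∈ M, α m ∈ M := by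
  classical
  have hp0 : 0 < p := hp.out.pos
  have hp1 : 1 < p := hp.out.one_lt
  set D := commutator X with hD
  haveI hDc : IsCyclic D := Cfsg.Agent.Helper24.Meta.isCyclic_commutator hm
  have hDchar : D.Characteristic := by
    rw [hD, _root_.commutator_def]
    infer_instance
  have hDne : D ≠ ⊥ := by
    intro h
    apply hna
    intro a b
    have h1 : ⁅a, b⁆ ∈ D :=
      Subgroup.commutator_mem_commutator (Subgroup.mem_top _) (Subgroup.mem_top _)
    rw [h, Subgroup.mem_bot, commutatorElement_def] at h1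
    have h2 : a * b = (a * b * a⁻¹ * b⁻¹) * (b * a) := by group
    rw [h2, h1, one_mul]
  obtain ⟨g, hg⟩ := IsCyclic.exists_generator (α := D)
  have hog : orderOf (g : X) = Nat.card D := by
    rw [Subgroup.orderOf_coe]
    exact orderOf_eq_card_of_forall_mem_zpowers hg
  have hDp : IsPGroup p D := hX.to_subgroup D
  obtain ⟨k, hk⟩ := IsPGroup.iff_card.1 hDp
  have hk0 : k ≠ 0 := by
    intro h
    rw [h, pow_zero] at hk
    exact hDne (Subgroup.card_eq_one.1 hk)
  have hpD : p ∣ Nat.card D := by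
    rw [hk]
    exact dvd_pow_self p hk0
  set T := Subgroup.zpowers ((g : X) ^ p) with hT
  have hTD : T ≤ D := by
    rw [hT, Subgroup.zpowers_le]
    exact D.pow_mem g.2 p
  have hcardT : Nat.card T * p = Nat.card D := by
    rw [hT, Nat.card_zpowers, orderOf_pow_of_dvd hp0.ne' (hog ▸ hpD), hog]
    exact Nat.div_mul_cancel hpD
  -- `T` is invariant under automorphisms
  have hTinv : ∀ α : MulAut X, ∀ t ∈ T, α t ∈ T := by
    intro α t ht
    obtain ⟨i, rfl⟩ := Subgroup.mem_zpowers_iff.1 ht
    have h1 : α (g : X) ∈ D :=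
      (Subgroup.characteristic_iff_map_le.1 hDchar α) (Subgroup.mem_map_of_mem _ g.2)
    obtain ⟨l, hl⟩ := Subgroup.mem_zpowers_iff.1 (hg ⟨α (g : X), h1⟩)
    have hl' : α (g : X) = (g : X) ^ l := by
      have := congrArg Subtype.val hl
      simpa using this.symm
    rw [map_zpow, map_pow, hl']
    rw [hT, Subgroup.mem_zpowers_iff]
    refine ⟨l * i, ?_⟩
    have e1 : ((g : X) ^ l) ^ p = ((g : X) ^ p) ^ l := by
      rw [← zpow_natCast, ← zpow_natCast, ← zpow_mul, ← zpow_mul, mul_comm]
    rw [e1, ← zpow_mul]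
  have hTn : T.Normal := by
    refine ⟨fun t ht x => ?_⟩
    exact hTinv (MulAut.conj x) t ht
  -- the quotient
  set π := QuotientGroup.mk' T with hπ
  have hπs : Function.Surjective π := QuotientGroup.mk'_surjective T
  have hcomm : commutator (X ⧸ T) = D.map π := by
    rw [_root_.commutator_def, hD, _root_.commutator_def, Subgroup.map_commutator,
      Subgroup.map_top_of_surjective π hπs]
  have hcardD : Nat.card (commutator (X ⧸ T)) = p := by
    rw [hcomm, ← MonoidHom.domRestrict_range]
    have h1 := Subgroup.card_mul_index (π.domRestrict D).ker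
    rw [Subgroup.index_ker, MonoidHom.ker_domRestrict, QuotientGroup.ker_mk',
      Nat.card_congr (Subgroup.subgroupOfEquivOfLe hTD).toEquiv, ← hcardT] at h1
    have h2 : 0 < Nat.card T := Nat.card_pos
    exact Nat.eq_of_mul_eq_mul_left h2 h1
  have hQp : IsPGroup p (X ⧸ T) := hX.to_quotient T
  have hQm : Cfsg.IsMetacyclic (X ⧸ T) :=
    Cfsg.Agent.Helper24.Meta.isMetacyclic_of_surjective π hπs hm
  obtain ⟨Mb, hMbn, hMbi, hMbinv⟩ := exists_char_max_of_card_commutator hp2 hQp hQm hcardD
  refine ⟨Mb.comap π, hMbn.comap π, ?_, ?_⟩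
  · rw [Subgroup.index_comap_of_surjective Mb hπs, hMbi]
  · intro α m hm'
    have hmap : T.map α.toMonoidHom = T := by
      apply le_antisymm
      · rintro _ ⟨t, ht, rfl⟩
        exact hTinv α t ht
      · intro t ht
        refine ⟨α⁻¹ t, hTinv α⁻¹ t ht, ?_⟩
        show α (α⁻¹ t) = t
        show (α * α⁻¹) t = t
        rw [mul_inv_cancel]
        rfl
    set αb : MulAut (X ⧸ T) := QuotientGroup.congr T T α hmap with hαb
    have h1 : αb (π m) = π (α m) := by
      rw [hαb]
      rfl
    rw [Subgroup.mem_comap] at hm' ⊢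
    rw [← h1]
    exact hMbinv αb _ hm'

/-- **Piece (a).** Every `p'`-group of automorphisms of a nonabelian metacyclic `p`-group, `p`
odd, is abelian of exponent dividing `p - 1`. -/
theorem comm_exp_of_metacyclic_odd (hp2 : p ≠ 2) (hX : IsPGroup p X) (hm : Cfsg.IsMetacyclic X)
    (hna : ¬ ∀ a b : X, a * b = b * a) (H : Subgroup (MulAut X))
    (hcop : (Nat.card H).Coprime p) :
    IsMulCommutative H ∧ ∀ h ∈ H, h ^ (p - 1) = 1 := by
  obtain ⟨M, hMn, hMi, hMinv⟩ := exists_char_max hp2 hX hm hna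
  obtain ⟨x, y, hxy⟩ := exists_two_gen_of_injective (MonoidHom.id X) (fun _ _ h => h) hm
  obtain ⟨d, hd, hΦ⟩ := frattini_index_le_two hX x y hxy
  exact comm_exp_of_invariant_max hX d hd hΦ M hMi H hcop (fun α _ => hMinv α)

end Main

end Cfsg.Agent.Helper73.SuperMetaOdd
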