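import Mathlib
import Cfsg.Agent.Lib.Helper73.W44Defs
import Cfsg.Agent.Lib.Helper26.W44PJ
import Cfsg.Agent.Lib.Helper3.W44SP1
import Cfsg.Agent.Lib.Helper23.W44A5
import Cfsg.Agent.Lib.Helper23.W44K2
import Cfsg.Agent.Lib.Helper79.W44C1
import Cfsg.Agent.Lib.Helper79.W44C2

/-!
# S4414 lemma server "W44" (helper73): Theorems TA / TB (dimension of the fixed space of a
2-group on a graded module whose grading is permuted semiregularly by a group of odd prime order).
Pieces by helper26 (PJ), helper3 (SP1), helper23 (A5, K2), helper79 (C1, C2).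
-/

set_option autoImplicit false

namespace Cfsg.Agent.Helper73.W44T

open Cfsg.Agent.Helper73.W44
open Cfsg.Agent.Helper26.W44 (proj_equivariant eq_zero_of_forall_proj)
open Cfsg.Agent.Helper3.W44 (supp_subset_of_mem_biSup)
open Cfsg.Agent.Helper23.W44 (exists_fixed_vector card_le_finrank_of_disjoint_supp)
open Cfsg.Agent.Helper79.W44 (card_orbit_two_pow prime_dvd_card_of_semiregular)

section thmA
variable {k : Type*} [Field k] {G : Type*} [Group G] {V : Type*} [AddCommGroup V]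
  [Module k V]
variable {X : Type*} [DecidableEq X] [MulAction G X]

theorem rho_injective (ρ : G →* Module.End k V) (g : G) : Function.Injective (ρ g) := by
  intro a b hab
  have h : ρ g⁻¹ (ρ g a) = ρ g⁻¹ (ρ g b) := by rw [hab]
  rwa [← Module.End.mul_apply, ← Module.End.mul_apply, ← map_mul, inv_mul_cancel, map_one,
    Module.End.one_apply, Module.End.one_apply] at h

theorem smul_mem_supp_iff (ρ : G →* Module.End k V) (W : X → Submodule k V)
    (hI : DirectSum.IsInternal W) (hmap : ∀ g x, (W x).map (ρ g) = W (g • x))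
    (g : G) (x : X) (v : V) : g • x ∈ supp W hI (ρ g v) ↔ x ∈ supp W hI v := by
  rw [mem_supp, mem_supp, proj_equivariant ρ W hI hmap]
  constructor
  · intro h h0
    apply h
    rw [h0, map_zero]
  · intro h h0
    apply h
    apply rho_injective ρ g
    rw [h0, map_zero]

theorem mem_supp_rho_iff (ρ : G →* Module.End k V) (W : X → Submodule k V)
    (hI : DirectSum.IsInternal W) (hmap : ∀ g x, (W x).map (ρ g) = W (g • x))
    (g : G) (z : X) (v : V) : z ∈ supp W hI (ρ g v) ↔ g⁻¹ • z ∈ supp W hI v := by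
  rw [← smul_mem_supp_iff ρ W hI hmap g (g⁻¹ • z) v, smul_inv_smul]

/-- supports of fixed vectors are invariant -/
theorem smul_mem_supp_of_fixed (ρ : G →* Module.End k V) (W : X → Submodule k V)
    (hI : DirectSum.IsInternal W) (hmap : ∀ g x, (W x).map (ρ g) = W (g • x))
    (P : Subgroup G) (v : V) (hv : v ∈ fixS ρ P) (s : G) (hs : s ∈ P) (x : X)
    (hx : x ∈ supp W hI v) : s • x ∈ supp W hI v := by
  have h := (smul_mem_supp_iff ρ W hI hmap s x v).mpr hx
  rwa [(mem_fixS ρ P v).mp hv s hs] at h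

theorem wt_smul_ne_bot (ρ : G →* Module.End k V) (W : X → Submodule k V)
    (hmap : ∀ g x, (W x).map (ρ g) = W (g • x)) (g : G) (x : X) (hx : W x ≠ ⊥) :
    W (g • x) ≠ ⊥ := by
  intro h
  apply hx
  rw [← hmap, Submodule.eq_bot_iff] at h
  rw [Submodule.eq_bot_iff]
  intro v hv
  apply rho_injective ρ g
  rw [map_zero]
  exact h _ (Submodule.mem_map_of_mem hv)

theorem supp_subset_ne_bot (W : X → Submodule k V) (hI : DirectSum.IsInternal W) (v : V) :
    supp W hI v ⊆ {x | W x ≠ ⊥} := by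
  intro x hx h
  apply hx
  have := proj_mem W hI x v
  rw [h] at this
  exact (Submodule.mem_bot k).mp this

theorem exists_ne_bot [Nontrivial V] (W : X → Submodule k V) (hI : DirectSum.IsInternal W) :
    ∃ x, W x ≠ ⊥ := by
  by_contra hcon
  push Not at hcon
  have h0 : (⨆ x, W x) = ⊥ := by
    rw [iSup_eq_bot]; exact hcon
  rw [hI.submodule_iSup_eq_top] at h0
  obtain ⟨v, hv⟩ := exists_ne (0 : V)
  exact hv ((Submodule.eq_bot_iff _).mp h0 v trivial)

end thmA

section thmA2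
variable {k : Type*} [Field k] [CharP k 2] {G : Type*} [Group G] {V : Type*} [AddCommGroup V]
  [Module k V] [FiniteDimensional k V] [Nontrivial V]
variable {X : Type*} [DecidableEq X] [MulAction G X]

/-- the set of nonzero components is finite -/
theorem finite_ne_bot (W : X → Submodule k V) (hI : DirectSum.IsInternal W) :
    {x | W x ≠ ⊥}.Finite :=
  Submodule.finite_ne_bot_of_iSupIndep hI.submodule_iSupIndep

/-- a finite `Q`-invariant set of indices of nonzero components whose size is a power of 2 is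
impossible (when nonempty is not even needed: `q ∣ 2 ^ n`). -/
theorem not_invariant_two_pow (W : X → Submodule k V)
    (Q : Subgroup G) (q : ℕ) (hq : q.Prime) (hq2 : q ≠ 2)
    (hQ : Nat.card Q = q) (hsemi : ∀ x, W x ≠ ⊥ → ∃ y ∈ Q, y • x ≠ x)
    (A : Set X) (hA : A.Finite) (hAΛ : A ⊆ {x | W x ≠ ⊥}) (n : ℕ) (hn : Nat.card A = 2 ^ n)
    (hinv : ∀ y ∈ Q, ∀ x ∈ A, y • x ∈ A) : False := by
  have h1 := prime_dvd_card_of_semiregular Q q hq hQ A hA hinv (fun x hx => hsemi x (hAΛ hx))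
  rw [hn] at h1
  have h2 := hq.dvd_of_dvd_pow h1
  exact hq2 ((Nat.prime_dvd_prime_iff_eq hq Nat.prime_two).mp h2)

/-- **(K1)** -/
theorem exists_fixed_supp_eq_orbit (ρ : G →* Module.End k V) (W : X → Submodule k V)
    (hI : DirectSum.IsInternal W) (hmap : ∀ g x, (W x).map (ρ g) = W (g • x))
    (P : Subgroup G) [Finite P] (hP : IsPGroup 2 P) (x : X) (hx : W x ≠ ⊥) :
    ∃ f ∈ fixS ρ P, f ≠ 0 ∧ supp W hI f = MulAction.orbit P x := by
  classical
  have hUne : (⨆ y ∈ MulAction.orbit P x, W y) ≠ ⊥ := by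
    intro h
    apply hx
    rw [eq_bot_iff, ← h]
    exact le_biSup W (MulAction.mem_orbit_self x)
  have hUinv : ∀ s ∈ P, ∀ u ∈ (⨆ y ∈ MulAction.orbit P x, W y),
      ρ s u ∈ (⨆ y ∈ MulAction.orbit P x, W y) := by
    intro s hs u hu
    have h1 : ρ s u ∈ (⨆ y ∈ MulAction.orbit P x, W y).map (ρ s) := Submodule.mem_map_of_mem hu
    simp only [Submodule.map_iSup, hmap] at h1
    refine (iSup₂_le ?_ : (⨆ y ∈ MulAction.orbit P x, W (s • y)) ≤ _) h1
    intro y hy
    refine le_biSup W ?_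
    obtain ⟨t, rfl⟩ := hy
    exact ⟨(⟨s, hs⟩ : P) * t, mul_smul (⟨s, hs⟩ : P) t x⟩
  obtain ⟨f, hfU, hf0, hfF⟩ := exists_fixed_vector ρ P hP _ hUne hUinv
  refine ⟨f, hfF, hf0, ?_⟩
  have hsub : supp W hI f ⊆ MulAction.orbit P x := supp_subset_of_mem_biSup W hI _ f hfU
  apply Set.Subset.antisymm hsub
  obtain ⟨y, hy⟩ : ∃ y, y ∈ supp W hI f := by
    by_contra hcon
    push Not at hcon
    exact hf0 (eq_zero_of_forall_proj W hI f (fun y => by_contra (fun h => hcon y h)))
  intro z hz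
  have e : MulAction.orbit P y = MulAction.orbit P x := MulAction.orbit_eq_iff.mpr (hsub hy)
  rw [← e] at hz
  obtain ⟨s, rfl⟩ := hz
  exact smul_mem_supp_of_fixed ρ W hI hmap P f hfF (s : G) s.2 y hy

theorem two_le_finrank_fixS (ρ : G →* Module.End k V) (W : X → Submodule k V)
    (hI : DirectSum.IsInternal W) (hmap : ∀ g x, (W x).map (ρ g) = W (g • x))
    (P Q : Subgroup G) [Finite P] (hP : IsPGroup 2 P) (q : ℕ) (hq : q.Prime) (hq2 : q ≠ 2)
    (hQ : Nat.card Q = q) (hsemi : ∀ x, W x ≠ ⊥ → ∃ y ∈ Q, y • x ≠ x) :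
    2 ≤ Module.finrank k (fixS ρ P) := by
  classical
  obtain ⟨x₁, hx₁⟩ := exists_ne_bot W hI
  have hΛfin := finite_ne_bot W hI
  -- the orbit of x₁ lies in Λ
  have hO₁ : MulAction.orbit P x₁ ⊆ {x | W x ≠ ⊥} := by
    rintro _ ⟨s, rfl⟩
    exact wt_smul_ne_bot ρ W hmap (s : G) x₁ hx₁
  -- a second orbit
  obtain ⟨x₂, hx₂, hx₂O⟩ : ∃ x₂, W x₂ ≠ ⊥ ∧ x₂ ∉ MulAction.orbit P x₁ := by
    by_contra hcon
    push Not at hcon
    have hEq : {x | W x ≠ ⊥} = MulAction.orbit P x₁ :=
      Set.Subset.antisymm (fun x hx => hcon x hx) hO₁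
    obtain ⟨n, hn⟩ := card_orbit_two_pow P hP x₁
    refine not_invariant_two_pow W Q q hq hq2 hQ hsemi (MulAction.orbit P x₁)
      (hΛfin.subset hO₁) hO₁ n hn ?_
    intro y _ x hx
    rw [← hEq]
    exact wt_smul_ne_bot ρ W hmap y x (hO₁ hx)
  obtain ⟨f₁, hf₁F, hf₁0, hf₁s⟩ := exists_fixed_supp_eq_orbit ρ W hI hmap P hP x₁ hx₁
  obtain ⟨f₂, hf₂F, hf₂0, hf₂s⟩ := exists_fixed_supp_eq_orbit ρ W hI hmap P hP x₂ hx₂
  have hdisj : Disjoint (MulAction.orbit P x₁) (MulAction.orbit P x₂) := by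
    rw [Set.disjoint_left]
    intro z hz1 hz2
    apply hx₂O
    have e1 := MulAction.orbit_eq_iff.mpr hz1
    have e2 := MulAction.orbit_eq_iff.mpr hz2
    rw [← e1, e2]
    exact MulAction.mem_orbit_self x₂
  have := card_le_finrank_of_disjoint_supp W hI (fixS ρ P) ![f₁, f₂]
    (by
      intro i
      fin_cases i
      · exact hf₁F
      · exact hf₂F)
    (by
      intro i
      fin_cases i
      · exact hf₁0
      · exact hf₂0)
    (by
      intro i j hij
      fin_cases i <;> fin_cases j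
      · exact absurd rfl hij
      · show Disjoint (supp W hI f₁) (supp W hI f₂)
        rw [hf₁s, hf₂s]; exact hdisj
      · show Disjoint (supp W hI f₂) (supp W hI f₁)
        rw [hf₁s, hf₂s]; exact hdisj.symm
      · exact absurd rfl hij)
  simpa using this

/-- key claim for TB -/
theorem disjoint_supp_of_ne_one (ρ : G →* Module.End k V) (W : X → Submodule k V)
    (hI : DirectSum.IsInternal W) (hmap : ∀ g x, (W x).map (ρ g) = W (g • x))
    (P Q : Subgroup G) [Finite P] (hP : IsPGroup 2 P) (q : ℕ) (hq : q.Prime) (hq2 : q ≠ 2)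
    (hQ : Nat.card Q = q) (hsemi : ∀ x, W x ≠ ⊥ → ∃ y ∈ Q, y • x ≠ x)
    (hQF : ∀ y ∈ Q, ∀ v ∈ fixS ρ P, ρ y v ∈ fixS ρ P)
    (x₁ : X) (f : V) (hfF : f ∈ fixS ρ P) (hfs : supp W hI f = MulAction.orbit P x₁)
    (g : G) (hg : g ∈ Q) (hg1 : g ≠ 1) :
    Disjoint (supp W hI f) (supp W hI (ρ g f)) := by
  classical
  rw [Set.disjoint_left]
  intro z hz1 hz2
  have hΛfin := finite_ne_bot W hI
  have hOΛ : MulAction.orbit P x₁ ⊆ {x | W x ≠ ⊥} := by
    rw [← hfs]; exact supp_subset_ne_bot W hI f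
  have hOfin : (MulAction.orbit P x₁).Finite := hΛfin.subset hOΛ
  have hgF : ρ g f ∈ fixS ρ P := hQF g hg f hfF
  -- the orbit is contained in T = supp (ρ g f)
  have hsub : MulAction.orbit P x₁ ⊆ supp W hI (ρ g f) := by
    intro w hw
    rw [hfs] at hz1
    -- w = s • z for some s ∈ P
    have e1 : MulAction.orbit P z = MulAction.orbit P x₁ := MulAction.orbit_eq_iff.mpr hz1
    rw [← e1] at hw
    obtain ⟨s, rfl⟩ := hw
    exact smul_mem_supp_of_fixed ρ W hI hmap P (ρ g f) hgF (s : G) s.2 z hz2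
  -- T is the image of the orbit under g
  have hT : supp W hI (ρ g f) = (fun x => g • x) '' (MulAction.orbit P x₁) := by
    ext w
    rw [mem_supp_rho_iff ρ W hI hmap, hfs]
    constructor
    · intro h
      exact ⟨g⁻¹ • w, h, smul_inv_smul g w⟩
    · rintro ⟨u, hu, rfl⟩
      rwa [inv_smul_smul]
  have hTeq : MulAction.orbit P x₁ = supp W hI (ρ g f) := by
    have hTfin : (supp W hI (ρ g f)).Finite := by rw [hT]; exact hOfin.image _
    refine Set.eq_of_subset_of_ncard_le hsub ?_ hTfin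
    rw [hT, Set.ncard_image_of_injective _ (MulAction.injective g)]
  -- so the orbit is g-invariant
  have hginv : ∀ u ∈ MulAction.orbit P x₁, g • u ∈ MulAction.orbit P x₁ := by
    intro u hu
    rw [hTeq, hT]
    exact ⟨u, hu, rfl⟩
  have hpow : ∀ m : ℕ, ∀ u ∈ MulAction.orbit P x₁, g ^ m • u ∈ MulAction.orbit P x₁ := by
    intro m
    induction m with
    | zero => intro u hu; rwa [pow_zero, one_smul]
    | succ m ih =>
      intro u hu
      rw [pow_succ, mul_smul]
      exact ih _ (hginv u hu)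
  -- Q is generated by g
  haveI : Fact q.Prime := ⟨hq⟩
  have hgen : Subgroup.zpowers (⟨g, hg⟩ : Q) = ⊤ :=
    zpowers_eq_top_of_prime_card hQ (fun h => hg1 (congrArg Subtype.val h))
  haveI : Finite Q := Nat.finite_of_card_ne_zero (by rw [hQ]; exact hq.ne_zero)
  have hQinv : ∀ y ∈ Q, ∀ u ∈ MulAction.orbit P x₁, y • u ∈ MulAction.orbit P x₁ := by
    intro y hy u hu
    have hmem : (⟨y, hy⟩ : Q) ∈ Subgroup.zpowers (⟨g, hg⟩ : Q) := by rw [hgen]; trivial
    rw [← mem_powers_iff_mem_zpowers] at hmem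
    obtain ⟨m, hm⟩ := hmem
    have : y = g ^ m := by
      have := congrArg Subtype.val hm
      simpa using this.symm
    rw [this]
    exact hpow m u hu
  obtain ⟨n, hn⟩ := card_orbit_two_pow P hP x₁
  exact not_invariant_two_pow W Q q hq hq2 hQ hsemi (MulAction.orbit P x₁) hOfin hOΛ n hn hQinv

theorem three_le_finrank_fixS (ρ : G →* Module.End k V) (W : X → Submodule k V)
    (hI : DirectSum.IsInternal W) (hmap : ∀ g x, (W x).map (ρ g) = W (g • x))
    (P Q : Subgroup G) [Finite P] (hP : IsPGroup 2 P) (q : ℕ) (hq : q.Prime) (hq2 : q ≠ 2)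
    (hQ : Nat.card Q = q) (hsemi : ∀ x, W x ≠ ⊥ → ∃ y ∈ Q, y • x ≠ x)
    (hQF : ∀ y ∈ Q, ∀ v ∈ fixS ρ P, ρ y v ∈ fixS ρ P) :
    3 ≤ Module.finrank k (fixS ρ P) := by
  classical
  obtain ⟨x₁, hx₁⟩ := exists_ne_bot W hI
  obtain ⟨f, hfF, hf0, hfs⟩ := exists_fixed_supp_eq_orbit ρ W hI hmap P hP x₁ hx₁
  -- pairwise disjointness for distinct elements of Q
  have hpair : ∀ a ∈ Q, ∀ b ∈ Q, a ≠ b →
      Disjoint (supp W hI (ρ a f)) (supp W hI (ρ b f)) := by
    intro a ha b hb hab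
    rw [Set.disjoint_left]
    intro z hz1 hz2
    have hg : a⁻¹ * b ∈ Q := Q.mul_mem (Q.inv_mem ha) hb
    have hg1 : a⁻¹ * b ≠ 1 := by
      intro h
      apply hab
      rw [inv_mul_eq_one] at h
      exact h
    have hd := disjoint_supp_of_ne_one ρ W hI hmap P Q hP q hq hq2 hQ hsemi hQF x₁ f hfF hfs
      (a⁻¹ * b) hg hg1
    rw [Set.disjoint_left] at hd
    apply hd ((mem_supp_rho_iff ρ W hI hmap a z f).mp hz1)
    rw [mem_supp_rho_iff ρ W hI hmap, mul_inv_rev, inv_inv, mul_smul]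
    rw [mem_supp_rho_iff ρ W hI hmap] at hz2
    rw [smul_inv_smul]
    exact hz2
  -- a nontrivial element of Q, of order q ≥ 3
  haveI : Fact q.Prime := ⟨hq⟩
  haveI : Finite Q := Nat.finite_of_card_ne_zero (by rw [hQ]; exact hq.ne_zero)
  obtain ⟨y, hy, hy1⟩ : ∃ y ∈ Q, y ≠ 1 := by
    by_contra hcon
    push Not at hcon
    have : Q = ⊥ := by
      rw [eq_bot_iff]
      intro y hy
      rw [Subgroup.mem_bot]
      exact hcon y hy
    rw [this, Subgroup.card_bot] at hQ
    exact hq.one_lt.ne hQ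
  have hord : orderOf y = q := by
    have h1 : orderOf (⟨y, hy⟩ : Q) ∣ q := by
      rw [← hQ]; exact orderOf_dvd_natCard _
    have h2 : orderOf (⟨y, hy⟩ : Q) ≠ 1 := by
      intro h
      rw [orderOf_eq_one_iff] at h
      exact hy1 (congrArg Subtype.val h)
    have h3 : orderOf (⟨y, hy⟩ : Q) = q := ((Nat.dvd_prime hq).mp h1).resolve_left h2
    rw [← h3]
    exact (Subgroup.orderOf_mk y hy).symm
  have hq3 : 3 ≤ q := by
    have := hq.two_le
    omega
  have hinj : ∀ i j : Fin 3, i ≠ j → y ^ (i : ℕ) ≠ y ^ (j : ℕ) := by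
    intro i j hij h
    apply hij
    have hi : (i : ℕ) < orderOf y := by rw [hord]; omega
    have hj : (j : ℕ) < orderOf y := by rw [hord]; omega
    exact Fin.ext (pow_injOn_Iio_orderOf hi hj h)
  have := card_le_finrank_of_disjoint_supp W hI (fixS ρ P) (fun i : Fin 3 => ρ (y ^ (i : ℕ)) f)
    (fun i => hQF _ (Q.pow_mem hy _) f hfF)
    (fun i h => hf0 (rho_injective ρ (y ^ (i : ℕ)) (by rw [h, map_zero])))
    (fun i j hij => hpair _ (Q.pow_mem hy _) _ (Q.pow_mem hy _) (hinj i j hij))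
  simpa using this

end thmA2

end Cfsg.Agent.Helper73.W44T
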